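import Cfsg.Agent.CosetCert.Kit

/-!
A traced word of a certificate lies in the subgroup, and subgroups of bounded order map injectively.
-/

set_option autoImplicit false

namespace Cfsg.Lib.FiTwenty

open Cfsg.Lib.CosetCert

/-- A closed trace through valid steps puts the value of its word into the subgroup. -/
theorem trace_mem {X : Type*} [Group X] (f : ℕ → X) {K : Subgroup X} {C : Cert} {R : List (List ℕ)}
    {spec : List (ℕ × ℕ × Bool)} {js : List (ℕ × ℕ)} {refs W : List ℕ} (hng : C.ng ≤ 15) (Λ : List ℕ)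
    (hrot : C.rotsOK R spec = true) (hs : C.stepsOK 0 js = true ∧ ruleBound spec.length js = true)
    (hw : C.walk js.length refs 0 0 = some (0, wcode W)) (hR : ∀ r ∈ R, wval f (r.map (pickL Λ)) = 1)
    (hsq : ∀ l, f (pickL Λ l) * f (pickL Λ l) = 1) (hsub : ∀ s ∈ C.subs, f (pickL Λ s) ∈ K)
    (hW : (W.all fun l => decide (l < 15)) = true) : wval f (W.map (pickL Λ)) ∈ K := by
  have e : ∀ r : List ℕ, wval f (r.map (pickL Λ)) = wval (fun k => f (pickL Λ k)) r := fun r => by
    rw [wval, wval, List.map_map]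
    rfl
  have hold := steps_sound C (fun k => f (pickL Λ k)) hng (fun l _ => hsq l) hrot
    (fun r hr => (e r).symm.trans (hR r hr)) (fun r _ l _ => hsq l) hsub js 0 hs.1 hs.2
    (fun i hi => absurd hi (Nat.not_lt_zero i))
  have h0 : C.rep (fun k => f (pickL Λ k)) 0 = 1 := by rw [Cert.rep, dif_neg (by omega)]
  obtain ⟨w, hwl, hwc, hmem⟩ := walk_sound C (fun k => f (pickL Λ k)) hng (fun l _ => hsq l)
    (fun i hi => hold i (by omega)) refs 0 0 [] (by simp) (by simp [wval, h0]) _
    (show C.walk js.length refs 0 (wcode []) = some (0, wcode W) from hw)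
  have hWw := wcode_inj (fun l hl => decide_eq_true_eq.mp (List.all_eq_true.1 hW l hl)) hwl hwc
  rw [h0, inv_one, mul_one, one_mul, ← hWw] at hmem
  rw [e]
  exact hmem

/-- A bounded subgroup with a large enough image meets the kernel trivially. -/
theorem eq_one_of_card {X Y : Type*} [Group X] [Group Y] [Finite X] (τ : X →* Y) (f : ℕ → X) (g : ℕ → Y)
    {S : List ℕ} (hfg : ∀ l ∈ S, τ (f l) = g l) {N : ℕ} (hle : Nat.card (lgp f S) ≤ N)
    (hge : N ≤ Nat.card (lgp g S)) {x : X} (hx : x ∈ lgp f S) (h1 : τ x = 1) : x = 1 := by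
  let r : lgp f S →* Y := τ.comp (lgp f S).subtype
  have hr : r.range = lgp g S := by
    rw [MonoidHom.range_eq_map, ← Subgroup.map_map, ← MonoidHom.range_eq_map, Subgroup.range_subtype, lgp, lgp,
      MonoidHom.map_closure]
    congr 1
    ext y
    constructor
    · rintro ⟨_, ⟨l, hl, rfl⟩, rfl⟩
      exact ⟨l, hl, (hfg l hl).symm⟩
    · rintro ⟨l, hl, rfl⟩
      exact ⟨f l, ⟨l, hl, rfl⟩, hfg l hl⟩
  have hsur : Function.Surjective r.rangeRestrict := r.rangeRestrict_surjective
  have hb : Function.Bijective r.rangeRestrict := (Nat.bijective_iff_surjective_and_card _).2 ⟨hsur, by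
    have h := Nat.card_le_card_of_surjective _ hsur
    have : Nat.card r.range = Nat.card (lgp g S) := by rw [hr]
    omega⟩
  exact congrArg Subtype.val (hb.1 (a₁ := (⟨x, hx⟩ : lgp f S)) (a₂ := 1) (Subtype.ext (by
    show τ x = r 1
    rw [h1, map_one])))

end Cfsg.Lib.FiTwenty
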