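import Cfsg.Agent.FiTwenty.LiftClass
import Cfsg.Agent.FiTwenty.TraceKit
import Cfsg.Agent.FiTwenty.SpiderCubeCheck
import Cfsg.Agent.FiTwenty.SpiderInPCheck
import Cfsg.Agent.FiTwenty.EightCertCheck
import Cfsg.Agent.Schur.Criteria

/-!
The presented Fischer group on ten letters has trivial multiplier.
-/

set_option autoImplicit false
set_option maxRecDepth 20000
set_option Elab.async false

namespace Cfsg.Lib.FiTwenty

open Cfsg.Lib.CosetCert
open scoped commutatorElement

/-- The Coxeter relators and the empty word. -/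
def coxWords : List (List ℕ) := [] :: (List.range 10).flatMap fun x => (List.range 10).map (pairWord x)

/-- The relators of the eleventh letter against the others. -/
def zWords : List (List ℕ) :=
  [10, 10] :: (10 :: zWord) :: (List.range 10).map fun k => rpt (if k = 9 then 3 else 2) [k, 10]

/-- The relator making two conjugate letters equal. -/
def eqWord : List ℕ := 1 :: (eqV ++ 2 :: eqV.reverse)

/-- All words of a list are among given ones. -/
def allIn (R : List (List ℕ)) (Λ : List ℕ) (W : List (List ℕ)) : Bool :=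
  R.all fun r => W.contains (r.map (pickL Λ)) && r.all fun l => decide (l < Λ.length)

theorem cube_data : allIn SpiderCube.rels [1, 2, 3, 4, 5, 6, 7, 8] (eqWord :: coxWords) = true ∧
    SpiderCube.word.map (pickL [1, 2, 3, 4, 5, 6, 7, 8]) = rpt 30 spiderBase ∧
    (SpiderCube.word.all fun l => decide (l < 15)) = true ∧
    SpiderCube.cert.subs.map (pickL [1, 2, 3, 4, 5, 6, 7, 8]) = [1, 2, 3, 4, 5, 6, 7] := by decide +kernel

theorem inP_data : allIn SpiderInP.rels [1, 2, 3, 4, 5, 6, 7, 8, 9, 10] (coxWords ++ zWords) = true ∧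
    SpiderInP.word.map (pickL [1, 2, 3, 4, 5, 6, 7, 8, 9, 10]) = rpt 10 spiderBase ∧
    (SpiderInP.word.all fun l => decide (l < 15)) = true ∧
    SpiderInP.cert.subs.map (pickL [1, 2, 3, 4, 5, 6, 7, 8, 9, 10]) = [1, 2, 3, 4, 5, 6, 7, 9, 10] := by
  decide +kernel

theorem eight_data : allIn EightCert.rels [1, 2, 3, 4, 5, 6, 7, 9, 10] (coxWords ++ zWords) = true ∧
    EightCert.cert.subs.map (pickL [1, 2, 3, 4, 5, 6, 7, 9, 10]) = [1, 2, 3, 4, 5, 6, 7, 10] := by decide +kernel

open Cfsg.Lib.FiPres in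
theorem low_data : allIn D0.rels [2, 3, 4, 7] coxWords = true ∧ allIn D1.rels [2, 3, 4, 5, 7] coxWords = true ∧
    allIn D2.rels [2, 3, 4, 5, 6, 7] coxWords = true ∧
    allIn D3.rels [1, 2, 3, 4, 5, 6, 7] coxWords = true ∧
    subsIn D0.cert.subs [2, 3, 4, 7] [] = true ∧ subsIn D1.cert.subs [2, 3, 4, 5, 7] [2, 3, 4, 7] = true ∧
    subsIn D2.cert.subs [2, 3, 4, 5, 6, 7] [2, 3, 4, 5, 7] = true ∧
    subsIn D3.cert.subs [1, 2, 3, 4, 5, 6, 7] [2, 3, 4, 5, 6, 7] = true := by decide +kernel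

section
variable {X : Type*} [Group X] (f : ℕ → X)

theorem allIn_spec {R : List (List ℕ)} {Λ : List ℕ} {W : List (List ℕ)} (h : allIn R Λ W = true)
    (hW : ∀ w ∈ W, wval f w = 1) : (∀ r ∈ R, wval f (r.map (pickL Λ)) = 1) ∧
    (R.all fun r => r.all fun l => decide (l < Λ.length)) = true := by
  simp only [allIn, List.all_eq_true, Bool.and_eq_true, List.contains_iff_mem] at h
  exact ⟨fun r hr => hW _ (h r hr).1, List.all_eq_true.2 fun r hr => List.all_eq_true.2 fun l hl => (h r hr).2 l hl⟩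

theorem bound_step {C : Cert} {R : List (List ℕ)} (hC : C.Valid R) (Λ S : List ℕ) (hng : C.ng = Λ.length)
    (hrel : allIn R Λ coxWords = true) (hcox : ∀ w ∈ coxWords, wval f w = 1) (hsq : ∀ l, f l * f l = 1)
    (hsub : subsIn C.subs Λ S = true) (hK : Finite (lgp f S)) :
    Finite (lgp f Λ) ∧ Nat.card (lgp f Λ) ≤ C.fin.length * Nat.card (lgp f S) := by
  haveI := hK
  obtain ⟨h1, h2⟩ := allIn_spec f hrel hcox
  exact lgp_bound f hC Λ hng h1 h2 (fun l _ => hsq l) fun s hs =>
    lgp_mem f (List.contains_iff_mem.1 (List.all_eq_true.1 hsub s hs))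

open Cfsg.Lib.FiPres in
theorem bound_seven [Finite X] (hcox : ∀ w ∈ coxWords, wval f w = 1) (hsq : ∀ l, f l * f l = 1) :
    Nat.card (lgp f [1, 2, 3, 4, 5, 6, 7]) ≤ 2903040 := by
  obtain ⟨r0, r1, r2, r3, s0, s1, s2, s3⟩ := low_data
  have hb : Nat.card (lgp f []) = 1 := by
    rw [show lgp f [] = ⊥ by simp [lgp]]
    exact Subgroup.card_bot
  have h0 := (bound_step f D0.valid [2, 3, 4, 7] [] rfl r0 hcox hsq s0 inferInstance).2
  have h1 := (bound_step f D1.valid [2, 3, 4, 5, 7] [2, 3, 4, 7] rfl r1 hcox hsq s1 inferInstance).2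
  have h2 := (bound_step f D2.valid [2, 3, 4, 5, 6, 7] [2, 3, 4, 5, 7] rfl r2 hcox hsq s2 inferInstance).2
  have h3 := (bound_step f D3.valid [1, 2, 3, 4, 5, 6, 7] [2, 3, 4, 5, 6, 7] rfl r3 hcox hsq s3 inferInstance).2
  rw [D0.fins_length, hb] at h0
  rw [D1.fins_length] at h1
  rw [D2.fins_length] at h2
  rw [D3.fins_length] at h3
  omega

theorem zWord_in : inLetters [1, 2, 3, 4, 5, 6, 7] zWord = true := by decide +kernel

theorem ten_mem (hz : ∀ w ∈ zWords, wval f w = 1) : f 10 ∈ lgp f [1, 2, 3, 4, 5, 6, 7] := by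
  have e := hz (10 :: zWord) (by simp [zWords])
  rw [wval_cons] at e
  rw [eq_inv_of_mul_eq_one_left e]
  exact inv_mem (lgp_wval f zWord_in)

theorem bound_eight [Finite X] (hcox : ∀ w ∈ coxWords, wval f w = 1) (hz : ∀ w ∈ zWords, wval f w = 1)
    (hsq : ∀ l, f l * f l = 1) : Nat.card (lgp f [1, 2, 3, 4, 5, 6, 7, 9, 10]) ≤ 348364800 := by
  obtain ⟨h1, h2⟩ := allIn_spec f eight_data.1 fun w hw => (List.mem_append.1 hw).elim (hcox w) (hz w)
  have h := (lgp_bound f EightCert.valid [1, 2, 3, 4, 5, 6, 7, 9, 10] rfl h1 h2 (fun l _ => hsq l)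
    (K := lgp f [1, 2, 3, 4, 5, 6, 7]) fun s hs => by
      have hm : pickL [1, 2, 3, 4, 5, 6, 7, 9, 10] s ∈ [1, 2, 3, 4, 5, 6, 7, 10] :=
        eight_data.2 ▸ List.mem_map.2 ⟨s, hs, rfl⟩
      rcases List.mem_append.1 (show pickL [1, 2, 3, 4, 5, 6, 7, 9, 10] s ∈ [1, 2, 3, 4, 5, 6, 7] ++ [10] from hm)
        with hm | hm
      · exact lgp_mem f hm
      · rw [List.mem_singleton.1 hm]
        exact ten_mem f hz).2
  rw [EightCert.fins_length] at h
  have := bound_seven f hcox hsq
  omega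

theorem cube_mem (hcox : ∀ w ∈ coxWords, wval f w = 1) (heq : wval f eqWord = 1) (hsq : ∀ l, f l * f l = 1) :
    wval f (rpt 30 spiderBase) ∈ lgp f [1, 2, 3, 4, 5, 6, 7] := by
  obtain ⟨h1, -⟩ := allIn_spec f cube_data.1 fun w hw => (List.mem_cons.1 hw).elim (fun e => e ▸ heq) (hcox w)
  rw [← cube_data.2.1]
  exact trace_mem f (by decide) _ SpiderCube.spec_ok SpiderCube.steps_ok SpiderCube.trace_ok h1 (fun l => hsq _)
    (fun s hs => lgp_mem f (cube_data.2.2.2 ▸ List.mem_map.2 ⟨s, hs, rfl⟩)) cube_data.2.2.1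

theorem inP_mem (hcox : ∀ w ∈ coxWords, wval f w = 1) (hz : ∀ w ∈ zWords, wval f w = 1) (hsq : ∀ l, f l * f l = 1) :
    wval f (rpt 10 spiderBase) ∈ lgp f [1, 2, 3, 4, 5, 6, 7, 9, 10] := by
  obtain ⟨h1, -⟩ := allIn_spec f inP_data.1 fun w hw => (List.mem_append.1 hw).elim (hcox w) (hz w)
  rw [← inP_data.2.1]
  exact trace_mem f (by decide) _ SpiderInP.spec_ok SpiderInP.steps_ok SpiderInP.trace_ok h1 (fun l => hsq _)
    (fun s hs => lgp_mem f (inP_data.2.2.2 ▸ List.mem_map.2 ⟨s, hs, rfl⟩)) inP_data.2.2.1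

end

theorem z_nine : imZ 9 * imZ 10 * imZ 9 = imZ 10 * imZ 9 * imZ 10 := by
  haveI := transitive
  obtain ⟨g, hg⟩ := letter_transp (show 9 < 10 by norm_num)
  rw [← imZ_low (show 9 < 10 by norm_num)] at hg
  have h9 : imZ 9 * imZ 9 = 1 := imZ_sq (by norm_num)
  have key := three_transp g
  rw [← hg] at key
  rcases key with h | h
  · exfalso
    rw [sq] at h
    have hc : imZ 9 * imZ 10 = imZ 10 * imZ 9 := by
      rw [← inv_eq_of_mul_eq_one_left h, mul_inv_rev, inv_eq_of_mul_eq_one_left h9,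
        inv_eq_of_mul_eq_one_left z_sq]
    have hm : imZ 9 ∈ lgp imZ lamH := centralizer_z ▸ Subgroup.mem_centralizer_singleton_iff.2 hc
    rw [← stab_eq, MulAction.mem_stabilizer_iff] at hm
    have hv : ((((wval imZ [9])⁻¹ : Cfsg.Spor.Fi23) • p0 : Fin 31671) : ℕ) = subBase2 := by
      rw [smul_eq, map_inv]
      exact (evalW_apply imZ psi sigTabs psi_act [9] (by simp; decide) p0).trans (beq_iff_eq.1 words_ok.2.2.2.2.2.1)
    rw [show wval imZ [9] = imZ 9 by simp [wval], inv_eq_of_mul_eq_one_left h9, hm] at hv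
    exact absurd hv (by decide)
  · rw [pow_succ, pow_succ, pow_one] at h
    have h' : imZ 10 * imZ 9 * imZ 10 * (imZ 9 * imZ 10 * imZ 9) = 1 := by simpa only [mul_assoc] using h
    rw [← inv_eq_of_mul_eq_one_left h', mul_inv_rev, mul_inv_rev, inv_eq_of_mul_eq_one_left h9,
      inv_eq_of_mul_eq_one_left z_sq, mul_assoc]

section
variable {Γ : Type*} [Group Γ] {σ : Γ →* Cfsg.Spor.Fi23} {zt : Γ} {A : ℕ → Γ}

theorem Lifts.cox (h : Central σ) (L : Lifts σ zt A) (h2 : zt * zt = 1) : ∀ w ∈ coxWords, wval A w = 1 := by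
  intro w hw
  rcases List.mem_cons.1 hw with rfl | hw
  · rfl
  obtain ⟨x, hx, hw⟩ := List.mem_flatMap.1 hw
  obtain ⟨y, hy, rfl⟩ := List.mem_map.1 hw
  rw [List.mem_range] at hx hy
  have sq : ∀ k, k < 10 → A k * A k = 1 := fun k hk => (L.sq h (Nat.lt_succ_of_lt hk)).trans h2
  rcases pair_cases hx hy with ⟨rfl, hp⟩ | hp | hp
  · rw [hp, wval_cons, wval_cons, wval_nil, mul_one, sq x hx]
  · rw [hp, wval_rpt, wval_cons, wval_cons, wval_nil, mul_one, pow_two]
    calc A x * A y * (A x * A y) = A x * (A y * A x) * A y := by group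
      _ = A x * A x * (A y * A y) := by rw [← L.low_comm h x y hx hy hp]; group
      _ = 1 := by rw [sq x hx, sq y hy, one_mul]
  · rw [hp, wval_rpt, wval_cons, wval_cons, wval_nil, mul_one]
    have e := L.braid h (Nat.lt_succ_of_lt hx) (Nat.lt_succ_of_lt hy) (imZ_sq hx) (imZ_sq hy)
      (by rw [imZ_low hx, imZ_low hy]; exact good_braid hx hy hp)
    rw [inv_eq_of_mul_eq_one_left (sq x hx), inv_eq_of_mul_eq_one_left (sq y hy)] at e
    rw [pow_succ, pow_succ, pow_one]
    calc A x * A y * (A x * A y) * (A x * A y) = (A x * A y * A x) * (A y * A x * A y) := by group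
      _ = A y * A x * (A y * A y) * A x * A y := by rw [e]; group
      _ = 1 := by rw [sq y hy, mul_one, mul_assoc (A y), sq x hx, mul_one, sq y hy]

theorem Lifts.eqWord_one (h : Central σ) (L : Lifts σ zt A) (h2 : zt * zt = 1) : wval A eqWord = 1 := by
  have sq : ∀ k, k < 11 → A k * A k = 1 := fun k hk => (L.sq h hk).trans h2
  have hl : ∀ l ∈ eqV, l < 10 := by decide
  obtain ⟨g1, e1⟩ := L.conj 1 (by norm_num)
  obtain ⟨g2, e2⟩ := L.conj 2 (by norm_num)
  have e : A 1 = wval A eqV * A 2 * (wval A eqV)⁻¹ := by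
    refine h.eq_lift L.z ⟨g1, e1⟩ ⟨wval A eqV * g2, by rw [e2]; group⟩ ?_
    rw [map_mul, map_mul, map_inv, L.map_low hl, L.map 1 (by norm_num), L.map 2 (by norm_num),
      imZ_low (by norm_num), imZ_low (by norm_num)]
    exact eq_spec
  rw [eqWord, wval_cons, wval_append, wval_cons,
    wval_reverse A (fun l hl' => sq l (Nat.lt_succ_of_lt (hl l hl'))), ← mul_assoc (wval A eqV), ← e]
  exact sq 1 (by norm_num)

theorem Lifts.z_letter (h : Central σ) (L : Lifts σ zt A) (h2 : zt * zt = 1) {k : ℕ} (hk : k < 10) :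
    wval A (rpt (if k = 9 then 3 else 2) [k, 10]) = 1 := by
  have sq : ∀ j, j < 11 → A j * A j = 1 := fun j hj => (L.sq h hj).trans h2
  have sk := sq k (Nat.lt_succ_of_lt hk)
  have sz := sq 10 (by norm_num)
  rw [wval_rpt, wval_cons, wval_cons, wval_nil, mul_one]
  split_ifs with h9
  · subst h9
    have e := L.braid h (x := 9) (y := 10) (by norm_num) (by norm_num) (imZ_sq (by norm_num)) z_sq z_nine
    rw [inv_eq_of_mul_eq_one_left sk, inv_eq_of_mul_eq_one_left sz] at e
    rw [pow_succ, pow_succ, pow_one]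
    calc A 9 * A 10 * (A 9 * A 10) * (A 9 * A 10) = (A 9 * A 10 * A 9) * (A 10 * A 9 * A 10) := by group
      _ = A 10 * A 9 * (A 10 * A 10) * A 9 * A 10 := by rw [e]; group
      _ = 1 := by rw [sz, mul_one, mul_assoc (A 10), sk, mul_one, sz]
  · have hm : k ∈ lamH := (show ∀ k < 10, k ≠ 9 → k ∈ lamH by decide) k hk h9
    have e := L.commute h (Nat.lt_succ_of_lt hk) (show 10 < 11 by norm_num) (z_comm (lgp_mem imZ hm))
    rw [pow_two]
    calc A k * A 10 * (A k * A 10) = A k * (A 10 * A k) * A 10 := by group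
      _ = A k * A k * (A 10 * A 10) := by rw [← e]; group
      _ = 1 := by rw [sk, sz, one_mul]

end

theorem spider_three : rpt 30 spiderBase = rpt 10 spiderBase ++ (rpt 10 spiderBase ++ rpt 10 spiderBase) := by
  decide +kernel

/-- Every stem extension is trivial. -/
theorem stem_ker {Γ : Type*} [Group Γ] [Finite Γ] {σ : Γ →* Cfsg.Spor.Fi23} (hσ : Cfsg.IsStemExtension σ) :
    σ.ker = ⊥ := by
  have h : Central σ := ⟨hσ.1, hσ.2.1⟩
  obtain ⟨zt, A, L, h2, h7⟩ := exists_exact h
  -- all letters from the eleventh on get the same lift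
  let f : ℕ → Γ := fun k => A (min k 10)
  have hf : ∀ k, k < 11 → f k = A k := fun k hk => by
    show A (min k 10) = A k
    rw [min_eq_left (Nat.le_of_lt_succ hk)]
  have hfw : ∀ {w : List ℕ}, (∀ l ∈ w, l < 11) → wval f w = wval A w :=
    fun hw => wval_congr fun l hl => hf l (hw l hl)
  have hsq : ∀ l, f l * f l = 1 := fun l => (L.sq h (show min l 10 < 11 by omega)).trans h2
  have hcl : ∀ w ∈ coxWords, ∀ l ∈ w, l < 11 := by decide +kernel
  have hcox : ∀ w ∈ coxWords, wval f w = 1 := fun w hw => by rw [hfw (hcl w hw), L.cox h h2 w hw]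
  have heq : wval f eqWord = 1 := by rw [hfw (by decide +kernel), L.eqWord_one h h2]
  -- the spider word
  set e := wval f (rpt 10 spiderBase) with he
  have hσf : ∀ l, l < 11 → σ (f l) = imZ l := fun l hl => by rw [hf l hl, L.map l hl]
  have he1 : σ e = 1 := by
    rw [he, hfw (by decide +kernel), L.map_low (by decide +kernel)]
    exact good_im _ (List.mem_append_right _ (by simp [extraWords, spiderBase]))
  have he3 : e * (e * e) = 1 := by
    refine eq_one_of_card σ f imZ (S := [1, 2, 3, 4, 5, 6, 7]) (fun l hl => hσf l ?_) (bound_seven f hcox hsq)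
      card_seven ?_ ?_
    · exact (show ∀ l ∈ [1, 2, 3, 4, 5, 6, 7], l < 11 by decide) l hl
    · have := cube_mem f hcox heq hsq
      rwa [spider_three, wval_append, wval_append] at this
    · rw [map_mul, map_mul, he1, one_mul, one_mul]
  -- the sign of the eleventh letter
  set t := f 10 * wval f zWord with ht
  have ht1 : σ t = 1 := by
    rw [ht, map_mul, hσf 10 (by norm_num), hfw (fun l hl => Nat.lt_succ_of_lt (zWord_lt l hl)), L.map_low zWord_lt]
    exact z_sq
  have ht2 : t * t = 1 := by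
    have hmem : σ (wval f zWord) ∈ lgp imZ lamH := by
      rw [hfw (fun l hl => Nat.lt_succ_of_lt (zWord_lt l hl)), L.map_low zWord_lt]
      exact z_mem
    have hcm : wval f zWord * f 10 = f 10 * wval f zWord := by
      rw [hf 10 (by norm_num), L.ten]
      exact h.z_comm L.z hmem
    obtain ⟨g, hg, eg⟩ := opsApply_sound f (S := chainBase) (fun x y hx hy hp => by
      rw [hf x (Nat.lt_succ_of_lt hx), hf y (Nat.lt_succ_of_lt hy)]; exact L.low_comm h x y hx hy hp)
      revOpsSeven chainBase chainBase.reverse revOpsSeven_ok fun _ hl => hl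
    have hgz : g * f 10 = f 10 * g := by
      rw [hf 10 (by norm_num), L.ten]
      refine h.z_comm L.z ?_
      clear eg
      induction hg using Subgroup.closure_induction with
      | mem x hx =>
        obtain ⟨l, hl, rfl⟩ := hx
        rw [hσf l ((show ∀ l ∈ chainBase, l < 11 by decide) l hl)]
        exact lgp_mem imZ ((show ∀ l ∈ chainBase, l ∈ lamH by decide) l hl)
      | one => rw [map_one]; exact one_mem _
      | mul x y _ _ hx hy => rw [map_mul]; exact mul_mem hx hy
      | inv x _ hx => rw [map_inv]; exact inv_mem hx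
    have hgw : g * wval f zWord * g⁻¹ = wval f zWord := by
      calc g * wval f zWord * g⁻¹ = g * ((f 10)⁻¹ * t) * g⁻¹ := by rw [ht]; group
        _ = g * (f 10)⁻¹ * (t * g⁻¹) := by group
        _ = g * (f 10)⁻¹ * (g⁻¹ * t) := by rw [h.comm ht1 g⁻¹]
        _ = (g * f 10 * g⁻¹)⁻¹ * t := by group
        _ = wval f zWord := by rw [hgz, mul_inv_cancel_right, ht]; group
    have hrev : wval f (zWord.reverse) = wval f zWord := by
      rw [show zWord.reverse = rpt 9 chainBase.reverse from beq_iff_eq.1 rev_facts.2.1, wval_rpt, ← eg, conj_pow,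
        ← wval_rpt]
      exact hgw
    rw [wval_reverse f (fun l _ => hsq l)] at hrev
    calc t * t = f 10 * (wval f zWord * f 10) * wval f zWord := by rw [ht]; group
      _ = f 10 * f 10 * (wval f zWord * wval f zWord) := by rw [hcm]; group
      _ = 1 := by rw [hsq, one_mul]; nth_rw 1 [← hrev]; exact inv_mul_cancel _
  -- modulo the sign the spider word is trivial
  haveI hN : (Subgroup.zpowers t).Normal := ⟨fun n hn g => by
    have hn1 : σ n = 1 := by
      obtain ⟨i, rfl⟩ := Subgroup.mem_zpowers_iff.1 hn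
      rw [map_zpow, ht1, one_zpow]
    rwa [h.comm hn1 g, mul_inv_cancel_right]⟩
  let p := QuotientGroup.mk' (Subgroup.zpowers t)
  let τ := QuotientGroup.lift (Subgroup.zpowers t) σ (Subgroup.zpowers_le.2 (MonoidHom.mem_ker.2 ht1))
  have hmap : ∀ w, p (wval f w) = wval (fun k => p (f k)) w := fun w => map_wval f p w
  have hqc : ∀ w ∈ coxWords, wval (fun k => p (f k)) w = 1 := fun w hw => by rw [← hmap, hcox w hw, map_one]
  have hqz : ∀ w ∈ zWords, wval (fun k => p (f k)) w = 1 := fun w hw => by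
    rw [← hmap]
    simp only [zWords, List.mem_cons, List.mem_map, List.mem_range] at hw
    rcases hw with rfl | rfl | ⟨k, hk, rfl⟩
    · rw [wval_cons, wval_cons, wval_nil, mul_one, hsq, map_one]
    · rw [wval_cons]
      exact (QuotientGroup.eq_one_iff _).2 (Subgroup.mem_zpowers t)
    · rw [hfw (fun l hl => ?_), L.z_letter h h2 hk, map_one]
      obtain ⟨v, hv, hl⟩ := List.mem_flatten.1 hl
      rw [List.eq_of_mem_replicate hv] at hl
      simp only [List.mem_cons, List.not_mem_nil, or_false] at hl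
      omega
  have hqs : ∀ l, p (f l) * p (f l) = 1 := fun l => by rw [← map_mul, hsq, map_one]
  have hpe : p e = 1 := by
    refine eq_one_of_card τ (fun k => p (f k)) imZ (S := [1, 2, 3, 4, 5, 6, 7, 9, 10]) (fun l hl => ?_)
      (bound_eight _ hqc hqz hqs) card_eight ?_ ?_
    · show σ (f l) = imZ l
      exact hσf l ((show ∀ l ∈ [1, 2, 3, 4, 5, 6, 7, 9, 10], l < 11 by decide) l hl)
    · rw [he, hmap]
      exact inP_mem _ hqc hqz hqs
    · exact he1
  have he2 : e * e = 1 := by
    obtain ⟨i, hi⟩ := Subgroup.mem_zpowers_iff.1 ((QuotientGroup.eq_one_iff _).1 hpe)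
    rw [← hi, ← zpow_add, ← two_mul, zpow_mul, zpow_two, ht2, one_zpow]
  have he0 : e = 1 := by rwa [he2, mul_one] at he3
  -- all relators hold, so the extension splits
  have hgood : Good f := by
    intro w hw
    rcases List.mem_append.1 hw with hw | hw
    · exact hcox w (List.mem_cons_of_mem _ hw)
    · simp only [extraWords, List.mem_cons, List.not_mem_nil, or_false] at hw
      rcases hw with rfl | rfl
      · exact he0
      · rw [hfw (by decide +kernel)]; exact h7
  let s := toGrp hgood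
  have hs : ∀ x, σ (s x) = x := by
    intro x
    have hx : x ∈ lgp imZ (List.range 10) := lgp_top ▸ Subgroup.mem_top x
    induction hx using Subgroup.closure_induction with
    | mem y hy =>
      obtain ⟨l, hl, rfl⟩ := hy
      rw [List.mem_range] at hl
      rw [imZ_low hl, toGrp_im hgood hl, hσf l (Nat.lt_succ_of_lt hl), imZ_low hl]
    | one => rw [map_one, map_one]
    | mul a b _ _ ha hb => rw [map_mul, map_mul, ha, hb]
    | inv a _ ha => rw [map_inv, map_inv, ha]
  have hk : ∀ g, σ ((s (σ g))⁻¹ * g) = 1 := fun g => by rw [map_mul, map_inv, hs, inv_mul_cancel]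
  have hd : commutator Γ ≤ s.range := by
    rw [commutator_def, Subgroup.commutator_le]
    intro a _ b _
    refine ⟨⁅σ a, σ b⁆, ?_⟩
    have ea : a = s (σ a) * ((s (σ a))⁻¹ * a) := by group
    have eb : b = s (σ b) * ((s (σ b))⁻¹ * b) := by group
    rw [map_commutatorElement]
    conv_rhs => rw [ea, eb]
    have key : ∀ x y i j : Γ, (∀ g, g * i = i * g) → (∀ g, g * j = j * g) → ⁅x * i, y * j⁆ = ⁅x, y⁆ := by
      intro x y i j hi hj
      rw [commutatorElement_def, commutatorElement_def]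
      calc x * i * (y * j) * (x * i)⁻¹ * (y * j)⁻¹ = x * (i * y) * (j * i⁻¹) * x⁻¹ * j⁻¹ * y⁻¹ := by group
        _ = x * y * (i * (j * i⁻¹)) * x⁻¹ * j⁻¹ * y⁻¹ := by rw [← hi y]; group
        _ = x * y * (j * x⁻¹) * j⁻¹ * y⁻¹ := by rw [show i * (j * i⁻¹) = j by rw [← mul_assoc, ← hi j]; group]; group
        _ = _ := by rw [← hj x⁻¹]; group
    exact (key _ _ _ _ (h.comm (hk a)) (h.comm (hk b))).symm
  refine (Subgroup.eq_bot_iff_forall _).2 fun k hk' => ?_
  obtain ⟨x, rfl⟩ := hd (hσ.2.2 hk')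
  rw [MonoidHom.mem_ker, hs] at hk'
  rw [hk', map_one]

theorem multiplier : Cfsg.HasCyclicSchurMultiplier Cfsg.Spor.Fi23 1 :=
  Cfsg.Lib.Schur.hasCyclicSchurMultiplier_one_of fun _ _ _ _ hσ => stem_ker hσ

end Cfsg.Lib.FiTwenty
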