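import Cfsg.Agent.FiTwenty.Simple
import Cfsg.Agent.FiPres.Transp

/-!
The point stabiliser is a non-split double cover of the presented group on nine letters.
-/

set_option autoImplicit false
set_option maxRecDepth 20000

namespace Cfsg.Lib.FiTwenty

open Cfsg.Lib.CosetCert Cfsg.Lib.PermCert

theorem sub_ok : allFrom 0 3510 (fun j => decide (ap subPts j < 31671) && (ap subIdx (ap subPts j) == j) &&
    (ap sig10 (ap subPts j) == ap subPts j) &&
    lamH.all fun l => ap (sigTabs.getD l (0, 0)).1 (ap subPts j) ==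
      ap subPts (ap (Cfsg.Lib.FiPres.sigTabs.getD l (0, 0)).1 j)) = true := by decide +kernel

theorem sub_spec (j : Fin 3510) : ap subPts j < 31671 ∧ ap subIdx (ap subPts j) = j.val ∧
    ap sig10 (ap subPts j) = ap subPts j ∧
    ∀ l ∈ lamH, ap (sigTabs.getD l (0, 0)).1 (ap subPts j) =
      ap subPts (ap (Cfsg.Lib.FiPres.sigTabs.getD l (0, 0)).1 j) := by
  have := allFrom_zero sub_ok j.isLt
  simp only [Bool.and_eq_true, decide_eq_true_eq, beq_iff_eq, List.all_eq_true] at this
  exact ⟨this.1.1.1, this.1.1.2, this.1.2, this.2⟩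

attribute [local irreducible] sig0 sig1 sig2 sig3 sig4 sig5 sig6 sig7 sig8 sig9 sig10 subPts subIdx subTree1Mask subTree2Mask
/-- The points of the smaller suborbit. -/
def subFn (j : Fin 3510) : Fin 31671 := ⟨ap subPts j, (sub_spec j).1⟩

theorem subFn_inj : Function.Injective subFn := fun i j e => Fin.ext (by
  rw [← (sub_spec i).2.1, ← (sub_spec j).2.1, show ap subPts i = ap subPts j from congrArg Fin.val e])

/-- An element acts on the smaller suborbit as one of the group on nine letters. -/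
def Agrees (g : Cfsg.Spor.Fi23) (f : Cfsg.Spor.Fi22) : Prop :=
  ∀ j, psi g (subFn j) = subFn (Cfsg.Lib.FiPres.psi f j)

theorem Agrees.unique {g : Cfsg.Spor.Fi23} {f f' : Cfsg.Spor.Fi22} (h : Agrees g f) (h' : Agrees g f') : f = f' :=
  Cfsg.Lib.FiPres.factG.2 (Equiv.ext fun j => subFn_inj ((h j).symm.trans (h' j)))

theorem agrees_one : Agrees 1 1 := fun j => by rw [map_one, map_one]; rfl

theorem Agrees.mul {g g' : Cfsg.Spor.Fi23} {f f' : Cfsg.Spor.Fi22} (h : Agrees g f) (h' : Agrees g' f') :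
    Agrees (g * g') (f * f') := fun j => by
  rw [map_mul, map_mul, Equiv.Perm.mul_apply, Equiv.Perm.mul_apply, h' j, h]

theorem Agrees.inv {g : Cfsg.Spor.Fi23} {f : Cfsg.Spor.Fi22} (h : Agrees g f) : Agrees g⁻¹ f⁻¹ := fun j => by
  rw [map_inv, map_inv, Equiv.Perm.inv_eq_iff_eq, h, ← Equiv.Perm.mul_apply, mul_inv_cancel, Equiv.Perm.one_apply]

theorem agrees_gen {l : ℕ} (hl : l ∈ lamH) : Agrees (imZ l) (Cfsg.Lib.FiPres.im10 l) := fun j => by
  have h9 : l < 9 := (show ∀ l ∈ lamH, l < 9 by decide) l hl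
  obtain ⟨hv, e⟩ := psi_act l (show l < 11 by omega)
  obtain ⟨hv', e'⟩ := Cfsg.Lib.FiPres.psi_act l (show l < 10 by omega)
  refine Fin.ext ?_
  show ((psi (imZ l) (subFn j) : Fin 31671) : ℕ) = ap subPts (Cfsg.Lib.FiPres.psi (Cfsg.Lib.FiPres.im10 l) j).val
  rw [e, e', perm_apply hv, perm_apply hv']
  exact (sub_spec j).2.2.2 l hl

theorem exists_agrees {g : Cfsg.Spor.Fi23} (hg : g ∈ lgp imZ lamH) : ∃ f, Agrees g f := by
  induction hg using Subgroup.closure_induction with
  | mem x hx =>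
    obtain ⟨l, hl, rfl⟩ := hx
    exact ⟨_, agrees_gen hl⟩
  | one => exact ⟨1, agrees_one⟩
  | mul x y _ _ hx hy => exact ⟨_, hx.choose_spec.mul hy.choose_spec⟩
  | inv x _ hx => exact ⟨_, hx.choose_spec.inv⟩

/-- The map onto the group on nine letters. -/
noncomputable def down : lgp imZ lamH →* Cfsg.Spor.Fi22 :=
  MonoidHom.mk' (fun g => (exists_agrees g.2).choose) fun a b =>
    (exists_agrees (a * b).2).choose_spec.unique ((exists_agrees a.2).choose_spec.mul (exists_agrees b.2).choose_spec)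

theorem down_eq {g : lgp imZ lamH} {f : Cfsg.Spor.Fi22} (h : Agrees g.1 f) : down g = f :=
  (exists_agrees g.2).choose_spec.unique h

theorem down_surjective : Function.Surjective down := by
  rw [← MonoidHom.range_eq_top, ← top_le_iff, ← Cfsg.Lib.FiPres.lgp_top]
  refine (Subgroup.closure_le _).2 ?_
  rintro _ ⟨l, hl, rfl⟩
  exact ⟨⟨imZ l, lgp_mem imZ hl⟩, down_eq (agrees_gen hl)⟩

theorem z_mem : imZ 10 ∈ lgp imZ lamH := by
  rw [show imZ 10 = wval im zWord from rfl, ← wval_low zWord_lt]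
  exact lgp_wval imZ (by decide)

/-- The central involution. -/
noncomputable def zH : lgp imZ lamH := ⟨imZ 10, z_mem⟩

theorem down_z : down zH = 1 := down_eq fun j => by
  obtain ⟨hv, e⟩ := psi_act 10 (by decide)
  refine Fin.ext ?_
  show ((psi (imZ 10) (subFn j) : Fin 31671) : ℕ) = _
  rw [e, perm_apply hv, map_one]
  exact (sub_spec j).2.2.1

theorem card_ker : Nat.card down.ker = 2 := by
  have h := Subgroup.card_mul_index down.ker
  rw [Subgroup.index_ker, MonoidHom.range_eq_top.2 down_surjective, Subgroup.card_top, Cfsg.Lib.FiPres.factG.1,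
    card_h] at h
  exact Nat.eq_of_mul_eq_mul_right (by norm_num : 0 < 64561751654400) (h.trans (by norm_num))

theorem center_eq : Subgroup.center (lgp imZ lamH) = down.ker := by
  have hz : zH ∈ Subgroup.center (lgp imZ lamH) := Subgroup.mem_center_iff.2 fun h => Subtype.ext (z_comm h.2)
  have hk : down.ker = Subgroup.zpowers zH := by
    refine (Subgroup.eq_of_le_of_card_ge ((Subgroup.zpowers_le).2 down_z) ?_).symm
    rw [card_ker, Nat.card_zpowers, orderOf_eq_prime (p := 2) (by rw [sq]; exact Subtype.ext z_sq)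
      (fun h => z_ne (congrArg Subtype.val h))]
  refine le_antisymm (fun x hx => ?_) (hk ▸ (Subgroup.zpowers_le).2 hz)
  haveI := Cfsg.Lib.FiPres.simple_fi
  have hc : down x ∈ Subgroup.center Cfsg.Spor.Fi22 := Subgroup.mem_center_iff.2 fun f => by
    obtain ⟨y, rfl⟩ := down_surjective f
    rw [← map_mul, ← map_mul, Subgroup.mem_center_iff.1 hx y]
  rcases Subgroup.Normal.eq_bot_or_eq_top (inferInstance : (Subgroup.center Cfsg.Spor.Fi22).Normal) with c | c
  · rw [c] at hc
    exact MonoidHom.mem_ker.2 (Subgroup.mem_bot.1 hc)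
  · exfalso
    have h := Cfsg.Lib.FiPres.centralizer_a
    have htop : Subgroup.centralizer ({Cfsg.Lib.FiPres.im10 0} : Set Cfsg.Spor.Fi22) = ⊤ :=
      top_le_iff.1 fun f _ => Subgroup.mem_centralizer_singleton_iff.2
        (Subgroup.mem_center_iff.1 (c ▸ Subgroup.mem_top f : f ∈ Subgroup.center Cfsg.Spor.Fi22) _).symm
    have hi := Cfsg.Lib.FiPres.index_eq.1
    rw [← h, htop, Subgroup.index_top] at hi
    norm_num at hi

theorem adj_pairs : ∀ e : Fin 8, (pairWord ([0, 1, 2, 3, 4, 5, 3, 7].getD e.val 0) ([1, 2, 3, 4, 5, 6, 7, 8].getD e.val 0)) =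
    rpt 3 [[0, 1, 2, 3, 4, 5, 3, 7].getD e.val 0, [1, 2, 3, 4, 5, 6, 7, 8].getD e.val 0] := by decide +kernel

theorem nonsplit : ∀ L : Subgroup (lgp imZ lamH), ¬ (Subgroup.center (lgp imZ lamH)).IsComplement' L := by
  intro L hL
  have hidx : L.index = 2 := by
    rw [hL.index_eq_card, center_eq, card_ker]
  have hiff : ∀ x y : lgp imZ lamH, x * y ∈ L ↔ (x ∈ L ↔ y ∈ L) := fun x y => Subgroup.mul_mem_iff_of_index_two hidx
  have hodd : ∀ (x : lgp imZ lamH) (k : ℕ), x ^ (2 * k + 1) = 1 → x ∈ L := fun x k hx => by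
    have hsq : (x ^ k) * (x ^ k) ∈ L := Subgroup.mul_self_mem_of_index_two hidx (x ^ k)
    rw [← pow_add, ← two_mul] at hsq
    rw [pow_succ] at hx
    have := (hiff (x ^ (2 * k)) x).1 (by rw [hx]; exact L.one_mem)
    exact this.1 hsq
  let g : (l : ℕ) → l ∈ lamH → lgp imZ lamH := fun l hl => ⟨imZ l, lgp_mem imZ hl⟩
  have hadj : ∀ x y (hx : x ∈ lamH) (hy : y ∈ lamH), pairWord x y = rpt 3 [x, y] → (g x hx ∈ L ↔ g y hy ∈ L) := by
    intro x y hx hy h3
    have hx' : x < 10 := (show ∀ l ∈ lamH, l < 10 by decide) x hx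
    have hy' : y < 10 := (show ∀ l ∈ lamH, l < 10 by decide) y hy
    refine (hiff _ _).1 (hodd _ 1 (Subtype.ext ?_))
    have e := good_im (pairWord x y) (List.mem_append_left _ (List.mem_flatMap.2 ⟨x, List.mem_range.2 hx',
      List.mem_map.2 ⟨y, List.mem_range.2 hy', rfl⟩⟩))
    rw [h3, wval_rpt, wval_cons, wval_cons, wval_nil, mul_one] at e
    show (imZ x * imZ y) ^ 3 = 1
    rw [imZ_low hx', imZ_low hy']
    exact e
  have c1 := hadj 0 1 (by decide) (by decide) (adj_pairs 0)
  have c2 := hadj 1 2 (by decide) (by decide) (adj_pairs 1)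
  have c3 := hadj 2 3 (by decide) (by decide) (adj_pairs 2)
  have c4 := hadj 3 4 (by decide) (by decide) (adj_pairs 3)
  have c5 := hadj 4 5 (by decide) (by decide) (adj_pairs 4)
  have c6 := hadj 5 6 (by decide) (by decide) (adj_pairs 5)
  have c7 := hadj 3 7 (by decide) (by decide) (adj_pairs 6)
  have c8 := hadj 7 8 (by decide) (by decide) (adj_pairs 7)
  have h9 := hodd (g 0 (by decide) * g 1 (by decide) * g 2 (by decide) * g 3 (by decide) * g 4 (by decide) *
      g 5 (by decide) * g 7 (by decide)) 4 (Subtype.ext (by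
    have e := good_im (rpt 9 [0, 1, 2, 3, 4, 5, 7]) (List.mem_append_right _ (by simp [extraWords]))
    simp only [wval_rpt, wval_cons, wval_nil, mul_one, ← mul_assoc] at e
    show (imZ 0 * imZ 1 * imZ 2 * imZ 3 * imZ 4 * imZ 5 * imZ 7) ^ 9 = 1
    rw [imZ_low (by norm_num), imZ_low (by norm_num), imZ_low (by norm_num), imZ_low (by norm_num),
      imZ_low (by norm_num), imZ_low (by norm_num), imZ_low (by norm_num)]
    exact e))
  simp only [hiff, ← c1, ← c2, ← c3, ← c4, ← c5, ← c7] at h9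
  have h0 : g 0 (by decide) ∈ L := by simpa using h9
  have h1 := c1.1 h0
  have h2 := c2.1 h1
  have h3 := c3.1 h2
  have h4 := c4.1 h3
  have h5 := c5.1 h4
  have h6 := c6.1 h5
  have h7 := c7.1 h3
  have h8 := c8.1 h7
  have hall : ∀ (l : ℕ) (hl : l ∈ lamH), g l hl ∈ L := by
    intro l hl
    have : l = 0 ∨ l = 1 ∨ l = 2 ∨ l = 3 ∨ l = 4 ∨ l = 5 ∨ l = 6 ∨ l = 7 ∨ l = 8 := by simpa [lamH] using hl
    rcases this with rfl | rfl | rfl | rfl | rfl | rfl | rfl | rfl | rfl
    exacts [h0, h1, h2, h3, h4, h5, h6, h7, h8]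
  have htop : L = ⊤ := by
    refine top_le_iff.1 ?_
    rintro ⟨x, hx⟩ -
    induction hx using Subgroup.closure_induction with
    | mem y hy =>
      obtain ⟨l, hl, rfl⟩ := hy
      exact hall l hl
    | one => exact L.one_mem
    | mul a b _ _ ha hb => exact L.mul_mem ha hb
    | inv a _ ha => exact L.inv_mem ha
  rw [htop, Subgroup.index_top] at hidx
  norm_num at hidx

/-- The double cover. -/
theorem double_cover : Cfsg.IsNonsplitDoubleCover (lgp imZ lamH) Cfsg.Spor.Fi22 :=
  ⟨by rw [center_eq]; exact card_ker,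
    ⟨(QuotientGroup.quotientMulEquivOfEq center_eq).trans
      (QuotientGroup.quotientKerEquivOfSurjective down down_surjective)⟩, nonsplit⟩

end Cfsg.Lib.FiTwenty
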