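import Cfsg.Agent.FiTwenty.Relators

/-!
Generated data for the lifting of the relations to a central extension of the presented group on ten letters.
-/

set_option autoImplicit false

namespace Cfsg.Lib.FiTwenty

/-- A word conjugating the third letter to the second. -/
def eqV : List ℕ := [2, 3, 7, 4, 5, 3, 4, 2, 3, 7, 8, 6, 5, 4, 3, 7, 2, 3, 4, 1, 2, 3, 7, 8, 5, 4, 3, 7, 6, 5, 4, 3]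

/-- Rotations and exchanges of commuting letters reversing the first chain. -/
def revOps : List ℕ := [0, 0, 0, 0, 0, 1, 0, 1, 0, 1, 0, 1, 0, 1, 0, 2, 1, 3, 2, 1, 0, 3, 2, 1, 0, 3, 2, 1, 0, 4, 3, 2, 1, 0, 4, 3, 2, 1, 0, 5, 4, 3, 2, 1, 0]

/-- Rotations and exchanges of commuting letters reversing the second chain. -/
def revOpsSeven : List ℕ := [0, 0, 0, 0, 0, 1, 0, 1, 0, 1, 0, 1, 0, 1, 0, 2, 1, 0, 2, 1, 0, 2, 1, 0, 2, 1, 0, 3, 2, 1, 4, 3, 2, 1, 0, 4, 3, 2, 1, 0, 5, 4, 3, 2, 1, 0]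

/-- Words reaching the orbit of the base point under the letters of the subgroup of type E. -/
def orbWords : List (List ℕ) :=
  [[],
   [9],
   [9, 6],
   [9, 6, 5],
   [9, 6, 5, 4],
   [9, 6, 5, 4, 3],
   [9, 6, 5, 4, 3, 2],
   [9, 6, 5, 4, 3, 7],
   [9, 6, 5, 4, 3, 2, 1],
   [9, 6, 5, 4, 3, 2, 7],
   [9, 6, 5, 4, 3, 2, 1, 7],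
   [9, 6, 5, 4, 3, 2, 7, 3],
   [9, 6, 5, 4, 3, 2, 1, 7, 3],
   [9, 6, 5, 4, 3, 2, 7, 3, 4],
   [9, 6, 5, 4, 3, 2, 1, 7, 3, 2],
   [9, 6, 5, 4, 3, 2, 1, 7, 3, 4],
   [9, 6, 5, 4, 3, 2, 7, 3, 4, 5],
   [9, 6, 5, 4, 3, 2, 1, 7, 3, 2, 4],
   [9, 6, 5, 4, 3, 2, 1, 7, 3, 4, 5],
   [9, 6, 5, 4, 3, 2, 7, 3, 4, 5, 6],
   [9, 6, 5, 4, 3, 2, 1, 7, 3, 2, 4, 3],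
   [9, 6, 5, 4, 3, 2, 1, 7, 3, 2, 4, 5],
   [9, 6, 5, 4, 3, 2, 1, 7, 3, 4, 5, 6],
   [9, 6, 5, 4, 3, 2, 7, 3, 4, 5, 6, 9],
   [9, 6, 5, 4, 3, 2, 1, 7, 3, 2, 4, 3, 5],
   [9, 6, 5, 4, 3, 2, 1, 7, 3, 2, 4, 3, 7],
   [9, 6, 5, 4, 3, 2, 1, 7, 3, 2, 4, 5, 6],
   [9, 6, 5, 4, 3, 2, 1, 7, 3, 4, 5, 6, 9],
   [9, 6, 5, 4, 3, 2, 1, 7, 3, 2, 4, 3, 5, 4],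
   [9, 6, 5, 4, 3, 2, 1, 7, 3, 2, 4, 3, 5, 6],
   [9, 6, 5, 4, 3, 2, 1, 7, 3, 2, 4, 3, 5, 7],
   [9, 6, 5, 4, 3, 2, 1, 7, 3, 2, 4, 5, 6, 9],
   [9, 6, 5, 4, 3, 2, 1, 7, 3, 2, 4, 3, 5, 4, 6],
   [9, 6, 5, 4, 3, 2, 1, 7, 3, 2, 4, 3, 5, 4, 7],
   [9, 6, 5, 4, 3, 2, 1, 7, 3, 2, 4, 3, 5, 6, 7],
   [9, 6, 5, 4, 3, 2, 1, 7, 3, 2, 4, 3, 5, 6, 9],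
   [9, 6, 5, 4, 3, 2, 1, 7, 3, 2, 4, 3, 5, 4, 6, 5],
   [9, 6, 5, 4, 3, 2, 1, 7, 3, 2, 4, 3, 5, 4, 6, 7],
   [9, 6, 5, 4, 3, 2, 1, 7, 3, 2, 4, 3, 5, 4, 6, 9],
   [9, 6, 5, 4, 3, 2, 1, 7, 3, 2, 4, 3, 5, 4, 7, 3],
   [9, 6, 5, 4, 3, 2, 1, 7, 3, 2, 4, 3, 5, 6, 7, 9],
   [9, 6, 5, 4, 3, 2, 1, 7, 3, 2, 4, 3, 5, 4, 6, 5, 7],
   [9, 6, 5, 4, 3, 2, 1, 7, 3, 2, 4, 3, 5, 4, 6, 5, 9],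
   [9, 6, 5, 4, 3, 2, 1, 7, 3, 2, 4, 3, 5, 4, 6, 7, 3],
   [9, 6, 5, 4, 3, 2, 1, 7, 3, 2, 4, 3, 5, 4, 6, 7, 9],
   [9, 6, 5, 4, 3, 2, 1, 7, 3, 2, 4, 3, 5, 4, 7, 3, 2],
   [9, 6, 5, 4, 3, 2, 1, 7, 3, 2, 4, 3, 5, 4, 6, 5, 7, 3],
   [9, 6, 5, 4, 3, 2, 1, 7, 3, 2, 4, 3, 5, 4, 6, 5, 7, 9],
   [9, 6, 5, 4, 3, 2, 1, 7, 3, 2, 4, 3, 5, 4, 6, 5, 9, 6],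
   [9, 6, 5, 4, 3, 2, 1, 7, 3, 2, 4, 3, 5, 4, 6, 7, 3, 2],
   [9, 6, 5, 4, 3, 2, 1, 7, 3, 2, 4, 3, 5, 4, 6, 7, 3, 9],
   [9, 6, 5, 4, 3, 2, 1, 7, 3, 2, 4, 3, 5, 4, 7, 3, 2, 1],
   [9, 6, 5, 4, 3, 2, 1, 7, 3, 2, 4, 3, 5, 4, 6, 5, 7, 3, 2],
   [9, 6, 5, 4, 3, 2, 1, 7, 3, 2, 4, 3, 5, 4, 6, 5, 7, 3, 4],
   [9, 6, 5, 4, 3, 2, 1, 7, 3, 2, 4, 3, 5, 4, 6, 5, 7, 3, 9],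
   [9, 6, 5, 4, 3, 2, 1, 7, 3, 2, 4, 3, 5, 4, 6, 5, 7, 9, 6],
   [9, 6, 5, 4, 3, 2, 1, 7, 3, 2, 4, 3, 5, 4, 6, 7, 3, 2, 1],
   [9, 6, 5, 4, 3, 2, 1, 7, 3, 2, 4, 3, 5, 4, 6, 7, 3, 2, 9],
   [9, 6, 5, 4, 3, 2, 1, 7, 3, 2, 4, 3, 5, 4, 6, 5, 7, 3, 2, 1],
   [9, 6, 5, 4, 3, 2, 1, 7, 3, 2, 4, 3, 5, 4, 6, 5, 7, 3, 2, 4],
   [9, 6, 5, 4, 3, 2, 1, 7, 3, 2, 4, 3, 5, 4, 6, 5, 7, 3, 2, 9],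
   [9, 6, 5, 4, 3, 2, 1, 7, 3, 2, 4, 3, 5, 4, 6, 5, 7, 3, 4, 9],
   [9, 6, 5, 4, 3, 2, 1, 7, 3, 2, 4, 3, 5, 4, 6, 5, 7, 3, 9, 6],
   [9, 6, 5, 4, 3, 2, 1, 7, 3, 2, 4, 3, 5, 4, 6, 7, 3, 2, 1, 9],
   [9, 6, 5, 4, 3, 2, 1, 7, 3, 2, 4, 3, 5, 4, 6, 5, 7, 3, 2, 1, 4],
   [9, 6, 5, 4, 3, 2, 1, 7, 3, 2, 4, 3, 5, 4, 6, 5, 7, 3, 2, 1, 9],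
   [9, 6, 5, 4, 3, 2, 1, 7, 3, 2, 4, 3, 5, 4, 6, 5, 7, 3, 2, 4, 3],
   [9, 6, 5, 4, 3, 2, 1, 7, 3, 2, 4, 3, 5, 4, 6, 5, 7, 3, 2, 4, 9],
   [9, 6, 5, 4, 3, 2, 1, 7, 3, 2, 4, 3, 5, 4, 6, 5, 7, 3, 2, 9, 6],
   [9, 6, 5, 4, 3, 2, 1, 7, 3, 2, 4, 3, 5, 4, 6, 5, 7, 3, 4, 9, 6],
   [9, 6, 5, 4, 3, 2, 1, 7, 3, 2, 4, 3, 5, 4, 6, 5, 7, 3, 2, 1, 4, 3],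
   [9, 6, 5, 4, 3, 2, 1, 7, 3, 2, 4, 3, 5, 4, 6, 5, 7, 3, 2, 1, 4, 9],
   [9, 6, 5, 4, 3, 2, 1, 7, 3, 2, 4, 3, 5, 4, 6, 5, 7, 3, 2, 1, 9, 6],
   [9, 6, 5, 4, 3, 2, 1, 7, 3, 2, 4, 3, 5, 4, 6, 5, 7, 3, 2, 4, 3, 7],
   [9, 6, 5, 4, 3, 2, 1, 7, 3, 2, 4, 3, 5, 4, 6, 5, 7, 3, 2, 4, 3, 9],
   [9, 6, 5, 4, 3, 2, 1, 7, 3, 2, 4, 3, 5, 4, 6, 5, 7, 3, 2, 4, 9, 6],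
   [9, 6, 5, 4, 3, 2, 1, 7, 3, 2, 4, 3, 5, 4, 6, 5, 7, 3, 4, 9, 6, 5],
   [9, 6, 5, 4, 3, 2, 1, 7, 3, 2, 4, 3, 5, 4, 6, 5, 7, 3, 2, 1, 4, 3, 2],
   [9, 6, 5, 4, 3, 2, 1, 7, 3, 2, 4, 3, 5, 4, 6, 5, 7, 3, 2, 1, 4, 3, 7],
   [9, 6, 5, 4, 3, 2, 1, 7, 3, 2, 4, 3, 5, 4, 6, 5, 7, 3, 2, 1, 4, 3, 9],
   [9, 6, 5, 4, 3, 2, 1, 7, 3, 2, 4, 3, 5, 4, 6, 5, 7, 3, 2, 1, 4, 9, 6],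
   [9, 6, 5, 4, 3, 2, 1, 7, 3, 2, 4, 3, 5, 4, 6, 5, 7, 3, 2, 4, 3, 7, 9],
   [9, 6, 5, 4, 3, 2, 1, 7, 3, 2, 4, 3, 5, 4, 6, 5, 7, 3, 2, 4, 3, 9, 6],
   [9, 6, 5, 4, 3, 2, 1, 7, 3, 2, 4, 3, 5, 4, 6, 5, 7, 3, 2, 4, 9, 6, 5],
   [9, 6, 5, 4, 3, 2, 1, 7, 3, 2, 4, 3, 5, 4, 6, 5, 7, 3, 2, 1, 4, 3, 2, 7],
   [9, 6, 5, 4, 3, 2, 1, 7, 3, 2, 4, 3, 5, 4, 6, 5, 7, 3, 2, 1, 4, 3, 2, 9],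
   [9, 6, 5, 4, 3, 2, 1, 7, 3, 2, 4, 3, 5, 4, 6, 5, 7, 3, 2, 1, 4, 3, 7, 9],
   [9, 6, 5, 4, 3, 2, 1, 7, 3, 2, 4, 3, 5, 4, 6, 5, 7, 3, 2, 1, 4, 3, 9, 6],
   [9, 6, 5, 4, 3, 2, 1, 7, 3, 2, 4, 3, 5, 4, 6, 5, 7, 3, 2, 1, 4, 9, 6, 5],
   [9, 6, 5, 4, 3, 2, 1, 7, 3, 2, 4, 3, 5, 4, 6, 5, 7, 3, 2, 4, 3, 7, 9, 6],
   [9, 6, 5, 4, 3, 2, 1, 7, 3, 2, 4, 3, 5, 4, 6, 5, 7, 3, 2, 4, 3, 9, 6, 5],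
   [9, 6, 5, 4, 3, 2, 1, 7, 3, 2, 4, 3, 5, 4, 6, 5, 7, 3, 2, 1, 4, 3, 2, 7, 3],
   [9, 6, 5, 4, 3, 2, 1, 7, 3, 2, 4, 3, 5, 4, 6, 5, 7, 3, 2, 1, 4, 3, 2, 7, 9],
   [9, 6, 5, 4, 3, 2, 1, 7, 3, 2, 4, 3, 5, 4, 6, 5, 7, 3, 2, 1, 4, 3, 2, 9, 6],
   [9, 6, 5, 4, 3, 2, 1, 7, 3, 2, 4, 3, 5, 4, 6, 5, 7, 3, 2, 1, 4, 3, 7, 9, 6],
   [9, 6, 5, 4, 3, 2, 1, 7, 3, 2, 4, 3, 5, 4, 6, 5, 7, 3, 2, 1, 4, 3, 9, 6, 5],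
   [9, 6, 5, 4, 3, 2, 1, 7, 3, 2, 4, 3, 5, 4, 6, 5, 7, 3, 2, 4, 3, 7, 9, 6, 5],
   [9, 6, 5, 4, 3, 2, 1, 7, 3, 2, 4, 3, 5, 4, 6, 5, 7, 3, 2, 4, 3, 9, 6, 5, 4],
   [9, 6, 5, 4, 3, 2, 1, 7, 3, 2, 4, 3, 5, 4, 6, 5, 7, 3, 2, 1, 4, 3, 2, 7, 3, 4],
   [9, 6, 5, 4, 3, 2, 1, 7, 3, 2, 4, 3, 5, 4, 6, 5, 7, 3, 2, 1, 4, 3, 2, 7, 3, 9],
   [9, 6, 5, 4, 3, 2, 1, 7, 3, 2, 4, 3, 5, 4, 6, 5, 7, 3, 2, 1, 4, 3, 2, 7, 9, 6],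
   [9, 6, 5, 4, 3, 2, 1, 7, 3, 2, 4, 3, 5, 4, 6, 5, 7, 3, 2, 1, 4, 3, 2, 9, 6, 5],
   [9, 6, 5, 4, 3, 2, 1, 7, 3, 2, 4, 3, 5, 4, 6, 5, 7, 3, 2, 1, 4, 3, 7, 9, 6, 5],
   [9, 6, 5, 4, 3, 2, 1, 7, 3, 2, 4, 3, 5, 4, 6, 5, 7, 3, 2, 1, 4, 3, 9, 6, 5, 4],
   [9, 6, 5, 4, 3, 2, 1, 7, 3, 2, 4, 3, 5, 4, 6, 5, 7, 3, 2, 4, 3, 7, 9, 6, 5, 4],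
   [9, 6, 5, 4, 3, 2, 1, 7, 3, 2, 4, 3, 5, 4, 6, 5, 7, 3, 2, 1, 4, 3, 2, 7, 3, 4, 5],
   [9, 6, 5, 4, 3, 2, 1, 7, 3, 2, 4, 3, 5, 4, 6, 5, 7, 3, 2, 1, 4, 3, 2, 7, 3, 4, 9],
   [9, 6, 5, 4, 3, 2, 1, 7, 3, 2, 4, 3, 5, 4, 6, 5, 7, 3, 2, 1, 4, 3, 2, 7, 3, 9, 6],
   [9, 6, 5, 4, 3, 2, 1, 7, 3, 2, 4, 3, 5, 4, 6, 5, 7, 3, 2, 1, 4, 3, 2, 7, 9, 6, 5],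
   [9, 6, 5, 4, 3, 2, 1, 7, 3, 2, 4, 3, 5, 4, 6, 5, 7, 3, 2, 1, 4, 3, 2, 9, 6, 5, 4],
   [9, 6, 5, 4, 3, 2, 1, 7, 3, 2, 4, 3, 5, 4, 6, 5, 7, 3, 2, 1, 4, 3, 7, 9, 6, 5, 4],
   [9, 6, 5, 4, 3, 2, 1, 7, 3, 2, 4, 3, 5, 4, 6, 5, 7, 3, 2, 4, 3, 7, 9, 6, 5, 4, 3],
   [9, 6, 5, 4, 3, 2, 1, 7, 3, 2, 4, 3, 5, 4, 6, 5, 7, 3, 2, 1, 4, 3, 2, 7, 3, 4, 5, 6],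
   [9, 6, 5, 4, 3, 2, 1, 7, 3, 2, 4, 3, 5, 4, 6, 5, 7, 3, 2, 1, 4, 3, 2, 7, 3, 4, 5, 9],
   [9, 6, 5, 4, 3, 2, 1, 7, 3, 2, 4, 3, 5, 4, 6, 5, 7, 3, 2, 1, 4, 3, 2, 7, 3, 4, 9, 6],
   [9, 6, 5, 4, 3, 2, 1, 7, 3, 2, 4, 3, 5, 4, 6, 5, 7, 3, 2, 1, 4, 3, 2, 7, 3, 9, 6, 5],
   [9, 6, 5, 4, 3, 2, 1, 7, 3, 2, 4, 3, 5, 4, 6, 5, 7, 3, 2, 1, 4, 3, 2, 7, 9, 6, 5, 4],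
   [9, 6, 5, 4, 3, 2, 1, 7, 3, 2, 4, 3, 5, 4, 6, 5, 7, 3, 2, 1, 4, 3, 2, 9, 6, 5, 4, 3],
   [9, 6, 5, 4, 3, 2, 1, 7, 3, 2, 4, 3, 5, 4, 6, 5, 7, 3, 2, 1, 4, 3, 7, 9, 6, 5, 4, 3],
   [9, 6, 5, 4, 3, 2, 1, 7, 3, 2, 4, 3, 5, 4, 6, 5, 7, 3, 2, 4, 3, 7, 9, 6, 5, 4, 3, 2]]

end Cfsg.Lib.FiTwenty
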