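import Cfsg.Agent.FiTwenty.Transp
import Cfsg.Agent.FiTwenty.CoverData

/-!
Facts in the presented group on ten letters used to lift its relations.
-/

set_option autoImplicit false
set_option maxRecDepth 20000
set_option Elab.async false

namespace Cfsg.Lib.FiTwenty

open Cfsg.Lib.CosetCert Cfsg.Lib.PermCert

theorem pair_forms : ((List.range 10).all fun x => (List.range 10).all fun y =>
    (x == y && (pairWord x y == [x, y])) || (x != y && ((pairWord x y == rpt 2 [x, y]) ||
      (pairWord x y == rpt 3 [x, y])))) = true := by decide +kernel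

theorem pair_cases {x y : ℕ} (hx : x < 10) (hy : y < 10) :
    (x = y ∧ pairWord x y = [x, y]) ∨ pairWord x y = rpt 2 [x, y] ∨ pairWord x y = rpt 3 [x, y] := by
  have h := List.all_eq_true.1 (List.all_eq_true.1 pair_forms x (List.mem_range.2 hx)) y (List.mem_range.2 hy)
  simp only [Bool.or_eq_true, Bool.and_eq_true, beq_iff_eq] at h
  rcases h with h | ⟨-, h | h⟩
  exacts [Or.inl h, Or.inr (Or.inl h), Or.inr (Or.inr h)]

theorem good_pair {x y : ℕ} (hx : x < 10) (hy : y < 10) : wval im (pairWord x y) = 1 :=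
  good_im _ (List.mem_append_left _ (List.mem_flatMap.2 ⟨x, List.mem_range.2 hx,
    List.mem_map.2 ⟨y, List.mem_range.2 hy, rfl⟩⟩))

theorem good_comm {x y : ℕ} (hx : x < 10) (hy : y < 10) (h : pairWord x y = rpt 2 [x, y]) :
    im x * im y = im y * im x := by
  have e := good_pair hx hy
  rw [h, wval_rpt, wval_cons, wval_cons, wval_nil, mul_one, sq] at e
  rw [← inv_eq_of_mul_eq_one_left e, mul_inv_rev, inv_eq_of_mul_eq_one_left (good_im.inv hx),
    inv_eq_of_mul_eq_one_left (good_im.inv hy)]

theorem good_braid {x y : ℕ} (hx : x < 10) (hy : y < 10) (h : pairWord x y = rpt 3 [x, y]) :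
    im x * im y * im x = im y * im x * im y := by
  have e := good_pair hx hy
  rw [h, wval_rpt, wval_cons, wval_cons, wval_nil, mul_one, pow_succ, pow_succ, pow_one] at e
  have e' : im x * im y * im x * (im y * im x * im y) = 1 := by simpa only [mul_assoc] using e
  rw [← inv_eq_of_mul_eq_one_left e', mul_inv_rev, mul_inv_rev, inv_eq_of_mul_eq_one_left (good_im.inv hx),
    inv_eq_of_mul_eq_one_left (good_im.inv hy), mul_assoc]

theorem letter_transp {k : ℕ} (hk : k < 10) : ∃ g, im k = g * imZ 10 * g⁻¹ := by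
  obtain ⟨u, j, hj, hu⟩ := z_conj
  obtain ⟨v, hv⟩ := letter_conj j hj
  obtain ⟨w, hw⟩ := letter_conj k hk
  exact ⟨w * (u * v)⁻¹, by rw [hw, hu, hv]; group⟩

theorem eqV_lt : ((eqV ++ [1, 2] ++ conjWord).all fun l => decide (l < 10)) = true := by decide +kernel

theorem eqV_fix : (evalW sigTabs (conjWord ++ (eqV ++ [1, 2]) ++ conjWord.reverse) 0 == 0) = true := by
  decide +kernel

theorem one_two : pairWord 1 2 = rpt 3 [1, 2] := by decide +kernel

attribute [local irreducible] sig0 sig1 sig2 sig3 sig4 sig5 sig6 sig7 sig8 sig9 sig10 subPts subIdx subTree1Mask subTree2Mask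

/-- The second letter as a conjugate of the third. -/
theorem eq_spec : im 1 = wval im eqV * im 2 * (wval im eqV)⁻¹ := by
  haveI := transitive
  have hl := eqV_lt
  simp only [List.all_eq_true, List.mem_append, decide_eq_true_eq] at hl
  obtain ⟨hc, -, -, hm, -⟩ := words_ok
  simp only [List.all_eq_true, decide_eq_true_eq] at hc
  have hu : ∀ l ∈ conjWord, l < 10 := fun l h => hl l (Or.inr h)
  have ez : imZ 10 = wval im conjWord * im 1 * (wval im conjWord)⁻¹ := by
    have e := word_eq (u := conjZ) (w := [10]) (fun l h => Nat.lt_succ_of_lt (hc l h)) (by simp) fun p hp => by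
      have := allFrom_zero conj__all hp
      rw [beq_iff_eq] at this
      rw [this]
      rfl
    rw [wval_low hc, conjZ, wval_append, wval_cons, wval_reverse im fun l h => good_im.inv (hu l h),
      ← mul_assoc, show conjMid = 1 from rfl] at e
    simpa [wval] using e.symm
  set u := wval im conjWord with hu'
  set W := wval im (eqV ++ [1, 2]) with hW
  have hw : ∀ l ∈ conjWord ++ (eqV ++ [1, 2]) ++ conjWord.reverse, l < 10 := fun l h => by
    simp only [List.mem_append, List.mem_reverse] at h
    rcases h with (h | h | h) | h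
    exacts [hu l h, hl l (Or.inl (Or.inl h)), hl l (Or.inl (Or.inr h)), hu l h]
  have hval : wval imZ (conjWord ++ (eqV ++ [1, 2]) ++ conjWord.reverse) = u * W * u⁻¹ := by
    rw [wval_low hw, wval_append, wval_append, wval_reverse im fun l h => good_im.inv (hu l h)]
  have hmem : u * W * u⁻¹ ∈ lgp imZ lamH := by
    rw [← stab_eq, MulAction.mem_stabilizer_iff, ← hval]
    have hfix : (wval imZ (conjWord ++ (eqV ++ [1, 2]) ++ conjWord.reverse))⁻¹ • p0 = p0 := Fin.ext (by
      rw [smul_eq, map_inv]
      exact (evalW_apply imZ psi sigTabs psi_act _ (fun l h => Nat.lt_succ_of_lt (hw l h)) p0).trans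
        (beq_iff_eq.1 eqV_fix))
    conv_lhs => rw [← hfix]
    rw [smul_inv_smul]
  have hcomm := z_comm hmem
  rw [ez] at hcomm
  have h1 : W * im 1 = im 1 * W := by
    have := congrArg (fun t => u⁻¹ * t * u) hcomm
    calc W * im 1 = u⁻¹ * (u * W * u⁻¹ * (u * im 1 * u⁻¹)) * u := by group
      _ = u⁻¹ * (u * im 1 * u⁻¹ * (u * W * u⁻¹)) * u := this
      _ = im 1 * W := by group
  have hb := good_braid (show 1 < 10 by norm_num) (show 2 < 10 by norm_num) one_two
  have e2 : im 1 * im 2 * im 1 * (im 1 * im 2)⁻¹ = im 2 := by rw [hb]; group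
  have hW' : W = wval im eqV * (im 1 * im 2) := by
    rw [hW, wval_append, wval_cons, wval_cons, wval_nil, mul_one]
  calc im 1 = W * im 1 * W⁻¹ := by rw [h1]; group
    _ = wval im eqV * (im 1 * im 2 * im 1 * (im 1 * im 2)⁻¹) * (wval im eqV)⁻¹ := by rw [hW']; group
    _ = _ := by rw [e2]

theorem card_seven : 2903040 ≤ Nat.card (lgp imZ [1, 2, 3, 4, 5, 6, 7]) := by
  have h0 := card_h
  have h1 := step D3.valid [1, 2, 3, 4, 5, 6, 7] [2, 3, 4, 5, 6, 7] rfl (by decide +kernel) (by decide)
    (by decide +kernel) bound_cdefgh.1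
  have h2 := step D4.valid [1, 2, 3, 4, 5, 6, 7, 8] [1, 2, 3, 4, 5, 6, 7] rfl (by decide +kernel) (by decide)
    (by decide +kernel) h1.1
  have h3 := step D5.valid lamH [1, 2, 3, 4, 5, 6, 7, 8] rfl (by decide +kernel) (by decide) (by decide +kernel) h2.1
  rw [D4.fins_length] at h2
  rw [D5.fins_length] at h3
  have := h2.2
  have := h3.2
  omega

theorem orb_ok : ((orbWords.all fun w => w.all fun l => [1, 2, 3, 4, 5, 6, 7, 9, 10].contains l) &&
    decide (orbWords.length = 120)) = true := by decide +kernel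

theorem orb_nodup : ((orbWords.map fun w => evalW sigTabs w 0).Pairwise (· ≠ ·)) := by decide +kernel

theorem card_eight : 348364800 ≤ Nat.card (lgp imZ [1, 2, 3, 4, 5, 6, 7, 9, 10]) := by
  haveI := transitive
  have hok := orb_ok
  simp only [Bool.and_eq_true, decide_eq_true_eq, List.all_eq_true, List.contains_iff_mem] at hok
  obtain ⟨hin, hlen⟩ := hok
  let g : Fin orbWords.length → Cfsg.Spor.Fi23 := fun i => (wval imZ orbWords[i.val])⁻¹
  have hg : ∀ i, g i ∈ lgp imZ [1, 2, 3, 4, 5, 6, 7, 9, 10] := fun i => inv_mem (lgp_wval imZ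
    (List.all_eq_true.2 fun l hl => List.contains_iff_mem.2 (hin _ (List.getElem_mem i.isLt) l hl)))
  have hfix : ∀ h ∈ lgp imZ [1, 2, 3, 4, 5, 6, 7], h • p0 = p0 := fun h hh => by
    have : h ∈ MulAction.stabilizer Cfsg.Spor.Fi23 p0 := by
      rw [stab_eq]
      exact lgp_mono imZ (by decide) hh
    exact this
  have hpt : ∀ i, ((g i • p0 : Fin 31671) : ℕ) = (orbWords.map fun w => evalW sigTabs w 0)[i.val]'
      (by rw [List.length_map]; exact i.isLt) := fun i => by
    rw [List.getElem_map, smul_eq, map_inv]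
    refine evalW_apply imZ psi sigTabs psi_act _ (fun l hl => ?_) p0
    exact Nat.lt_succ_of_le ((show ∀ l ∈ [1, 2, 3, 4, 5, 6, 7, 9, 10], l ≤ 10 by decide) l
      (hin _ (List.getElem_mem i.isLt) l hl))
  let F : Fin orbWords.length × lgp imZ [1, 2, 3, 4, 5, 6, 7] → lgp imZ [1, 2, 3, 4, 5, 6, 7, 9, 10] :=
    fun p => ⟨g p.1 * p.2.1, mul_mem (hg p.1) (lgp_mono imZ (by decide) p.2.2)⟩
  have hF : Function.Injective F := by
    rintro ⟨i, h⟩ ⟨j, k⟩ e
    have e' : g i * h.1 = g j * k.1 := congrArg Subtype.val e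
    have hp : g i • p0 = g j • p0 := by
      have := congrArg (fun t : Cfsg.Spor.Fi23 => t • p0) e'
      simpa only [mul_smul, hfix _ h.2, hfix _ k.2] using this
    have hij : i = j := by
      have hv := (hpt i).symm.trans ((congrArg Fin.val hp).trans (hpt j))
      exact Fin.ext ((List.Nodup.getElem_inj_iff orb_nodup).1 hv)
    subst hij
    exact Prod.ext rfl (Subtype.ext (mul_left_cancel e'))
  have := Nat.card_le_card_of_injective F hF
  rw [Nat.card_prod, Nat.card_fin, hlen] at this
  have := card_seven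
  omega

end Cfsg.Lib.FiTwenty
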