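import Cfsg.Agent.FiTwenty.Words
import Cfsg.Prelude.Def_Sporadic

/-!
Suborbits, primitivity and simplicity of the presented Fischer group on ten letters.
-/

set_option autoImplicit false
set_option maxRecDepth 20000

namespace Cfsg.Lib.FiTwenty

open Cfsg.Lib.CosetCert Cfsg.Lib.PermCert

instance actFi : MulAction Cfsg.Spor.Fi23 (Fin 31671) := MulAction.compHom (Fin 31671) psi

theorem smul_eq (g : Cfsg.Spor.Fi23) (x : Fin 31671) : g • x = psi g x := rfl

attribute [local irreducible] sig0 sig1 sig2 sig3 sig4 sig5 sig6 sig7 sig8 sig9 sig10 subPts subIdx subTree1Mask subTree2Mask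
/-- The base point. -/
def p0 : Fin 31671 := ⟨0, by norm_num⟩

theorem transitive : MulAction.IsPretransitive Cfsg.Spor.Fi23 (Fin 31671) := tabled.transitive smul_eq tree_zero

theorem stab_eq : MulAction.stabilizer Cfsg.Spor.Fi23 p0 = lgp imZ lamH := by
  haveI := transitive
  have hle : lgp imZ lamH ≤ MulAction.stabilizer Cfsg.Spor.Fi23 p0 := by
    refine (Subgroup.closure_le _).2 ?_
    rintro _ ⟨l, hl, rfl⟩
    have := List.all_eq_true.1 fix_zero l hl
    rw [Bool.and_eq_true, decide_eq_true_eq, beq_iff_eq] at this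
    rw [SetLike.mem_coe, MulAction.mem_stabilizer_iff]
    exact Fin.ext ((tabled.im_smul smul_eq (show l < sigTabs.length from Nat.lt_succ_of_lt this.1) p0).trans this.2)
  have h1 : (MulAction.stabilizer Cfsg.Spor.Fi23 p0).index = 31671 := by
    rw [MulAction.index_stabilizer, MulAction.orbit_eq_univ, Set.ncard_univ, Nat.card_fin]
  have h3 := Subgroup.relIndex_mul_index hle
  rw [h1, index_h] at h3
  exact le_antisymm (Subgroup.relIndex_eq_one.1 ((mul_eq_right₀ (by norm_num : (31671 : ℕ) ≠ 0)).1 h3)) hle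

theorem orbit_one : ∀ x ∈ maskPts 31671 subTree1Mask, MulAction.orbit (lgp imZ lamH) x = maskPts 31671 subTree1Mask := by
  have := (tabled.tree_orbit smul_eq tree1_ok).1
  rwa [mask1] at this

theorem orbit_two : ∀ x ∈ maskPts 31671 subTree2Mask, MulAction.orbit (lgp imZ lamH) x = maskPts 31671 subTree2Mask := by
  have := (tabled.tree_orbit smul_eq tree2_ok).1
  rwa [mask2] at this

theorem ncard_one : (maskPts 31671 subTree1Mask).ncard = 3510 := by
  have := (tabled.tree_orbit smul_eq tree1_ok).2.1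
  rwa [mask1] at this

theorem ncard_two : (maskPts 31671 subTree2Mask).ncard = 28160 := by
  have := (tabled.tree_orbit smul_eq tree2_ok).2.1
  rwa [mask2] at this

theorem cases_point (x : Fin 31671) :
    x = p0 ∨ x ∈ maskPts 31671 subTree1Mask ∨ x ∈ maskPts 31671 subTree2Mask := by
  have := List.all_eq_true.1 cover_sub.1 x.val (List.mem_range.2 x.isLt)
  simp only [Bool.or_eq_true, decide_eq_true_eq, or_assoc] at this
  exact this.imp_left fun e => Fin.ext e

theorem suborbits : ∃ q₁ q₂ : Cfsg.Spor.Fi23 ⧸ lgp imZ lamH,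
    (MulAction.orbit (lgp imZ lamH) q₁).ncard = 3510 ∧ (MulAction.orbit (lgp imZ lamH) q₂).ncard = 28160 := by
  haveI := transitive
  obtain ⟨e, he⟩ := exists_coset_equiv stab_eq
  refine ⟨e.symm ⟨subBase1, cover_sub.2.1⟩, e.symm ⟨subBase2, cover_sub.2.2.1⟩, ?_, ?_⟩
  · rw [(ncard_orbit_equiv e he _).2, orbit_one _ cover_sub.2.2.2.1, ncard_one]
  · rw [(ncard_orbit_equiv e he _).2, orbit_two _ cover_sub.2.2.2.2, ncard_two]

/-- The point stabiliser is maximal. -/
theorem between {M : Subgroup Cfsg.Spor.Fi23} (hM : lgp imZ lamH ≤ M) : M = lgp imZ lamH ∨ M = ⊤ := by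
  haveI := transitive
  set O : Set (Fin 31671) := MulAction.orbit M p0 with hO
  have hidx : M.index * O.ncard = 31671 := by
    have h := Subgroup.relIndex_mul_index hM
    rw [index_h] at h
    have e : MulAction.stabilizer M p0 = (lgp imZ lamH).subgroupOf M := by
      ext x
      rw [Subgroup.mem_subgroupOf, MulAction.mem_stabilizer_iff, ← stab_eq, MulAction.mem_stabilizer_iff,
        Subgroup.smul_def]
    rw [Subgroup.relIndex, ← e, MulAction.index_stabilizer] at h
    rw [mul_comm]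
    exact h
  have hext : ∀ {m}, (∀ x ∈ maskPts 31671 m, MulAction.orbit (lgp imZ lamH) x = maskPts 31671 m) →
      ∀ {x}, x ∈ maskPts 31671 m → x ∈ O → maskPts 31671 m ⊆ O := by
    intro m hm x hx hxO y hy
    rw [← hm x hx] at hy
    obtain ⟨g, rfl⟩ := hy
    exact MulAction.mem_orbit_of_mem_orbit (⟨g, hM g.2⟩ : M) hxO
  have hp : ∀ m : ℕ, (∀ x ∈ maskPts 31671 m, MulAction.orbit (lgp imZ lamH) x = maskPts 31671 m) →
      1 < (maskPts 31671 m).ncard → p0 ∉ maskPts 31671 m := fun m hm h2 h => by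
    have hsub : maskPts 31671 m ⊆ {p0} := by
      rw [← hm _ h]
      rintro _ ⟨g, rfl⟩
      exact (stab_eq.symm ▸ g.2 : (g : Cfsg.Spor.Fi23) ∈ MulAction.stabilizer Cfsg.Spor.Fi23 p0)
    have := Set.ncard_le_ncard hsub
    rw [Set.ncard_singleton] at this
    omega
  have h1p := hp _ orbit_one (by rw [ncard_one]; norm_num)
  have h2p := hp _ orbit_two (by rw [ncard_two]; norm_num)
  by_cases a : ∃ x ∈ maskPts 31671 subTree1Mask, x ∈ O <;> by_cases b : ∃ x ∈ maskPts 31671 subTree2Mask, x ∈ O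
  · right
    obtain ⟨x, hx, hxO⟩ := a
    obtain ⟨y, hy, hyO⟩ := b
    refine Subgroup.index_eq_one.1 ?_
    have ho : O = Set.univ := Set.eq_univ_of_forall fun z => by
      rcases cases_point z with rfl | e | e
      exacts [MulAction.mem_orbit_self _, hext orbit_one hx hxO e, hext orbit_two hy hyO e]
    rw [ho, Set.ncard_univ, Nat.card_fin] at hidx
    omega
  · exfalso
    obtain ⟨x, hx, hxO⟩ := a
    have ho : O = insert p0 (maskPts 31671 subTree1Mask) := Set.Subset.antisymm (fun z hz => by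
        rcases cases_point z with e | e | e
        exacts [Or.inl e, Or.inr e, absurd ⟨z, e, hz⟩ b])
      (Set.insert_subset (MulAction.mem_orbit_self _) (hext orbit_one hx hxO))
    rw [ho, Set.ncard_insert_of_notMem h1p, ncard_one] at hidx
    omega
  · exfalso
    obtain ⟨y, hy, hyO⟩ := b
    have ho : O = insert p0 (maskPts 31671 subTree2Mask) := Set.Subset.antisymm (fun z hz => by
        rcases cases_point z with e | e | e
        exacts [Or.inl e, absurd ⟨z, e, hz⟩ a, Or.inr e])
      (Set.insert_subset (MulAction.mem_orbit_self _) (hext orbit_two hy hyO))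
    rw [ho, Set.ncard_insert_of_notMem h2p, ncard_two] at hidx
    omega
  · left
    refine le_antisymm (fun g hg => ?_) hM
    rw [← stab_eq, MulAction.mem_stabilizer_iff]
    have hgO : g • p0 ∈ O := ⟨⟨g, hg⟩, rfl⟩
    rcases cases_point (g • p0) with e | e | e
    exacts [e, absurd ⟨_, e, hgO⟩ a, absurd ⟨_, e, hgO⟩ b]

theorem label_adj : ∀ e : Fin 9, (pairWord ([0, 1, 2, 3, 4, 5, 3, 7, 6].getD e.val 0)
    ([1, 2, 3, 4, 5, 6, 7, 8, 9].getD e.val 0)) =
      rpt 3 [[0, 1, 2, 3, 4, 5, 3, 7, 6].getD e.val 0, [1, 2, 3, 4, 5, 6, 7, 8, 9].getD e.val 0] := by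
  decide +kernel

/-- All ten letters are conjugate. -/
theorem letter_conj : ∀ k, k < 10 → ∃ u : Cfsg.Spor.Fi23, im k = u * im 0 * u⁻¹ := by
  -- joined letters are conjugate
  have hadj : ∀ x y, x < 10 → y < 10 → pairWord x y = rpt 3 [x, y] →
      im y = (im x * im y) * im x * (im x * im y)⁻¹ := by
    intro x y hx hy h3
    have e3 := good_im (pairWord x y) (List.mem_append_left _ (List.mem_flatMap.2 ⟨x, List.mem_range.2 hx,
      List.mem_map.2 ⟨y, List.mem_range.2 hy, rfl⟩⟩))
    rw [h3, wval_rpt, wval_cons, wval_cons, wval_nil, mul_one] at e3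
    have sx : (im x)⁻¹ = im x := inv_eq_of_mul_eq_one_left (good_im.inv hx)
    have sy : (im y)⁻¹ = im y := inv_eq_of_mul_eq_one_left (good_im.inv hy)
    refine (mul_inv_eq_one.1 ?_).symm
    rw [sy, mul_inv_rev, sx, sy, ← e3, pow_succ, pow_succ, pow_one]
    simp only [mul_assoc]
  have tr : ∀ x y, x < 10 → y < 10 → pairWord x y = rpt 3 [x, y] →
      (∃ u, im x = u * im 0 * u⁻¹) → ∃ u, im y = u * im 0 * u⁻¹ := by
    rintro x y hx hy h3 ⟨u, hu⟩
    refine ⟨im x * im y * u, ?_⟩
    conv_lhs => rw [hadj x y hx hy h3]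
    nth_rewrite 2 [hu]
    group
  have h0 : ∃ u, im 0 = u * im 0 * u⁻¹ := ⟨1, by group⟩
  have h1 := tr 0 1 (by norm_num) (by norm_num) (label_adj 0) h0
  have h2 := tr 1 2 (by norm_num) (by norm_num) (label_adj 1) h1
  have h3 := tr 2 3 (by norm_num) (by norm_num) (label_adj 2) h2
  have h4 := tr 3 4 (by norm_num) (by norm_num) (label_adj 3) h3
  have h5 := tr 4 5 (by norm_num) (by norm_num) (label_adj 4) h4
  have h6 := tr 5 6 (by norm_num) (by norm_num) (label_adj 5) h5
  have h7 := tr 3 7 (by norm_num) (by norm_num) (label_adj 6) h3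
  have h8 := tr 7 8 (by norm_num) (by norm_num) (label_adj 7) h7
  have h9 := tr 6 9 (by norm_num) (by norm_num) (label_adj 8) h6
  intro k hk
  interval_cases k <;> assumption

theorem simple_fi : IsSimpleGroup Cfsg.Spor.Fi23 := by
  haveI := transitive
  haveI : Nontrivial Cfsg.Spor.Fi23 := Finite.one_lt_card_iff_nontrivial.1 (by rw [faithful_all.1]; norm_num)
  refine ⟨fun N hN => ?_⟩
  haveI := hN
  rcases between (le_sup_right : lgp imZ lamH ≤ N ⊔ lgp imZ lamH) with e | e
  · left
    have hle : N ≤ MulAction.stabilizer Cfsg.Spor.Fi23 p0 := by rw [stab_eq, ← e]; exact le_sup_left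
    refine le_bot_iff.1 fun x hx => faithful_all.2 ?_
    rw [map_one]
    refine Equiv.ext fun y => ?_
    obtain ⟨g, rfl⟩ := MulAction.exists_smul_eq Cfsg.Spor.Fi23 p0 y
    have h : g⁻¹ * x * g ∈ MulAction.stabilizer Cfsg.Spor.Fi23 p0 := hle (by simpa using hN.conj_mem x hx g⁻¹)
    rw [MulAction.mem_stabilizer_iff, mul_smul, mul_smul, inv_smul_eq_iff] at h
    exact h
  · right
    let χ : Cfsg.Spor.Fi23 →* Cfsg.Spor.Fi23 ⧸ N := QuotientGroup.mk' N
    -- all conjugates of the eleventh letter have the same image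
    have hconj : ∀ g, χ (g * imZ 10 * g⁻¹) = χ (imZ 10) := fun g => by
      obtain ⟨a, ha, h, hh, rfl⟩ := Subgroup.mem_sup_of_normal_left.1 (e ▸ Subgroup.mem_top g :
        g ∈ N ⊔ lgp imZ lamH)
      have e1 : a * h * imZ 10 * (a * h)⁻¹ = a * imZ 10 * a⁻¹ := by
        rw [mul_assoc a h, z_comm hh]; group
      have hA : χ a = 1 := (QuotientGroup.eq_one_iff _).2 ha
      rw [e1, map_mul, map_mul, map_inv, hA]
      simp
    have hall := letter_conj
    have himg : ∀ k, k < 10 → χ (im k) = χ (imZ 10) := by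
      intro k hk
      obtain ⟨u, j, hj, hu⟩ := z_conj
      obtain ⟨v, hv⟩ := hall j hj
      obtain ⟨w, hw⟩ := hall k hk
      have : im k = (w * (u * v)⁻¹) * imZ 10 * (w * (u * v)⁻¹)⁻¹ := by rw [hw, hu, hv]; group
      rw [this, hconj]
    -- the odd relator kills the common image
    have h0 : χ (imZ 10) = 1 := by
      have e := congrArg χ (good_im (rpt 9 [0, 1, 2, 3, 4, 5, 7])
        (List.mem_append_right _ (by simp [extraWords])))
      have hs : χ (imZ 10) * χ (imZ 10) = 1 := by rw [← map_mul, z_sq, map_one]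
      simp only [wval_rpt, wval_cons, wval_nil, mul_one, map_pow, map_mul, map_one, himg 0 (by norm_num),
        himg 1 (by norm_num), himg 2 (by norm_num), himg 3 (by norm_num), himg 4 (by norm_num),
        himg 5 (by norm_num), himg 7 (by norm_num), hs] at e
      have h9' : χ (imZ 10) ^ 9 = χ (imZ 10) := by
        rw [show (9 : ℕ) = 2 * 4 + 1 from rfl, pow_succ, pow_mul, sq, hs, one_pow, one_mul]
      rwa [h9'] at e
    refine top_le_iff.1 (closure_im ▸ (Subgroup.closure_le _).2 ?_)
    rintro _ ⟨k, hk, rfl⟩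
    exact (QuotientGroup.eq_one_iff _).1 ((himg k hk).trans h0)

theorem isFi : Cfsg.IsFi23 Cfsg.Spor.Fi23 := ⟨simple_fi, faithful_all.1⟩

end Cfsg.Lib.FiTwenty
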