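import Cfsg.Agent.FiTwenty.LiftThirteen
import Cfsg.Agent.FiPres.Aut

/-!
Every automorphism of the presented group on ten letters is inner.
-/

set_option autoImplicit false
set_option Elab.async false
set_option maxRecDepth 20000

namespace Cfsg.Lib.FiTwenty

open Cfsg.Lib.CosetCert Cfsg.Lib.PermCert

attribute [local irreducible] sig0 sig1 sig2 sig3 sig4 sig5 sig6 sig7 sig8 sig9 sig10 subPts subIdx subTree1Mask subTree2Mask
/-- The pattern of the tenth letter against the first nine, with a given exceptional letter. -/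
def patAt (m p : ℕ) : Bool :=
  (List.range 9).all fun l => (ap (sigTabs.getD l (0, 0)).1 p != p) == (l == m)

theorem pat_six_0 : allFrom 0 1000 (fun p => !patAt 6 p || p == 1 || p == 7999) = true := by decide +kernel

theorem pat_six_1 : allFrom 1000 1000 (fun p => !patAt 6 p || p == 1 || p == 7999) = true := by decide +kernel

theorem pat_six_2 : allFrom 2000 1000 (fun p => !patAt 6 p || p == 1 || p == 7999) = true := by decide +kernel

theorem pat_six_3 : allFrom 3000 1000 (fun p => !patAt 6 p || p == 1 || p == 7999) = true := by decide +kernel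

theorem pat_six_4 : allFrom 4000 1000 (fun p => !patAt 6 p || p == 1 || p == 7999) = true := by decide +kernel

theorem pat_six_5 : allFrom 5000 1000 (fun p => !patAt 6 p || p == 1 || p == 7999) = true := by decide +kernel

theorem pat_six_6 : allFrom 6000 1000 (fun p => !patAt 6 p || p == 1 || p == 7999) = true := by decide +kernel

theorem pat_six_7 : allFrom 7000 1000 (fun p => !patAt 6 p || p == 1 || p == 7999) = true := by decide +kernel

theorem pat_six_8 : allFrom 8000 1000 (fun p => !patAt 6 p || p == 1 || p == 7999) = true := by decide +kernel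

theorem pat_six_9 : allFrom 9000 1000 (fun p => !patAt 6 p || p == 1 || p == 7999) = true := by decide +kernel

theorem pat_six_10 : allFrom 10000 1000 (fun p => !patAt 6 p || p == 1 || p == 7999) = true := by decide +kernel

theorem pat_six_11 : allFrom 11000 1000 (fun p => !patAt 6 p || p == 1 || p == 7999) = true := by decide +kernel

theorem pat_six_12 : allFrom 12000 1000 (fun p => !patAt 6 p || p == 1 || p == 7999) = true := by decide +kernel

theorem pat_six_13 : allFrom 13000 1000 (fun p => !patAt 6 p || p == 1 || p == 7999) = true := by decide +kernel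

theorem pat_six_14 : allFrom 14000 1000 (fun p => !patAt 6 p || p == 1 || p == 7999) = true := by decide +kernel

theorem pat_six_15 : allFrom 15000 1000 (fun p => !patAt 6 p || p == 1 || p == 7999) = true := by decide +kernel

theorem pat_six_16 : allFrom 16000 1000 (fun p => !patAt 6 p || p == 1 || p == 7999) = true := by decide +kernel

theorem pat_six_17 : allFrom 17000 1000 (fun p => !patAt 6 p || p == 1 || p == 7999) = true := by decide +kernel

theorem pat_six_18 : allFrom 18000 1000 (fun p => !patAt 6 p || p == 1 || p == 7999) = true := by decide +kernel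

theorem pat_six_19 : allFrom 19000 1000 (fun p => !patAt 6 p || p == 1 || p == 7999) = true := by decide +kernel

theorem pat_six_20 : allFrom 20000 1000 (fun p => !patAt 6 p || p == 1 || p == 7999) = true := by decide +kernel

theorem pat_six_21 : allFrom 21000 1000 (fun p => !patAt 6 p || p == 1 || p == 7999) = true := by decide +kernel

theorem pat_six_22 : allFrom 22000 1000 (fun p => !patAt 6 p || p == 1 || p == 7999) = true := by decide +kernel

theorem pat_six_23 : allFrom 23000 1000 (fun p => !patAt 6 p || p == 1 || p == 7999) = true := by decide +kernel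

theorem pat_six_24 : allFrom 24000 1000 (fun p => !patAt 6 p || p == 1 || p == 7999) = true := by decide +kernel

theorem pat_six_25 : allFrom 25000 1000 (fun p => !patAt 6 p || p == 1 || p == 7999) = true := by decide +kernel

theorem pat_six_26 : allFrom 26000 1000 (fun p => !patAt 6 p || p == 1 || p == 7999) = true := by decide +kernel

theorem pat_six_27 : allFrom 27000 1000 (fun p => !patAt 6 p || p == 1 || p == 7999) = true := by decide +kernel

theorem pat_six_28 : allFrom 28000 1000 (fun p => !patAt 6 p || p == 1 || p == 7999) = true := by decide +kernel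

theorem pat_six_29 : allFrom 29000 1000 (fun p => !patAt 6 p || p == 1 || p == 7999) = true := by decide +kernel

theorem pat_six_30 : allFrom 30000 1000 (fun p => !patAt 6 p || p == 1 || p == 7999) = true := by decide +kernel

theorem pat_six_31 : allFrom 31000 671 (fun p => !patAt 6 p || p == 1 || p == 7999) = true := by decide +kernel

theorem pat_six_to1 : allFrom 0 2000 (fun p => !patAt 6 p || p == 1 || p == 7999) = true :=
  allFrom_add (b := 1000) (c := 1000) pat_six_0 pat_six_1

theorem pat_six_to2 : allFrom 0 3000 (fun p => !patAt 6 p || p == 1 || p == 7999) = true :=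
  allFrom_add (b := 2000) (c := 1000) pat_six_to1 pat_six_2

theorem pat_six_to3 : allFrom 0 4000 (fun p => !patAt 6 p || p == 1 || p == 7999) = true :=
  allFrom_add (b := 3000) (c := 1000) pat_six_to2 pat_six_3

theorem pat_six_to4 : allFrom 0 5000 (fun p => !patAt 6 p || p == 1 || p == 7999) = true :=
  allFrom_add (b := 4000) (c := 1000) pat_six_to3 pat_six_4

theorem pat_six_to5 : allFrom 0 6000 (fun p => !patAt 6 p || p == 1 || p == 7999) = true :=
  allFrom_add (b := 5000) (c := 1000) pat_six_to4 pat_six_5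

theorem pat_six_to6 : allFrom 0 7000 (fun p => !patAt 6 p || p == 1 || p == 7999) = true :=
  allFrom_add (b := 6000) (c := 1000) pat_six_to5 pat_six_6

theorem pat_six_to7 : allFrom 0 8000 (fun p => !patAt 6 p || p == 1 || p == 7999) = true :=
  allFrom_add (b := 7000) (c := 1000) pat_six_to6 pat_six_7

theorem pat_six_to8 : allFrom 0 9000 (fun p => !patAt 6 p || p == 1 || p == 7999) = true :=
  allFrom_add (b := 8000) (c := 1000) pat_six_to7 pat_six_8

theorem pat_six_to9 : allFrom 0 10000 (fun p => !patAt 6 p || p == 1 || p == 7999) = true :=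
  allFrom_add (b := 9000) (c := 1000) pat_six_to8 pat_six_9

theorem pat_six_to10 : allFrom 0 11000 (fun p => !patAt 6 p || p == 1 || p == 7999) = true :=
  allFrom_add (b := 10000) (c := 1000) pat_six_to9 pat_six_10

theorem pat_six_to11 : allFrom 0 12000 (fun p => !patAt 6 p || p == 1 || p == 7999) = true :=
  allFrom_add (b := 11000) (c := 1000) pat_six_to10 pat_six_11

theorem pat_six_to12 : allFrom 0 13000 (fun p => !patAt 6 p || p == 1 || p == 7999) = true :=
  allFrom_add (b := 12000) (c := 1000) pat_six_to11 pat_six_12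

theorem pat_six_to13 : allFrom 0 14000 (fun p => !patAt 6 p || p == 1 || p == 7999) = true :=
  allFrom_add (b := 13000) (c := 1000) pat_six_to12 pat_six_13

theorem pat_six_to14 : allFrom 0 15000 (fun p => !patAt 6 p || p == 1 || p == 7999) = true :=
  allFrom_add (b := 14000) (c := 1000) pat_six_to13 pat_six_14

theorem pat_six_to15 : allFrom 0 16000 (fun p => !patAt 6 p || p == 1 || p == 7999) = true :=
  allFrom_add (b := 15000) (c := 1000) pat_six_to14 pat_six_15

theorem pat_six_to16 : allFrom 0 17000 (fun p => !patAt 6 p || p == 1 || p == 7999) = true :=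
  allFrom_add (b := 16000) (c := 1000) pat_six_to15 pat_six_16

theorem pat_six_to17 : allFrom 0 18000 (fun p => !patAt 6 p || p == 1 || p == 7999) = true :=
  allFrom_add (b := 17000) (c := 1000) pat_six_to16 pat_six_17

theorem pat_six_to18 : allFrom 0 19000 (fun p => !patAt 6 p || p == 1 || p == 7999) = true :=
  allFrom_add (b := 18000) (c := 1000) pat_six_to17 pat_six_18

theorem pat_six_to19 : allFrom 0 20000 (fun p => !patAt 6 p || p == 1 || p == 7999) = true :=
  allFrom_add (b := 19000) (c := 1000) pat_six_to18 pat_six_19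

theorem pat_six_to20 : allFrom 0 21000 (fun p => !patAt 6 p || p == 1 || p == 7999) = true :=
  allFrom_add (b := 20000) (c := 1000) pat_six_to19 pat_six_20

theorem pat_six_to21 : allFrom 0 22000 (fun p => !patAt 6 p || p == 1 || p == 7999) = true :=
  allFrom_add (b := 21000) (c := 1000) pat_six_to20 pat_six_21

theorem pat_six_to22 : allFrom 0 23000 (fun p => !patAt 6 p || p == 1 || p == 7999) = true :=
  allFrom_add (b := 22000) (c := 1000) pat_six_to21 pat_six_22

theorem pat_six_to23 : allFrom 0 24000 (fun p => !patAt 6 p || p == 1 || p == 7999) = true :=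
  allFrom_add (b := 23000) (c := 1000) pat_six_to22 pat_six_23

theorem pat_six_to24 : allFrom 0 25000 (fun p => !patAt 6 p || p == 1 || p == 7999) = true :=
  allFrom_add (b := 24000) (c := 1000) pat_six_to23 pat_six_24

theorem pat_six_to25 : allFrom 0 26000 (fun p => !patAt 6 p || p == 1 || p == 7999) = true :=
  allFrom_add (b := 25000) (c := 1000) pat_six_to24 pat_six_25

theorem pat_six_to26 : allFrom 0 27000 (fun p => !patAt 6 p || p == 1 || p == 7999) = true :=
  allFrom_add (b := 26000) (c := 1000) pat_six_to25 pat_six_26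

theorem pat_six_to27 : allFrom 0 28000 (fun p => !patAt 6 p || p == 1 || p == 7999) = true :=
  allFrom_add (b := 27000) (c := 1000) pat_six_to26 pat_six_27

theorem pat_six_to28 : allFrom 0 29000 (fun p => !patAt 6 p || p == 1 || p == 7999) = true :=
  allFrom_add (b := 28000) (c := 1000) pat_six_to27 pat_six_28

theorem pat_six_to29 : allFrom 0 30000 (fun p => !patAt 6 p || p == 1 || p == 7999) = true :=
  allFrom_add (b := 29000) (c := 1000) pat_six_to28 pat_six_29

theorem pat_six_to30 : allFrom 0 31000 (fun p => !patAt 6 p || p == 1 || p == 7999) = true :=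
  allFrom_add (b := 30000) (c := 1000) pat_six_to29 pat_six_30

theorem pat_six__all : allFrom 0 31671 (fun p => !patAt 6 p || p == 1 || p == 7999) = true :=
  allFrom_add (b := 31000) (c := 671) pat_six_to30 pat_six_31

theorem pat_six : ((List.range 31671).all (fun p => !patAt 6 p || p == 1 || p == 7999)) = true := all_range_of pat_six__all

theorem pat_zero_0 : allFrom 0 1000 (fun p => !patAt 0 p) = true := by decide +kernel

theorem pat_zero_1 : allFrom 1000 1000 (fun p => !patAt 0 p) = true := by decide +kernel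

theorem pat_zero_2 : allFrom 2000 1000 (fun p => !patAt 0 p) = true := by decide +kernel

theorem pat_zero_3 : allFrom 3000 1000 (fun p => !patAt 0 p) = true := by decide +kernel

theorem pat_zero_4 : allFrom 4000 1000 (fun p => !patAt 0 p) = true := by decide +kernel

theorem pat_zero_5 : allFrom 5000 1000 (fun p => !patAt 0 p) = true := by decide +kernel

theorem pat_zero_6 : allFrom 6000 1000 (fun p => !patAt 0 p) = true := by decide +kernel

theorem pat_zero_7 : allFrom 7000 1000 (fun p => !patAt 0 p) = true := by decide +kernel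

theorem pat_zero_8 : allFrom 8000 1000 (fun p => !patAt 0 p) = true := by decide +kernel

theorem pat_zero_9 : allFrom 9000 1000 (fun p => !patAt 0 p) = true := by decide +kernel

theorem pat_zero_10 : allFrom 10000 1000 (fun p => !patAt 0 p) = true := by decide +kernel

theorem pat_zero_11 : allFrom 11000 1000 (fun p => !patAt 0 p) = true := by decide +kernel

theorem pat_zero_12 : allFrom 12000 1000 (fun p => !patAt 0 p) = true := by decide +kernel

theorem pat_zero_13 : allFrom 13000 1000 (fun p => !patAt 0 p) = true := by decide +kernel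

theorem pat_zero_14 : allFrom 14000 1000 (fun p => !patAt 0 p) = true := by decide +kernel

theorem pat_zero_15 : allFrom 15000 1000 (fun p => !patAt 0 p) = true := by decide +kernel

theorem pat_zero_16 : allFrom 16000 1000 (fun p => !patAt 0 p) = true := by decide +kernel

theorem pat_zero_17 : allFrom 17000 1000 (fun p => !patAt 0 p) = true := by decide +kernel

theorem pat_zero_18 : allFrom 18000 1000 (fun p => !patAt 0 p) = true := by decide +kernel

theorem pat_zero_19 : allFrom 19000 1000 (fun p => !patAt 0 p) = true := by decide +kernel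

theorem pat_zero_20 : allFrom 20000 1000 (fun p => !patAt 0 p) = true := by decide +kernel

theorem pat_zero_21 : allFrom 21000 1000 (fun p => !patAt 0 p) = true := by decide +kernel

theorem pat_zero_22 : allFrom 22000 1000 (fun p => !patAt 0 p) = true := by decide +kernel

theorem pat_zero_23 : allFrom 23000 1000 (fun p => !patAt 0 p) = true := by decide +kernel

theorem pat_zero_24 : allFrom 24000 1000 (fun p => !patAt 0 p) = true := by decide +kernel

theorem pat_zero_25 : allFrom 25000 1000 (fun p => !patAt 0 p) = true := by decide +kernel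

theorem pat_zero_26 : allFrom 26000 1000 (fun p => !patAt 0 p) = true := by decide +kernel

theorem pat_zero_27 : allFrom 27000 1000 (fun p => !patAt 0 p) = true := by decide +kernel

theorem pat_zero_28 : allFrom 28000 1000 (fun p => !patAt 0 p) = true := by decide +kernel

theorem pat_zero_29 : allFrom 29000 1000 (fun p => !patAt 0 p) = true := by decide +kernel

theorem pat_zero_30 : allFrom 30000 1000 (fun p => !patAt 0 p) = true := by decide +kernel

theorem pat_zero_31 : allFrom 31000 671 (fun p => !patAt 0 p) = true := by decide +kernel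

theorem pat_zero_to1 : allFrom 0 2000 (fun p => !patAt 0 p) = true :=
  allFrom_add (b := 1000) (c := 1000) pat_zero_0 pat_zero_1

theorem pat_zero_to2 : allFrom 0 3000 (fun p => !patAt 0 p) = true :=
  allFrom_add (b := 2000) (c := 1000) pat_zero_to1 pat_zero_2

theorem pat_zero_to3 : allFrom 0 4000 (fun p => !patAt 0 p) = true :=
  allFrom_add (b := 3000) (c := 1000) pat_zero_to2 pat_zero_3

theorem pat_zero_to4 : allFrom 0 5000 (fun p => !patAt 0 p) = true :=
  allFrom_add (b := 4000) (c := 1000) pat_zero_to3 pat_zero_4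

theorem pat_zero_to5 : allFrom 0 6000 (fun p => !patAt 0 p) = true :=
  allFrom_add (b := 5000) (c := 1000) pat_zero_to4 pat_zero_5

theorem pat_zero_to6 : allFrom 0 7000 (fun p => !patAt 0 p) = true :=
  allFrom_add (b := 6000) (c := 1000) pat_zero_to5 pat_zero_6

theorem pat_zero_to7 : allFrom 0 8000 (fun p => !patAt 0 p) = true :=
  allFrom_add (b := 7000) (c := 1000) pat_zero_to6 pat_zero_7

theorem pat_zero_to8 : allFrom 0 9000 (fun p => !patAt 0 p) = true :=
  allFrom_add (b := 8000) (c := 1000) pat_zero_to7 pat_zero_8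

theorem pat_zero_to9 : allFrom 0 10000 (fun p => !patAt 0 p) = true :=
  allFrom_add (b := 9000) (c := 1000) pat_zero_to8 pat_zero_9

theorem pat_zero_to10 : allFrom 0 11000 (fun p => !patAt 0 p) = true :=
  allFrom_add (b := 10000) (c := 1000) pat_zero_to9 pat_zero_10

theorem pat_zero_to11 : allFrom 0 12000 (fun p => !patAt 0 p) = true :=
  allFrom_add (b := 11000) (c := 1000) pat_zero_to10 pat_zero_11

theorem pat_zero_to12 : allFrom 0 13000 (fun p => !patAt 0 p) = true :=
  allFrom_add (b := 12000) (c := 1000) pat_zero_to11 pat_zero_12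

theorem pat_zero_to13 : allFrom 0 14000 (fun p => !patAt 0 p) = true :=
  allFrom_add (b := 13000) (c := 1000) pat_zero_to12 pat_zero_13

theorem pat_zero_to14 : allFrom 0 15000 (fun p => !patAt 0 p) = true :=
  allFrom_add (b := 14000) (c := 1000) pat_zero_to13 pat_zero_14

theorem pat_zero_to15 : allFrom 0 16000 (fun p => !patAt 0 p) = true :=
  allFrom_add (b := 15000) (c := 1000) pat_zero_to14 pat_zero_15

theorem pat_zero_to16 : allFrom 0 17000 (fun p => !patAt 0 p) = true :=
  allFrom_add (b := 16000) (c := 1000) pat_zero_to15 pat_zero_16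

theorem pat_zero_to17 : allFrom 0 18000 (fun p => !patAt 0 p) = true :=
  allFrom_add (b := 17000) (c := 1000) pat_zero_to16 pat_zero_17

theorem pat_zero_to18 : allFrom 0 19000 (fun p => !patAt 0 p) = true :=
  allFrom_add (b := 18000) (c := 1000) pat_zero_to17 pat_zero_18

theorem pat_zero_to19 : allFrom 0 20000 (fun p => !patAt 0 p) = true :=
  allFrom_add (b := 19000) (c := 1000) pat_zero_to18 pat_zero_19

theorem pat_zero_to20 : allFrom 0 21000 (fun p => !patAt 0 p) = true :=
  allFrom_add (b := 20000) (c := 1000) pat_zero_to19 pat_zero_20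

theorem pat_zero_to21 : allFrom 0 22000 (fun p => !patAt 0 p) = true :=
  allFrom_add (b := 21000) (c := 1000) pat_zero_to20 pat_zero_21

theorem pat_zero_to22 : allFrom 0 23000 (fun p => !patAt 0 p) = true :=
  allFrom_add (b := 22000) (c := 1000) pat_zero_to21 pat_zero_22

theorem pat_zero_to23 : allFrom 0 24000 (fun p => !patAt 0 p) = true :=
  allFrom_add (b := 23000) (c := 1000) pat_zero_to22 pat_zero_23

theorem pat_zero_to24 : allFrom 0 25000 (fun p => !patAt 0 p) = true :=
  allFrom_add (b := 24000) (c := 1000) pat_zero_to23 pat_zero_24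

theorem pat_zero_to25 : allFrom 0 26000 (fun p => !patAt 0 p) = true :=
  allFrom_add (b := 25000) (c := 1000) pat_zero_to24 pat_zero_25

theorem pat_zero_to26 : allFrom 0 27000 (fun p => !patAt 0 p) = true :=
  allFrom_add (b := 26000) (c := 1000) pat_zero_to25 pat_zero_26

theorem pat_zero_to27 : allFrom 0 28000 (fun p => !patAt 0 p) = true :=
  allFrom_add (b := 27000) (c := 1000) pat_zero_to26 pat_zero_27

theorem pat_zero_to28 : allFrom 0 29000 (fun p => !patAt 0 p) = true :=
  allFrom_add (b := 28000) (c := 1000) pat_zero_to27 pat_zero_28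

theorem pat_zero_to29 : allFrom 0 30000 (fun p => !patAt 0 p) = true :=
  allFrom_add (b := 29000) (c := 1000) pat_zero_to28 pat_zero_29

theorem pat_zero_to30 : allFrom 0 31000 (fun p => !patAt 0 p) = true :=
  allFrom_add (b := 30000) (c := 1000) pat_zero_to29 pat_zero_30

theorem pat_zero__all : allFrom 0 31671 (fun p => !patAt 0 p) = true :=
  allFrom_add (b := 31000) (c := 671) pat_zero_to30 pat_zero_31

theorem pat_zero : ((List.range 31671).all (fun p => !patAt 0 p)) = true := all_range_of pat_zero__all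

theorem marks_out : (evalP sigTabs [9, 6] 0 != evalP sigTabs [6, 9] 0) = true ∧
    (((List.range 31671).filter fun p => ap sig0 p == ap sig10 p).length <
      ((List.range 31671).filter fun p => p == ap sig10 p).length) ∧
    (evalW sigTabs [9] 0 == 1) = true := by decide +kernel

theorem pair_far : ((List.range 9).all fun l => l == 6 || (pairWord 9 l == rpt 2 [9, l])) = true := by decide +kernel

theorem ncard_filter (f : ℕ → Bool) :
    {x : Fin 31671 | f x.val = true}.ncard = ((List.range 31671).filter f).length := by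
  classical
  rw [Set.ncard_eq_toFinset_card', ← List.toFinset_card_of_nodup (List.nodup_range.filter _)]
  refine Finset.card_bij (fun x _ => x.val) ?_ ?_ ?_
  · intro x hx
    rw [Set.mem_toFinset] at hx
    rw [List.mem_toFinset, List.mem_filter, List.mem_range]
    exact ⟨x.isLt, hx⟩
  · exact fun x _ y _ e => Fin.ext e
  · intro j hj
    rw [List.mem_toFinset, List.mem_filter, List.mem_range] at hj
    exact ⟨⟨j, hj.1⟩, by rw [Set.mem_toFinset]; exact hj.2, rfl⟩

theorem imZ_apply {l : ℕ} (hl : l < sigTabs.length) (p : Fin 31671) :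
    ((imZ l • p : Fin 31671) : ℕ) = ap (sigTabs.getD l (0, 0)).1 p := by
  rw [smul_eq, (psi_act l hl).2, perm_apply (psi_act l hl).1]

/-- A letter times the eleventh is not a transposition. -/
theorem az_not : imZ 0 * imZ 10 ∉ transp := by
  intro h
  obtain ⟨g, hg⟩ := mem_transp.1 h
  have h0 : ∀ p : Fin 31671, (imZ 0 * imZ 10) • p = p ↔ ap sig0 p.val = ap sig10 p.val := fun p => by
    have e10 : ((imZ 10 • p : Fin 31671) : ℕ) = ap sig10 p.val := imZ_apply (by decide) p
    have e0 : ((imZ 0 • p : Fin 31671) : ℕ) = ap sig0 p.val := imZ_apply (by decide) p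
    rw [mul_smul, ← e0, ← e10, ← Fin.ext_iff]
    constructor
    · intro hp
      conv_lhs => rw [← hp]
      rw [← mul_smul, imZ_sq (by norm_num), one_smul]
    · intro hp
      rw [← hp, ← mul_smul, imZ_sq (by norm_num), one_smul]
  have h1 : ∀ p : Fin 31671, imZ 10 • p = p ↔ p.val = ap sig10 p.val := fun p => by
    have e10 : ((imZ 10 • p : Fin 31671) : ℕ) = ap sig10 p.val := imZ_apply (by decide) p
    rw [← e10, Fin.ext_iff]
    exact eq_comm
  have e : {p : Fin 31671 | (imZ 0 * imZ 10) • p = p}.ncard = {p : Fin 31671 | imZ 10 • p = p}.ncard := by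
    have : {p : Fin 31671 | (imZ 0 * imZ 10) • p = p} = (g • ·) '' {p : Fin 31671 | imZ 10 • p = p} := by
      ext p
      simp only [Set.mem_image, Set.mem_ofPred_eq]
      constructor
      · intro hp
        refine ⟨g⁻¹ • p, ?_, smul_inv_smul g p⟩
        rw [← hg, mul_smul, mul_smul, smul_eq_iff_eq_inv_smul] at hp
        exact hp
      · rintro ⟨q, hq, rfl⟩
        rw [← hg, mul_smul, mul_smul, inv_smul_smul, hq]
    rw [this, Set.ncard_image_of_injective _ (MulAction.injective g)]
  have c1 : {p : Fin 31671 | (imZ 0 * imZ 10) • p = p}.ncard =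
      ((List.range 31671).filter fun p => ap sig0 p == ap sig10 p).length := by
    rw [← ncard_filter]
    exact congrArg Set.ncard (Set.ext fun p => (h0 p).trans beq_iff_eq.symm)
  have c2 : {p : Fin 31671 | imZ 10 • p = p}.ncard =
      ((List.range 31671).filter fun p => p == ap sig10 p).length := by
    rw [← ncard_filter]
    exact congrArg Set.ncard (Set.ext fun p => (h1 p).trans beq_iff_eq.symm)
  have := marks_out.2.1
  rw [← c1, ← c2, e] at this
  exact lt_irrefl _ this

theorem letter_mem_transp {k : ℕ} (hk : k < 10) : imZ k ∈ transp := by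
  obtain ⟨u, j, hj, hu⟩ := z_conj
  obtain ⟨v, hv⟩ := letter_conj j hj
  obtain ⟨w, hw⟩ := letter_conj k hk
  refine mem_transp.2 ⟨w * (u * v)⁻¹, ?_⟩
  rw [imZ_low hk, hw, hu, hv]
  group

/-- A letter times the eleventh is never a transposition. -/
theorem lz_not {l : ℕ} (hl : l < 9) : imZ l * imZ 10 ∉ transp := by
  have hmem : ∀ k, k < 9 → imZ k ∈ lgp imZ lamH := fun k hk => lgp_mem imZ (by interval_cases k <;> decide)
  have tr : ∀ x y, x < 9 → y < 9 → pairWord x y = rpt 3 [x, y] →
      (∃ u ∈ lgp imZ lamH, imZ x = u * imZ 0 * u⁻¹) → ∃ u ∈ lgp imZ lamH, imZ y = u * imZ 0 * u⁻¹ := by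
    rintro x y hx hy h3 ⟨u, hu, e⟩
    refine ⟨imZ x * imZ y * u, mul_mem (mul_mem (hmem x hx) (hmem y hy)) hu, ?_⟩
    have e3 := good_im (pairWord x y) (List.mem_append_left _ (List.mem_flatMap.2 ⟨x, List.mem_range.2 (by omega),
      List.mem_map.2 ⟨y, List.mem_range.2 (by omega), rfl⟩⟩))
    rw [h3, wval_rpt, wval_cons, wval_cons, wval_nil, mul_one, ← imZ_low (show x < 10 by omega),
      ← imZ_low (show y < 10 by omega)] at e3
    have sx : (imZ x)⁻¹ = imZ x := inv_eq_of_mul_eq_one_left (imZ_sq (by omega))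
    have sy : (imZ y)⁻¹ = imZ y := inv_eq_of_mul_eq_one_left (imZ_sq (by omega))
    have hy' : imZ y = (imZ x * imZ y) * imZ x * (imZ x * imZ y)⁻¹ := by
      refine (mul_inv_eq_one.1 ?_).symm
      rw [sy, mul_inv_rev, sx, sy, ← e3, pow_succ, pow_succ, pow_one]
      simp only [mul_assoc]
    conv_lhs => rw [hy']
    nth_rewrite 2 [e]
    group
  have h0 : ∃ u ∈ lgp imZ lamH, imZ 0 = u * imZ 0 * u⁻¹ := ⟨1, one_mem _, by group⟩
  have h1 := tr 0 1 (by norm_num) (by norm_num) (adj_pairs 0) h0
  have h2 := tr 1 2 (by norm_num) (by norm_num) (adj_pairs 1) h1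
  have h3 := tr 2 3 (by norm_num) (by norm_num) (adj_pairs 2) h2
  have h4 := tr 3 4 (by norm_num) (by norm_num) (adj_pairs 3) h3
  have h5 := tr 4 5 (by norm_num) (by norm_num) (adj_pairs 4) h4
  have h6 := tr 5 6 (by norm_num) (by norm_num) (adj_pairs 5) h5
  have h7 := tr 3 7 (by norm_num) (by norm_num) (adj_pairs 6) h3
  have h8 := tr 7 8 (by norm_num) (by norm_num) (adj_pairs 7) h7
  obtain ⟨u, hu, e⟩ : ∃ u ∈ lgp imZ lamH, imZ l = u * imZ 0 * u⁻¹ := by interval_cases l <;> assumption
  intro h
  obtain ⟨g, hg⟩ := mem_transp.1 h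
  refine az_not (mem_transp.2 ⟨u⁻¹ * g, ?_⟩)
  calc u⁻¹ * g * imZ 10 * (u⁻¹ * g)⁻¹ = u⁻¹ * (g * imZ 10 * g⁻¹) * u := by group
    _ = u⁻¹ * (u * imZ 0 * u⁻¹ * imZ 10) * u := by rw [hg, e]
    _ = imZ 0 * u⁻¹ * (imZ 10 * u) := by group
    _ = imZ 0 * u⁻¹ * (u * imZ 10) := by rw [z_comm hu]
    _ = imZ 0 * imZ 10 := by group

/-- A transposition commutes with what fixes its point. -/
theorem commute_iff (g x : Cfsg.Spor.Fi23) : Commute x (g * imZ 10 * g⁻¹) ↔ x • g • p0 = g • p0 := by
  have h : x • g • p0 = g • p0 ↔ g⁻¹ * x * g ∈ lgp imZ lamH := by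
    rw [← stab_eq, MulAction.mem_stabilizer_iff, mul_smul, mul_smul, inv_smul_eq_iff]
  rw [h, ← centralizer_z, Subgroup.mem_centralizer_singleton_iff]
  constructor
  · intro hc
    calc g⁻¹ * x * g * imZ 10 = g⁻¹ * (x * (g * imZ 10 * g⁻¹)) * g := by group
      _ = g⁻¹ * (g * imZ 10 * g⁻¹ * x) * g := by rw [hc.eq]
      _ = imZ 10 * (g⁻¹ * x * g) := by group
  · intro hc
    show x * (g * imZ 10 * g⁻¹) = g * imZ 10 * g⁻¹ * x
    calc x * (g * imZ 10 * g⁻¹) = g * (g⁻¹ * x * g * imZ 10) * g⁻¹ := by group
      _ = g * (imZ 10 * (g⁻¹ * x * g)) * g⁻¹ := by rw [hc]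
      _ = g * imZ 10 * g⁻¹ * x := by group

theorem point_unique {g g' : Cfsg.Spor.Fi23} (h : g • p0 = g' • p0) : g * imZ 10 * g⁻¹ = g' * imZ 10 * g'⁻¹ := by
  have hm : g'⁻¹ * g ∈ lgp imZ lamH := by rw [← stab_eq, MulAction.mem_stabilizer_iff, mul_smul, h, inv_smul_smul]
  calc g * imZ 10 * g⁻¹ = g' * (g'⁻¹ * g * imZ 10) * g⁻¹ := by group
    _ = g' * (imZ 10 * (g'⁻¹ * g)) * g⁻¹ := by rw [z_comm hm]
    _ = g' * imZ 10 * g'⁻¹ := by group

theorem jg_noncomm : ¬ Commute (imZ 9) (imZ 6) := by
  intro h
  have hne := marks_out.1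
  rw [bne_iff_ne] at hne
  have e1 := psi_apply (w := [9, 6]) (by simp) p0
  have e2 := psi_apply (w := [6, 9]) (by simp) p0
  rw [show wval imZ [9, 6] = imZ 9 * imZ 6 by simp [wval], h.eq] at e1
  rw [show wval imZ [6, 9] = imZ 6 * imZ 9 by simp [wval]] at e2
  exact hne (e1.symm.trans e2)

theorem j_commutes {l : ℕ} (hl : l < 9) (h6 : l ≠ 6) : Commute (imZ 9) (imZ l) := by
  have hp := List.all_eq_true.1 pair_far l (List.mem_range.2 hl)
  simp only [Bool.or_eq_true, beq_iff_eq, h6, false_or] at hp
  have e := good_im (pairWord 9 l) (List.mem_append_left _ (List.mem_flatMap.2 ⟨9, List.mem_range.2 (by norm_num),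
    List.mem_map.2 ⟨l, List.mem_range.2 (by omega), rfl⟩⟩))
  rw [hp, wval_rpt, wval_cons, wval_cons, wval_nil, mul_one, ← imZ_low (show 9 < 10 by norm_num),
    ← imZ_low (show l < 10 by omega), sq, ← mul_assoc] at e
  show imZ 9 * imZ l = imZ l * imZ 9
  rw [mul_eq_one_iff_eq_inv, inv_eq_of_mul_eq_one_left (imZ_sq (show l < 10 by omega))] at e
  calc imZ 9 * imZ l = imZ 9 * (imZ 9 * imZ l * imZ 9) := by rw [e]
    _ = imZ l * imZ 9 := by rw [← mul_assoc, ← mul_assoc, imZ_sq (by norm_num), one_mul]

/-- The pattern of a transposition against the first nine letters. -/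
theorem pattern {g : Cfsg.Spor.Fi23} {m : ℕ}
    (h : ∀ l, l < 9 → (Commute (imZ l) (g * imZ 10 * g⁻¹) ↔ l ≠ m)) : patAt m (g • p0).val = true := by
  rw [patAt, List.all_eq_true]
  intro l hl
  rw [List.mem_range] at hl
  have hi := h l hl
  rw [commute_iff, Fin.ext_iff, imZ_apply (show l < sigTabs.length from Nat.lt_trans hl (by decide))] at hi
  by_cases hm : l = m
  · subst hm
    have : ¬ (ap (sigTabs.getD l (0, 0)).1 (g • p0).val = (g • p0).val) := fun e => hi.1 e rfl
    simpa using this
  · have := hi.2 hm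
    rw [this, bne_self_eq_false, beq_false_of_ne hm]
    rfl

/-- An automorphism fixing the eleventh letter is inner. -/
theorem fix_inner (φ : MulAut Cfsg.Spor.Fi23) (hφ : φ (imZ 10) = imZ 10) : φ ∈ Cfsg.Inn Cfsg.Spor.Fi23 := by
  haveI := transitive
  set H := lgp imZ lamH with hH
  have hmap : H.map φ.toMonoidHom = H := by
    ext x
    rw [Subgroup.mem_map, hH, ← centralizer_z]
    simp only [Subgroup.mem_centralizer_singleton_iff]
    constructor
    · rintro ⟨y, hy, rfl⟩
      show φ y * imZ 10 = imZ 10 * φ y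
      rw [← hφ, ← map_mul, hy, map_mul]
    · intro hx
      refine ⟨φ.symm x, φ.injective ?_, φ.apply_symm_apply x⟩
      rw [map_mul, map_mul, hφ, φ.apply_symm_apply, hx]
  let ψ : H ≃* H := (φ.subgroupMap H).trans (MulEquiv.subgroupCongr hmap)
  have hψ : ∀ h : H, (ψ h).1 = φ h.1 := fun h => rfl
  have hker : (down.ker).map ψ.toMonoidHom = down.ker := by
    ext x
    constructor
    · rintro ⟨y, hy, rfl⟩
      rw [MonoidHom.mem_ker]
      rcases ker_cases hy with e | e
      · rw [show ψ.toMonoidHom y = 1 from Subtype.ext (by show (ψ y).1 = 1; rw [hψ, e, map_one]), map_one]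
      · rw [show ψ.toMonoidHom y = zH from Subtype.ext (by show (ψ y).1 = imZ 10; rw [hψ, e, hφ]), down_z]
    · intro hx
      rcases ker_cases (MonoidHom.mem_ker.1 hx) with e | e
      · exact ⟨1, one_mem _, Subtype.ext (by simp [e])⟩
      · exact ⟨zH, down_z, Subtype.ext (by show (ψ zH).1 = x.1; rw [hψ, e]; exact hφ)⟩
  let q := QuotientGroup.quotientKerEquivOfSurjective down down_surjective
  let β : MulAut Cfsg.Spor.Fi22 := (q.symm.trans (QuotientGroup.congr down.ker down.ker ψ hker)).trans q
  have hβ : ∀ h : H, β (down h) = down (ψ h) := fun h => by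
    have e : q.symm (down h) = (QuotientGroup.mk h : H ⧸ down.ker) := by
      rw [MulEquiv.symm_apply_eq]; rfl
    show q (QuotientGroup.congr down.ker down.ker ψ hker (q.symm (down h))) = _
    rw [e]
    rfl
  have h9 : ∀ l, l < 9 → imZ l ∈ H := fun l hl => lgp_mem imZ (by interval_cases l <;> decide)
  have hlam : ∀ l, l < 9 → l ∈ lamH := fun l hl => by interval_cases l <;> decide
  -- the images of the first nine letters
  obtain ⟨f, σ, hσ, hl9⟩ : ∃ (f : Cfsg.Spor.Fi22) (σ : ℕ → ℕ), (σ = id ∨ σ = Cfsg.Lib.FiPres.symL) ∧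
      ∀ l, l < 9 → β (Cfsg.Lib.FiPres.im10 l) = f * Cfsg.Lib.FiPres.im10 (σ l) * f⁻¹ := by
    by_cases hb : β ∈ Cfsg.Inn Cfsg.Spor.Fi22
    · obtain ⟨f, hf⟩ := hb
      exact ⟨f, id, Or.inl rfl, fun l _ => by rw [← hf, MulAut.conj_apply]; rfl⟩
    · have h2 : (Cfsg.Inn Cfsg.Spor.Fi22).index = 2 :=
        (Subgroup.index_eq_card _).trans Cfsg.Lib.FiPres.card_out
      obtain ⟨f, hf⟩ : β * Cfsg.Lib.FiPres.symAut ∈ Cfsg.Inn Cfsg.Spor.Fi22 :=
        (Subgroup.mul_mem_iff_of_index_two h2).2 ⟨fun e => absurd e hb, fun e => absurd e Cfsg.Lib.FiPres.symAut_outer⟩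
      refine ⟨f, Cfsg.Lib.FiPres.symL, Or.inr rfl, fun l hl => ?_⟩
      obtain ⟨hs, hss⟩ := Cfsg.Lib.FiPres.symL_facts ⟨l, hl⟩
      have e := DFunLike.congr_fun hf (Cfsg.Lib.FiPres.im (Cfsg.Lib.FiPres.symL l))
      rw [MulAut.conj_apply, MulAut.mul_apply] at e
      rw [Cfsg.Lib.FiPres.im10_low hl, Cfsg.Lib.FiPres.im10_low hs, e]
      congr 1
      show _ = Cfsg.Lib.FiPres.toGrp Cfsg.Lib.FiPres.good_sym (Cfsg.Lib.FiPres.im (Cfsg.Lib.FiPres.symL l))
      rw [Cfsg.Lib.FiPres.toGrp_im Cfsg.Lib.FiPres.good_sym hs]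
      exact (congrArg Cfsg.Lib.FiPres.im hss).symm
  have hσ9 : ∀ l, l < 9 → σ l < 9 := fun l hl => by
    rcases hσ with rfl | rfl
    · exact hl
    · exact (Cfsg.Lib.FiPres.symL_facts ⟨l, hl⟩).1
  obtain ⟨h, rfl⟩ := down_surjective f
  set θ : MulAut Cfsg.Spor.Fi23 := (MulAut.conj h.1)⁻¹ * φ with hθ
  have hθa : ∀ x, θ x = h.1⁻¹ * φ x * h.1 := fun x => by
    rw [hθ, MulAut.mul_apply, MulAut.conj_inv_apply]
  have hlet : ∀ l, l < 9 → θ (imZ l) = imZ (σ l) := by
    intro l hl
    let a : H := ⟨imZ l, h9 l hl⟩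
    let b : H := ⟨imZ (σ l), h9 _ (hσ9 l hl)⟩
    have hd : down (h⁻¹ * ψ a * h * b⁻¹) = 1 := by
      rw [map_mul, map_mul, map_mul, map_inv, map_inv, ← hβ, down_eq (g := a) (agrees_gen (hlam l hl)),
        down_eq (g := b) (agrees_gen (hlam _ (hσ9 l hl))), hl9 l hl]
      group
    have hv : (h⁻¹ * ψ a * h * b⁻¹).1 = θ (imZ l) * (imZ (σ l))⁻¹ := by
      rw [hθa]; rfl
    rcases ker_cases hd with e | e <;> rw [hv] at e
    · exact mul_inv_eq_one.1 e
    · exfalso
      refine lz_not (hσ9 l hl) ?_
      rw [mul_inv_eq_iff_eq_mul] at e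
      rw [← z_comm (h9 _ (hσ9 l hl))] at e
      rw [← e]
      exact aut_transp θ (letter_mem_transp (Nat.lt_trans hl (by norm_num)))
  obtain ⟨g, hg⟩ := mem_transp.1 (aut_transp θ (letter_mem_transp (show 9 < 10 by norm_num)))
  have hcomm : ∀ l, l < 9 → (Commute (imZ (σ l)) (g * imZ 10 * g⁻¹) ↔ l ≠ 6) := fun l hl => by
    rw [hg, ← hlet l hl]
    constructor
    · rintro hc rfl
      exact jg_noncomm (θ.injective (by rw [map_mul, map_mul]; exact hc.eq.symm))
    · intro h6
      exact ((j_commutes hl h6).symm.map θ)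
  have hσid : σ = id := by
    rcases hσ with e | e
    · exact e
    · exfalso
      subst e
      have hp := pattern (g := g) (m := 0) fun k hk => by
        obtain ⟨hs, hss⟩ := Cfsg.Lib.FiPres.symL_facts ⟨k, hk⟩
        have := hcomm _ hs
        rw [hss] at this
        rw [this]
        have key : ∀ k : Fin 9, Cfsg.Lib.FiPres.symL k.val = 6 ↔ k.val = 0 := by decide
        exact not_congr (key ⟨k, hk⟩)
      have hz := List.all_eq_true.1 pat_zero _ (List.mem_range.2 (g • p0).isLt)
      rw [hp] at hz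
      exact Bool.noConfusion hz
  subst hσid
  have hj : ∀ {k : Cfsg.Spor.Fi23}, (∀ l, l < 9 → (Commute (imZ l) (k * imZ 10 * k⁻¹) ↔ l ≠ 6)) →
      (k • p0).val = 1 ∨ (k • p0).val = 7999 := fun {k} hk => by
    have hp := pattern hk
    have h6 := List.all_eq_true.1 pat_six _ (List.mem_range.2 (k • p0).isLt)
    simp only [hp, Bool.not_true, Bool.false_or, Bool.or_eq_true, beq_iff_eq] at h6
    exact h6
  obtain ⟨k, hk⟩ := mem_transp.1 (letter_mem_transp (show 9 < 10 by norm_num))
  have hkc : ∀ l, l < 9 → (Commute (imZ l) (k * imZ 10 * k⁻¹) ↔ l ≠ 6) := fun l hl => by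
    rw [hk]
    exact ⟨fun hc e => jg_noncomm (e ▸ hc.symm), fun h6 => (j_commutes hl h6).symm⟩
  have hzk : ∀ l, l < 9 → (Commute (imZ l) ((imZ 10 * k) * imZ 10 * (imZ 10 * k)⁻¹) ↔ l ≠ 6) := fun l hl => by
    rw [← hkc l hl]
    have e1 : (imZ 10 * k) * imZ 10 * (imZ 10 * k)⁻¹ = MulAut.conj (imZ 10) (k * imZ 10 * k⁻¹) := by
      rw [MulAut.conj_apply]; group
    have e2 : imZ l = MulAut.conj (imZ 10) (imZ l) := by
      rw [MulAut.conj_apply, ← z_comm (h9 l hl), mul_inv_cancel_right]
    constructor
    · intro hc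
      rw [e1, e2] at hc
      generalize k * imZ 10 * k⁻¹ = d at hc ⊢
      exact (MulAut.conj (imZ 10)).injective (by rw [map_mul, map_mul]; exact hc.eq)
    · intro hc
      rw [e1, e2]
      exact hc.map _
  have hne : (k • p0) ≠ ((imZ 10 * k) • p0) := by
    intro e
    rw [mul_smul] at e
    have hkj := hj hkc
    have hz : ∀ q : ℕ, q = 1 ∨ q = 7999 → ap sig10 q ≠ q := by
      rintro q (rfl | rfl) <;> decide +kernel
    refine hz _ hkj ?_
    rw [← show ((imZ 10 • k • p0 : Fin 31671) : ℕ) = ap sig10 (k • p0).val from imZ_apply (by decide) _, ← e]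
  have hgk : g • p0 = k • p0 ∨ g • p0 = (imZ 10 * k) • p0 := by
    rcases hj hcomm with a | a <;> rcases hj hkc with b | b
    · exact Or.inl (Fin.ext (a.trans b.symm))
    · rcases hj hzk with c | c
      · exact Or.inr (Fin.ext (a.trans c.symm))
      · exact absurd (Fin.ext (b.trans c.symm)) hne
    · rcases hj hzk with c | c
      · exact absurd (Fin.ext (b.trans c.symm)) hne
      · exact Or.inr (Fin.ext (a.trans c.symm))
    · exact Or.inl (Fin.ext (a.trans b.symm))
  have key : ∀ χ : MulAut Cfsg.Spor.Fi23, (∀ l, l < 10 → χ (imZ l) = imZ l) → χ = 1 := fun χ hχ => by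
    have : χ.toMonoidHom = MonoidHom.id _ := MonoidHom.eq_of_eqOn_dense closure_im (by
      rintro _ ⟨l, hl, rfl⟩
      show χ (im l) = im l
      rw [← imZ_low hl]
      exact hχ l hl)
    exact MulEquiv.ext fun x => DFunLike.congr_fun this x
  have hin : ∀ x : Cfsg.Spor.Fi23, MulAut.conj x ∈ Cfsg.Inn Cfsg.Spor.Fi23 := fun x => ⟨x, rfl⟩
  have hθin : θ ∈ Cfsg.Inn Cfsg.Spor.Fi23 := by
    rcases hgk with e | e
    · rw [key θ fun l hl => ?_]
      · exact one_mem _
      · rcases Nat.lt_or_ge l 9 with h' | h'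
        · exact hlet l h'
        · rw [show l = 9 by omega, ← hg, point_unique e, hk]
    · have : (MulAut.conj (imZ 10))⁻¹ * θ = 1 := key _ fun l hl => by
        rw [MulAut.mul_apply, MulAut.conj_inv_apply]
        rcases Nat.lt_or_ge l 9 with h' | h'
        · rw [hlet l h']
          show (imZ 10)⁻¹ * imZ l * imZ 10 = imZ l
          rw [mul_assoc, z_comm (h9 l h'), inv_mul_cancel_left]
        · rw [show l = 9 by omega, ← hg, point_unique e, ← hk]
          group
      rw [inv_mul_eq_one] at this
      rw [← this]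
      exact hin _
  have : φ = MulAut.conj h.1 * θ := by rw [hθ, mul_inv_cancel_left]
  rw [this]
  exact mul_mem (hin _) hθin

theorem card_out : Nat.card (Cfsg.Out Cfsg.Spor.Fi23) = 1 := by
  rw [← Subgroup.index_eq_card, Subgroup.index_eq_one, eq_top_iff]
  intro φ _
  obtain ⟨g, hg⟩ := mem_transp.1 (aut_transp φ (mem_transp.2 ⟨1, by group⟩ : imZ 10 ∈ transp))
  have h := fix_inner ((MulAut.conj g)⁻¹ * φ) (by
    rw [MulAut.mul_apply, MulAut.conj_inv_apply, ← hg]; group)
  have : φ = MulAut.conj g * ((MulAut.conj g)⁻¹ * φ) := by rw [mul_inv_cancel_left]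
  rw [this]
  exact mul_mem ⟨g, rfl⟩ h

end Cfsg.Lib.FiTwenty
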