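import Cfsg.Agent.FiTwenty.Cover

/-!
The conjugates of the eleventh letter form a class of three-transpositions.
-/

set_option autoImplicit false
set_option maxRecDepth 20000

namespace Cfsg.Lib.FiTwenty

open Cfsg.Lib.CosetCert Cfsg.Lib.PermCert

theorem three_transp (g : Cfsg.Spor.Fi23) :
    (imZ 10 * (g * imZ 10 * g⁻¹)) ^ 2 = 1 ∨ (imZ 10 * (g * imZ 10 * g⁻¹)) ^ 3 = 1 := by
  haveI := transitive
  have hst : ∀ x : Cfsg.Spor.Fi23, x • p0 = p0 → x ∈ lgp imZ lamH := fun x hx => by
    rw [← stab_eq]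
    exact hx
  have key : ∀ (w : List ℕ) (h : Cfsg.Spor.Fi23) (n : ℕ), (∀ l ∈ w, l < 10) → h ∈ lgp imZ lamH →
      h • (g • p0) = (wval imZ w)⁻¹ • p0 → wval imZ (10 :: (w.reverse ++ 10 :: w)) ^ n = 1 →
      (imZ 10 * (g * imZ 10 * g⁻¹)) ^ n = 1 := by
    intro w h n hw hh e ht
    have hk : wval imZ w * h * g ∈ lgp imZ lamH := hst _ (by rw [mul_smul, mul_smul, e, smul_inv_smul])
    set v := wval imZ w with hv
    set k := v * h * g with hkdef
    have hc := z_comm hk
    have hca := z_comm hh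
    have hp : wval imZ (10 :: (w.reverse ++ 10 :: w)) = h * (imZ 10 * (g * imZ 10 * g⁻¹)) * h⁻¹ := by
      rw [wval_cons, wval_append, wval_cons, wval_reverse imZ (fun l hl => imZ_sq (hw l hl)), ← hv]
      calc imZ 10 * (v⁻¹ * (imZ 10 * v)) = imZ 10 * (v⁻¹ * ((k * imZ 10) * k⁻¹) * v) := by
            rw [hc, mul_inv_cancel_right]; group
        _ = imZ 10 * (h * (g * imZ 10 * g⁻¹) * h⁻¹) := by rw [hkdef]; group
        _ = h * (imZ 10 * (g * imZ 10 * g⁻¹)) * h⁻¹ := by
            rw [← mul_assoc h (imZ 10), hca]; group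
    rw [hp, conj_pow, mul_inv_eq_one, mul_eq_left] at ht
    exact ht
  have hpt : ∀ (w : List ℕ) (b : ℕ) (hb : b < 31671), (∀ l ∈ w, l < 10) → evalW sigTabs w 0 = b →
      (wval imZ w)⁻¹ • p0 = ⟨b, hb⟩ := fun w b hb hw e => by
    refine Fin.ext ?_
    rw [smul_eq, map_inv]
    exact (evalW_apply imZ psi sigTabs psi_act w (fun l hl => Nat.lt_succ_of_lt (hw l hl)) p0).trans e
  have hne := words_ok
  simp only [List.all_eq_true, decide_eq_true_eq, beq_iff_eq] at hne
  rcases cases_point (g • p0) with h0 | h1 | h2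
  · left
    rw [z_comm (hst g h0), mul_inv_cancel_right, z_sq, one_pow]
  · have : (⟨subBase1, cover_sub.2.1⟩ : Fin 31671) ∈ MulAction.orbit (lgp imZ lamH) (g • p0) := by
      rw [orbit_one _ h1]
      exact cover_sub.2.2.2.1
    obtain ⟨⟨h, hh⟩, e⟩ := this
    exact Or.inl (key nearWord h 2 hne.2.1 hh (e.trans (hpt _ _ _ hne.2.1 hne.2.2.2.2.1).symm) near_one)
  · have : (⟨subBase2, cover_sub.2.2.1⟩ : Fin 31671) ∈ MulAction.orbit (lgp imZ lamH) (g • p0) := by
      rw [orbit_two _ h2]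
      exact cover_sub.2.2.2.2
    obtain ⟨⟨h, hh⟩, e⟩ := this
    exact Or.inr (key [9] h 3 (by simp) hh (e.trans (hpt _ _ _ (by simp) hne.2.2.2.2.2.1).symm) far_one)

theorem centralizer_z : Subgroup.centralizer {imZ 10} = lgp imZ lamH := by
  have hle : lgp imZ lamH ≤ Subgroup.centralizer {imZ 10} := fun h hh =>
    Subgroup.mem_centralizer_singleton_iff.2 (z_comm hh)
  rcases between hle with e | e
  · exact e
  · exfalso
    haveI := simple_fi
    have hz : imZ 10 ∈ Subgroup.center Cfsg.Spor.Fi23 := Subgroup.mem_center_iff.2 fun g =>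
      Subgroup.mem_centralizer_singleton_iff.1 (e ▸ Subgroup.mem_top g)
    rcases Subgroup.Normal.eq_bot_or_eq_top (inferInstance : (Subgroup.center Cfsg.Spor.Fi23).Normal) with c | c
    · rw [c] at hz
      exact z_ne (Subgroup.mem_bot.1 hz)
    · have hn : (lgp imZ lamH).Normal := ⟨fun n hn g => by
        have hg : g ∈ Subgroup.center Cfsg.Spor.Fi23 := c ▸ Subgroup.mem_top g
        have := Subgroup.mem_center_iff.1 hg n
        rwa [← this, mul_assoc, mul_inv_cancel, mul_one]⟩
      rcases Subgroup.Normal.eq_bot_or_eq_top hn with d | d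
      · have := card_h
        rw [d, Subgroup.card_bot] at this
        norm_num at this
      · have := index_h
        rw [d, Subgroup.index_top] at this
        norm_num at this

attribute [local irreducible] sig0 sig1 sig2 sig3 sig4 sig5 sig6 sig7 sig8 sig9 sig10 subPts subIdx subTree1Mask subTree2Mask
/-- The class of the eleventh letter. -/
def transp : Set Cfsg.Spor.Fi23 := conjugatesOf (imZ 10)

theorem mem_transp {x : Cfsg.Spor.Fi23} : x ∈ transp ↔ ∃ g, g * imZ 10 * g⁻¹ = x := isConj_iff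

theorem conj_order (g : Cfsg.Spor.Fi23) : orderOf (g * imZ 10 * g⁻¹) = 2 :=
  orderOf_eq_prime (by rw [sq, show g * imZ 10 * g⁻¹ * (g * imZ 10 * g⁻¹) = g * (imZ 10 * imZ 10) * g⁻¹ by group,
    z_sq, mul_one, mul_inv_cancel]) (fun h => z_ne (by
      rwa [mul_inv_eq_one, mul_eq_left] at h))

theorem transp_class : Cfsg.IsThreeTranspositionClass transp := by
  refine ⟨⟨fun d hd => ?_, fun d hd e he => ?_⟩, ⟨imZ 10, IsConj.refl _, rfl⟩, ?_⟩
  · obtain ⟨g, rfl⟩ := mem_transp.1 hd
    exact conj_order g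
  · obtain ⟨g, rfl⟩ := mem_transp.1 hd
    obtain ⟨k, rfl⟩ := mem_transp.1 he
    have e1 : g * imZ 10 * g⁻¹ * (k * imZ 10 * k⁻¹) =
        g * (imZ 10 * ((g⁻¹ * k) * imZ 10 * (g⁻¹ * k)⁻¹)) * g⁻¹ := by group
    rcases three_transp (g⁻¹ * k) with h | h
    · left; rw [e1, conj_pow, h, mul_one, mul_inv_cancel]
    · right; rw [e1, conj_pow, h, mul_one, mul_inv_cancel]
  · haveI := simple_fi
    haveI hn : (Subgroup.closure transp).Normal := ⟨fun n hn g => by
      induction hn using Subgroup.closure_induction with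
      | mem x hx =>
        obtain ⟨k, rfl⟩ := mem_transp.1 hx
        exact Subgroup.subset_closure (mem_transp.2 ⟨g * k, by group⟩)
      | one => simp
      | mul x y _ _ hx hy =>
        rw [show g * (x * y) * g⁻¹ = g * x * g⁻¹ * (g * y * g⁻¹) by group]
        exact mul_mem hx hy
      | inv x _ hx =>
        rw [show g * x⁻¹ * g⁻¹ = (g * x * g⁻¹)⁻¹ by group]
        exact inv_mem hx⟩
    rcases Subgroup.Normal.eq_bot_or_eq_top hn with e | e
    · exact absurd (Subgroup.mem_bot.1 (e ▸ Subgroup.subset_closure (IsConj.refl _) :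
        imZ 10 ∈ (⊥ : Subgroup Cfsg.Spor.Fi23))) z_ne
    · exact e

theorem card_transp : Nat.card transp = 31671 := by
  let f : Cfsg.Spor.Fi23 ⧸ lgp imZ lamH → transp := Quotient.lift (fun g => ⟨g * imZ 10 * g⁻¹, mem_transp.2 ⟨g, rfl⟩⟩)
    fun a b hab => Subtype.ext (by
      have h : a⁻¹ * b ∈ lgp imZ lamH := QuotientGroup.leftRel_apply.1 hab
      have := z_comm h
      calc a * imZ 10 * a⁻¹ = a * (imZ 10 * (a⁻¹ * b)) * b⁻¹ := by group
        _ = a * ((a⁻¹ * b) * imZ 10) * b⁻¹ := by rw [this]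
        _ = b * imZ 10 * b⁻¹ := by group)
  have hb : Function.Bijective f := by
    constructor
    · intro x y
      induction x using QuotientGroup.induction_on with
      | H a =>
        induction y using QuotientGroup.induction_on with
        | H b =>
          intro h
          have h' : a * imZ 10 * a⁻¹ = b * imZ 10 * b⁻¹ := congrArg Subtype.val h
          refine QuotientGroup.eq.2 ?_
          rw [← centralizer_z, Subgroup.mem_centralizer_singleton_iff]
          calc a⁻¹ * b * imZ 10 = a⁻¹ * (b * imZ 10 * b⁻¹) * b := by group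
            _ = a⁻¹ * (a * imZ 10 * a⁻¹) * b := by rw [h']
            _ = imZ 10 * (a⁻¹ * b) := by group
    · rintro ⟨x, hx⟩
      obtain ⟨g, rfl⟩ := mem_transp.1 hx
      exact ⟨QuotientGroup.mk g, rfl⟩
  rw [← Nat.card_eq_of_bijective f hb, ← Subgroup.index_eq_card, index_h]

theorem centralizer_transp {d : Cfsg.Spor.Fi23} (hd : d ∈ transp) :
    Cfsg.IsNonsplitDoubleCover (Subgroup.centralizer ({d} : Set Cfsg.Spor.Fi23)) Cfsg.Spor.Fi22 := by
  obtain ⟨g, rfl⟩ := mem_transp.1 hd
  have e : (Subgroup.centralizer ({imZ 10} : Set Cfsg.Spor.Fi23)).map (MulAut.conj g).toMonoidHom =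
      Subgroup.centralizer {g * imZ 10 * g⁻¹} := by
    ext x
    rw [Subgroup.mem_map, Subgroup.mem_centralizer_singleton_iff]
    constructor
    · rintro ⟨y, hy, rfl⟩
      rw [Subgroup.mem_centralizer_singleton_iff] at hy
      show g * y * g⁻¹ * (g * imZ 10 * g⁻¹) = g * imZ 10 * g⁻¹ * (g * y * g⁻¹)
      rw [show g * y * g⁻¹ * (g * imZ 10 * g⁻¹) = g * (y * imZ 10) * g⁻¹ by group, hy]
      group
    · intro hx
      refine ⟨g⁻¹ * x * g, Subgroup.mem_centralizer_singleton_iff.2 ?_, by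
        show g * (g⁻¹ * x * g) * g⁻¹ = x
        group⟩
      calc g⁻¹ * x * g * imZ 10 = g⁻¹ * (x * (g * imZ 10 * g⁻¹)) * g := by group
        _ = g⁻¹ * (g * imZ 10 * g⁻¹ * x) * g := by rw [hx]
        _ = imZ 10 * (g⁻¹ * x * g) := by group
  rw [← e]
  exact Cfsg.Lib.FiPres.nonsplit_congr ((MulEquiv.subgroupCongr centralizer_z.symm).trans
    (Subgroup.equivMapOfInjective _ _ (MulAut.conj g).injective)) double_cover

open Cfsg.Spor.Fi23 in
theorem printed_h : (Subgroup.closure ({a, b, c, d, e, f, g, h, i} : Set (FreeGroup Gen))).map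
    (PresentedGroup.mk (Cfsg.Spor.coxRelators edges ∪ {r | r ∈ extra})) = lgp imZ lamH := by
  rw [MonoidHom.map_closure]
  refine le_antisymm ((Subgroup.closure_le _).2 ?_) ((Subgroup.closure_le _).2 ?_)
  · rintro _ ⟨w, hw, rfl⟩
    simp only [Set.mem_insert_iff, Set.mem_singleton_iff] at hw
    rcases hw with rfl | rfl | rfl | rfl | rfl | rfl | rfl | rfl | rfl
    exacts [Subgroup.subset_closure ⟨0, by simp [lamH], imZ_low (by norm_num)⟩,
      Subgroup.subset_closure ⟨1, by simp [lamH], imZ_low (by norm_num)⟩,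
      Subgroup.subset_closure ⟨2, by simp [lamH], imZ_low (by norm_num)⟩,
      Subgroup.subset_closure ⟨3, by simp [lamH], imZ_low (by norm_num)⟩,
      Subgroup.subset_closure ⟨4, by simp [lamH], imZ_low (by norm_num)⟩,
      Subgroup.subset_closure ⟨5, by simp [lamH], imZ_low (by norm_num)⟩,
      Subgroup.subset_closure ⟨6, by simp [lamH], imZ_low (by norm_num)⟩,
      Subgroup.subset_closure ⟨7, by simp [lamH], imZ_low (by norm_num)⟩,
      Subgroup.subset_closure ⟨8, by simp [lamH], imZ_low (by norm_num)⟩]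
  · rintro _ ⟨l, hl, rfl⟩
    rw [SetLike.mem_coe]
    simp only [lamH, List.mem_cons, List.mem_nil_iff, or_false] at hl
    rcases hl with rfl | rfl | rfl | rfl | rfl | rfl | rfl | rfl | rfl
    exacts [Subgroup.subset_closure ⟨a, by simp, (imZ_low (show 0 < 10 by norm_num)).symm⟩,
      Subgroup.subset_closure ⟨b, by simp, (imZ_low (show 1 < 10 by norm_num)).symm⟩,
      Subgroup.subset_closure ⟨c, by simp, (imZ_low (show 2 < 10 by norm_num)).symm⟩,
      Subgroup.subset_closure ⟨d, by simp, (imZ_low (show 3 < 10 by norm_num)).symm⟩,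
      Subgroup.subset_closure ⟨e, by simp, (imZ_low (show 4 < 10 by norm_num)).symm⟩,
      Subgroup.subset_closure ⟨f, by simp, (imZ_low (show 5 < 10 by norm_num)).symm⟩,
      Subgroup.subset_closure ⟨g, by simp, (imZ_low (show 6 < 10 by norm_num)).symm⟩,
      Subgroup.subset_closure ⟨h, by simp, (imZ_low (show 7 < 10 by norm_num)).symm⟩,
      Subgroup.subset_closure ⟨i, by simp, (imZ_low (show 8 < 10 by norm_num)).symm⟩]

end Cfsg.Lib.FiTwenty
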