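import Cfsg.Agent.FiTwenty.SylTwo
import Cfsg.Prelude.Def_Transfer

/-!
The normal elementary abelian subgroups of a Sylow 2-subgroup of the presented Fischer group on ten letters.
-/

set_option autoImplicit false

namespace Cfsg.Lib.FiTwenty.SylTwo

open scoped Pointwise

theorem base_bound {A : Subgroup Cfsg.Spor.Fi23} (hA : A ≤ T 7) (he : Cfsg.IsElementaryAbelian 2 A) :
    Nat.card A ≤ 2 ^ 11 ∧ (Nat.card A = 2 ^ 11 → A = V) := by
  by_cases hV : A ≤ V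
  · exact ⟨card_V ▸ Subgroup.card_le_of_le hV, fun h => Subgroup.eq_of_le_of_card_ge hV (by rw [card_V, h])⟩
  · have := small hA he hV
    exact ⟨by omega, fun h => by omega⟩

/-- The Sylow 2-subgroup found. -/
noncomputable def T0 : Sylow 2 Cfsg.Spor.Fi23 :=
  haveI : Fact (Nat.Prime 2) := ⟨Nat.prime_two⟩
  Sylow.ofCard (T 7) (by
    rw [card_T, faithful_all.1]
    congr 1
    rw [show (4089470473293004800 : ℕ) = 2 ^ 18 * 15600091832325 by norm_num, Nat.factorization_mul (by norm_num)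
      (by norm_num), Finsupp.add_apply, Nat.Prime.factorization_pow Nat.prime_two, Finsupp.single_eq_same,
      Nat.factorization_eq_zero_of_not_dvd (by norm_num)])

theorem conj_elem {A : Subgroup Cfsg.Spor.Fi23} (e : Cfsg.Spor.Fi23 ≃* Cfsg.Spor.Fi23)
    (h : Cfsg.IsElementaryAbelian 2 A) : Cfsg.IsElementaryAbelian 2 (A.map e.toMonoidHom) := by
  haveI := h.1
  refine ⟨⟨⟨?_⟩⟩, ?_⟩
  · rintro ⟨_, a, ha, rfl⟩ ⟨_, b, hb, rfl⟩
    refine Subtype.ext ?_
    show e a * e b = e b * e a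
    rw [← map_mul, ← map_mul]
    exact congrArg e (congrArg Subtype.val (mul_comm' (⟨a, ha⟩ : A) ⟨b, hb⟩))
  · rintro _ ⟨a, ha, rfl⟩
    show e a ^ 2 = 1
    rw [← map_pow, h.2 a ha, map_one]

theorem sylow_two (P : Sylow 2 Cfsg.Spor.Fi23) :
    (∀ A : Subgroup Cfsg.Spor.Fi23, A ≤ P → (A.subgroupOf P).Normal → Cfsg.IsElementaryAbelian 2 A →
        Nat.card A ≤ 2 ^ 11) ∧
    ∃! A : Subgroup Cfsg.Spor.Fi23, A ≤ P ∧ (A.subgroupOf P).Normal ∧ Cfsg.IsElementaryAbelian 2 A ∧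
        Nat.card A = 2 ^ 11 := by
  haveI : Fact (Nat.Prime 2) := ⟨Nat.prime_two⟩
  obtain ⟨g, hg⟩ := MulAction.exists_smul_eq Cfsg.Spor.Fi23 T0 P
  set e : Cfsg.Spor.Fi23 ≃* Cfsg.Spor.Fi23 := MulAut.conj g
  have hP : (P : Subgroup Cfsg.Spor.Fi23) = (T 7).map e.toMonoidHom := by rw [← hg]; rfl
  have back : ∀ A : Subgroup Cfsg.Spor.Fi23, A ≤ (P : Subgroup Cfsg.Spor.Fi23) → A.map e.symm.toMonoidHom ≤ T 7 := by
    intro A hA
    rintro _ ⟨a, ha, rfl⟩
    have := hA ha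
    rw [hP] at this
    obtain ⟨b, hb, rfl⟩ := this
    simpa using hb
  have key : ∀ A : Subgroup Cfsg.Spor.Fi23, A ≤ (P : Subgroup Cfsg.Spor.Fi23) → Cfsg.IsElementaryAbelian 2 A →
      Nat.card A ≤ 2 ^ 11 ∧ (Nat.card A = 2 ^ 11 → A = V.map e.toMonoidHom) := by
    intro A hA he
    have := base_bound (back A hA) (conj_elem e.symm he)
    rw [Subgroup.card_map_of_injective e.symm.injective] at this
    refine ⟨this.1, fun h => ?_⟩
    rw [← this.2 h, Subgroup.map_map]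
    ext x
    simp
  refine ⟨fun A hA _ he => (key A hA he).1, V.map e.toMonoidHom, ⟨?_, ?_, conj_elem e V_elem, ?_⟩, ?_⟩
  · rw [hP]
    exact Subgroup.map_mono le_sup_left
  · refine ⟨fun n hn x => ?_⟩
    obtain ⟨x, hx⟩ := x
    obtain ⟨n, hn'⟩ := n
    rw [Subgroup.mem_subgroupOf] at hn ⊢
    rw [hP] at hx
    obtain ⟨v, hv, e1⟩ := hn
    obtain ⟨y, hy, e2⟩ := hx
    have h1 := V_normal.conj_mem ⟨v, (le_sup_left : V ≤ T 7) hv⟩ (by rwa [Subgroup.mem_subgroupOf]) ⟨y, hy⟩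
    rw [Subgroup.mem_subgroupOf] at h1
    refine ⟨y * v * y⁻¹, h1, ?_⟩
    show e (y * v * y⁻¹) = x * n * x⁻¹
    rw [map_mul, map_mul, map_inv, show e v = n from e1, show e y = x from e2]
  · rw [Subgroup.card_map_of_injective e.injective, card_V]
  · rintro A ⟨hA, -, he, hc⟩
    exact (key A hA he).2 hc

end Cfsg.Lib.FiTwenty.SylTwo
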