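import Cfsg.Agent.FiTwenty.CoverFacts

/-!
Rotations and exchanges of commuting letters conjugate the value of a word.
-/

set_option autoImplicit false

namespace Cfsg.Lib.FiTwenty

open Cfsg.Lib.CosetCert

/-- One operation: `0` rotates, `i + 1` exchanges two commuting letters at the place `i`. -/
def opApply : ℕ → List ℕ → Option (List ℕ)
  | 0, x :: w => some (w ++ [x])
  | 1, x :: y :: w => if decide (x < 10) && decide (y < 10) && (pairWord x y == rpt 2 [x, y]) then some (y :: x :: w) else none
  | i + 2, x :: w => (opApply (i + 1) w).map (x :: ·)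
  | _, _ => none

/-- A list of operations. -/
def opsApply : List ℕ → List ℕ → Option (List ℕ)
  | [], w => some w
  | o :: os, w => (opApply o w).bind (opsApply os)

variable {X : Type*} [Group X] (f : ℕ → X)
  (hf : ∀ x y, x < 10 → y < 10 → pairWord x y = rpt 2 [x, y] → f x * f y = f y * f x)
include hf

theorem opApply_succ : ∀ (i : ℕ) (w v : List ℕ), opApply (i + 1) w = some v →
    wval f v = wval f w ∧ ∀ l ∈ v, l ∈ w
  | 0, [], v, h => by simp [opApply] at h
  | 0, [x], v, h => by simp [opApply] at h
  | 0, x :: y :: w, v, h => by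
    simp only [opApply, Option.ite_none_right_eq_some, Bool.and_eq_true, decide_eq_true_eq, beq_iff_eq,
      Option.some.injEq] at h
    obtain ⟨⟨⟨hx, hy⟩, hp⟩, rfl⟩ := h
    refine ⟨?_, fun l hl => ?_⟩
    · rw [wval_cons, wval_cons, wval_cons, wval_cons, ← mul_assoc, ← mul_assoc, hf x y hx hy hp]
    · simp only [List.mem_cons] at hl ⊢
      tauto
  | i + 1, [], v, h => by simp [opApply] at h
  | i + 1, x :: w, v, h => by
    simp only [opApply, Option.map_eq_some_iff] at h
    obtain ⟨u, hu, rfl⟩ := h
    obtain ⟨e, hm⟩ := opApply_succ i w u hu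
    refine ⟨by rw [wval_cons, wval_cons, e], fun l hl => ?_⟩
    rcases List.mem_cons.1 hl with rfl | hl
    exacts [List.mem_cons_self, List.mem_cons_of_mem _ (hm l hl)]

theorem opsApply_sound {S : List ℕ} : ∀ (os w v : List ℕ), opsApply os w = some v → (∀ l ∈ w, l ∈ S) →
    ∃ g ∈ lgp f S, g * wval f w * g⁻¹ = wval f v
  | [], w, v, h, _ => by
    simp only [opsApply, Option.some.injEq] at h
    exact ⟨1, one_mem _, by rw [h]; group⟩
  | o :: os, w, v, h, hS => by
    simp only [opsApply, Option.bind_eq_some_iff] at h
    obtain ⟨u, hu, hv⟩ := h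
    obtain ⟨⟨g, hg, e⟩, hm⟩ : (∃ g ∈ lgp f S, g * wval f w * g⁻¹ = wval f u) ∧ ∀ l ∈ u, l ∈ w := by
      cases o with
      | zero =>
        cases w with
        | nil => simp [opApply] at hu
        | cons x w =>
          simp only [opApply, Option.some.injEq] at hu
          subst hu
          refine ⟨⟨(f x)⁻¹, inv_mem (lgp_mem f (hS x List.mem_cons_self)), ?_⟩, fun l hl => ?_⟩
          · rw [wval_cons, wval_append, wval_cons, wval_nil, mul_one]
            group
          · rcases List.mem_append.1 hl with hl | hl
            · exact List.mem_cons_of_mem _ hl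
            · rw [List.mem_singleton.1 hl]; exact List.mem_cons_self
      | succ i =>
        obtain ⟨e, hm⟩ := opApply_succ f hf i w u hu
        exact ⟨⟨1, one_mem _, by rw [e]; group⟩, hm⟩
    obtain ⟨g', hg', e'⟩ := opsApply_sound os u v hv fun l hl => hS l (hm l hl)
    exact ⟨g' * g, mul_mem hg' hg, by rw [← e', ← e]; group⟩

omit hf

theorem revOps_ok : opsApply revOps coxBase = some coxBase.reverse := by decide +kernel

theorem revOpsSeven_ok : opsApply revOpsSeven chainBase = some chainBase.reverse := by decide +kernel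

end Cfsg.Lib.FiTwenty
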