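import Cfsg.Agent.FiTwenty.Rotations

/-!
Lifts of the class of transpositions to a central extension of the presented group on ten letters.
-/

set_option autoImplicit false

namespace Cfsg.Lib.FiTwenty

open Cfsg.Lib.CosetCert

theorem wval_congr {X : Type*} [Group X] {f g : ℕ → X} : ∀ {w : List ℕ}, (∀ l ∈ w, f l = g l) →
    wval f w = wval g w
  | [], _ => rfl
  | l :: w, h => by
    rw [wval_cons, wval_cons, h l List.mem_cons_self, wval_congr fun a ha => h a (List.mem_cons_of_mem l ha)]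

variable {Γ : Type*} [Group Γ] (σ : Γ →* Cfsg.Spor.Fi23)

/-- A central extension. -/
structure Central : Prop where
  surj : Function.Surjective σ
  cent : σ.ker ≤ Subgroup.center Γ

variable {σ}

theorem Central.comm (h : Central σ) {k : Γ} (hk : σ k = 1) (g : Γ) : g * k = k * g :=
  Subgroup.mem_center_iff.1 (h.cent (MonoidHom.mem_ker.2 hk)) g

theorem adj_nine : ∀ e : Fin 8, (pairWord ([0, 1, 2, 3, 4, 5, 3, 7].getD e.val 0)
    ([1, 2, 3, 4, 5, 6, 7, 8].getD e.val 0) == rpt 3 [[0, 1, 2, 3, 4, 5, 3, 7].getD e.val 0,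
      [1, 2, 3, 4, 5, 6, 7, 8].getD e.val 0]) = true := by decide +kernel

/-- Lifts of the centraliser commute with a lift of the transposition. -/
theorem Central.z_comm (h : Central σ) {zt : Γ} (hz : σ zt = imZ 10) {g : Γ} (hg : σ g ∈ lgp imZ lamH) :
    g * zt = zt * g := by
  set P : Subgroup Γ := (lgp imZ lamH).comap σ with hP
  have hker : ∀ x : P, σ (x.1 * zt * x.1⁻¹ * zt⁻¹) = 1 := fun x => by
    rw [map_mul, map_mul, map_mul, map_inv, map_inv, hz,
      Cfsg.Lib.FiTwenty.z_comm (Subgroup.mem_comap.1 x.2)]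
    group
  let c : P →* Γ := MonoidHom.mk' (fun x => x.1 * zt * x.1⁻¹ * zt⁻¹) fun x y => by
    show (x.1 * y.1) * zt * (x.1 * y.1)⁻¹ * zt⁻¹ = x.1 * zt * x.1⁻¹ * zt⁻¹ * (y.1 * zt * y.1⁻¹ * zt⁻¹)
    rw [h.comm (hker y) (x.1 * zt * x.1⁻¹ * zt⁻¹)]
    calc x.1 * y.1 * zt * (x.1 * y.1)⁻¹ * zt⁻¹
        = (x.1 * (y.1 * zt * y.1⁻¹ * zt⁻¹)) * zt * x.1⁻¹ * zt⁻¹ := by group
      _ = y.1 * zt * y.1⁻¹ * zt⁻¹ * (x.1 * zt * x.1⁻¹ * zt⁻¹) := by rw [h.comm (hker y) x.1]; group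
  have hcc : ∀ x : P, σ x.1 = 1 → c x = 1 := fun x hx => by
    show x.1 * zt * x.1⁻¹ * zt⁻¹ = 1
    rw [← h.comm hx zt]
    group
  choose a ha using fun l => h.surj (imZ l)
  let a' : ℕ → P := fun l => if hl : l ∈ lamH then ⟨a l, Subgroup.mem_comap.2 (by rw [ha]; exact lgp_mem imZ hl)⟩ else 1
  have ha' : ∀ l, l ∈ lamH → σ (a' l).1 = imZ l := fun l hl => by simp [a', hl, ha]
  have hσ : ∀ w : List ℕ, (∀ l ∈ w, l ∈ lamH) → σ (wval a' w).1 = wval imZ w := fun w hw => by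
    rw [show σ (wval a' w).1 = (σ.comp P.subtype) (wval a' w) from rfl, map_wval]
    exact wval_congr fun l hl => ha' l (hw l hl)
  have hd : ∀ w : List ℕ, (∀ l ∈ w, l ∈ lamH) → wval im w = 1 → wval (fun l => c (a' l)) w = 1 := fun w hw e => by
    rw [← map_wval]
    refine hcc _ ?_
    rw [hσ w hw, wval_low fun l hl => (show ∀ l ∈ lamH, l < 10 by decide) l (hw l hl), e]
  set d : ℕ → Γ := fun l => c (a' l) with hddef
  have hsq : ∀ l ∈ lamH, d l * d l = 1 := fun l hl => by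
    have := hd [l, l] (by simp [hl]) (by
      rw [wval_cons, wval_cons, wval_nil, mul_one]
      exact good_im.inv ((show ∀ l ∈ lamH, l < 10 by decide) l hl))
    rwa [wval_cons, wval_cons, wval_nil, mul_one] at this
  have hcom : ∀ l m, d l * d m = d m * d l := fun l m => h.comm (hker (a' m)) _
  have hadj : ∀ e : Fin 8, d ([0, 1, 2, 3, 4, 5, 3, 7].getD e.val 0) = d ([1, 2, 3, 4, 5, 6, 7, 8].getD e.val 0) := by
    intro e
    have hm : [0, 1, 2, 3, 4, 5, 3, 7].getD e.val 0 ∈ lamH ∧ [1, 2, 3, 4, 5, 6, 7, 8].getD e.val 0 ∈ lamH :=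
      (show ∀ e : Fin 8, [0, 1, 2, 3, 4, 5, 3, 7].getD e.val 0 ∈ lamH ∧
        [1, 2, 3, 4, 5, 6, 7, 8].getD e.val 0 ∈ lamH by decide) e
    have hlt := show ∀ l ∈ lamH, l < 10 by decide
    have hp := good_pair (hlt _ hm.1) (hlt _ hm.2)
    rw [beq_iff_eq.1 (adj_nine e)] at hp
    generalize [0, 1, 2, 3, 4, 5, 3, 7].getD e.val 0 = x at hm hp ⊢
    generalize [1, 2, 3, 4, 5, 6, 7, 8].getD e.val 0 = y at hm hp ⊢
    have e3 := hd (rpt 3 [x, y]) (fun l hl => by
      obtain ⟨v, hv, hl⟩ := List.mem_flatten.1 hl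
      rw [List.eq_of_mem_replicate hv] at hl
      simp only [List.mem_cons, List.not_mem_nil, or_false] at hl
      rcases hl with rfl | rfl
      exacts [hm.1, hm.2]) hp
    rw [wval_rpt, wval_cons, wval_cons, wval_nil, mul_one] at e3
    have hxy : (d x * d y) ^ 2 = 1 := by
      rw [sq, mul_assoc, ← mul_assoc (d y), hcom y x, mul_assoc (d x), hsq y hm.2, mul_one, hsq x hm.1]
    rw [pow_succ, hxy, one_mul] at e3
    rw [eq_inv_of_mul_eq_one_left e3, inv_eq_of_mul_eq_one_left (hsq y hm.2)]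
  have c1 := hadj 0
  have c2 := hadj 1
  have c3 := hadj 2
  have c4 := hadj 3
  have c5 := hadj 4
  have c6 := hadj 5
  have c7 := hadj 6
  have c8 := hadj 7
  simp only [show ((0 : Fin 8) : ℕ) = 0 from rfl, show ((1 : Fin 8) : ℕ) = 1 from rfl,
    show ((2 : Fin 8) : ℕ) = 2 from rfl, show ((3 : Fin 8) : ℕ) = 3 from rfl, show ((4 : Fin 8) : ℕ) = 4 from rfl,
    show ((5 : Fin 8) : ℕ) = 5 from rfl, show ((6 : Fin 8) : ℕ) = 6 from rfl, show ((7 : Fin 8) : ℕ) = 7 from rfl,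
    List.getD_cons_zero, List.getD_cons_succ] at c1 c2 c3 c4 c5 c6 c7 c8
  have h9 := hd (rpt 9 coxBase) (by decide) (good_im _ (List.mem_append_right _ (by simp [extraWords, coxBase])))
  have h0 : d 0 = 1 := by
    have hw : wval d coxBase = d 0 ^ 7 := by
      simp only [coxBase, wval_cons, wval_nil, mul_one, ← c7, ← c5, ← c4, ← c3, ← c2, ← c1]
      simp only [pow_succ, pow_zero, one_mul, mul_assoc]
    rw [wval_rpt, hw, ← pow_mul, show 7 * 9 = 2 * 31 + 1 from rfl, pow_succ, pow_mul, sq, hsq 0 (by decide),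
      one_pow, one_mul] at h9
    exact h9
  have hall : ∀ l ∈ lamH, d l = 1 := by
    intro l hl
    simp only [lamH, List.mem_cons, List.not_mem_nil, or_false] at hl
    have e1 := c1.symm.trans h0
    have e2 := c2.symm.trans e1
    have e3 := c3.symm.trans e2
    have e4 := c4.symm.trans e3
    have e5 := c5.symm.trans e4
    have e6 := c6.symm.trans e5
    have e7 := c7.symm.trans e3
    have e8 := c8.symm.trans e7
    rcases hl with rfl | rfl | rfl | rfl | rfl | rfl | rfl | rfl | rfl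
    exacts [h0, e1, e2, e3, e4, e5, e6, e7, e8]
  have hle : lgp imZ lamH ≤ c.ker.map (σ.comp P.subtype) := by
    refine (Subgroup.closure_le _).2 ?_
    rintro _ ⟨l, hl, rfl⟩
    exact ⟨a' l, MonoidHom.mem_ker.2 (hall l hl), ha' l hl⟩
  obtain ⟨x, hx, e⟩ := hle hg
  have hgx : c ⟨g, Subgroup.mem_comap.2 hg⟩ = 1 := by
    have hk : σ (x⁻¹ * ⟨g, Subgroup.mem_comap.2 hg⟩ : P).1 = 1 := by
      show σ (x.1⁻¹ * g) = 1
      rw [map_mul, map_inv, show σ x.1 = σ g from e, inv_mul_cancel]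
    rw [show (⟨g, Subgroup.mem_comap.2 hg⟩ : P) = x * (x⁻¹ * ⟨g, Subgroup.mem_comap.2 hg⟩) by group, map_mul,
      MonoidHom.mem_ker.1 hx, hcc _ hk, one_mul]
  have : g * zt * g⁻¹ * zt⁻¹ = 1 := hgx
  rwa [mul_inv_eq_one, mul_inv_eq_iff_eq_mul] at this

/-- A conjugate of the lift is determined by its image. -/
theorem Central.eq_lift (h : Central σ) {zt : Γ} (hz : σ zt = imZ 10) {x y : Γ} (hx : ∃ g, x = g * zt * g⁻¹)
    (hy : ∃ g, y = g * zt * g⁻¹) (e : σ x = σ y) : x = y := by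
  obtain ⟨g, rfl⟩ := hx
  obtain ⟨k, rfl⟩ := hy
  have hm : σ (k⁻¹ * g) ∈ lgp imZ lamH := by
    rw [← centralizer_z, Subgroup.mem_centralizer_singleton_iff, map_mul, map_inv]
    simp only [map_mul, map_inv, hz] at e
    calc (σ k)⁻¹ * σ g * imZ 10 = (σ k)⁻¹ * (σ g * imZ 10 * (σ g)⁻¹) * σ g := by group
      _ = (σ k)⁻¹ * (σ k * imZ 10 * (σ k)⁻¹) * σ g := by rw [e]
      _ = imZ 10 * ((σ k)⁻¹ * σ g) := by group
  calc g * zt * g⁻¹ = k * (k⁻¹ * g * zt) * g⁻¹ := by group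
    _ = k * (zt * (k⁻¹ * g)) * g⁻¹ := by rw [h.z_comm hz hm]
    _ = k * zt * k⁻¹ := by group

/-- Chosen lifts of the eleven letters. -/
structure Lifts (σ : Γ →* Cfsg.Spor.Fi23) (zt : Γ) (A : ℕ → Γ) : Prop where
  z : σ zt = imZ 10
  ten : A 10 = zt
  conj : ∀ k, k < 11 → ∃ g, A k = g * zt * g⁻¹
  map : ∀ k, k < 11 → σ (A k) = imZ k

theorem exists_lifts (h : Central σ) {zt : Γ} (hz : σ zt = imZ 10) : ∃ A, Lifts σ zt A := by
  choose g hg using fun k : Fin 10 => letter_transp k.isLt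
  choose g' hg' using fun k => h.surj (g k)
  refine ⟨fun k => if hk : k < 10 then g' ⟨k, hk⟩ * zt * (g' ⟨k, hk⟩)⁻¹ else zt, hz, rfl, fun k _ => ?_, fun k hk => ?_⟩
  · by_cases h10 : k < 10
    · exact ⟨g' ⟨k, h10⟩, dif_pos h10⟩
    · exact ⟨1, by rw [dif_neg h10]; group⟩
  · show σ (if hk : k < 10 then g' ⟨k, hk⟩ * zt * (g' ⟨k, hk⟩)⁻¹ else zt) = imZ k
    by_cases h10 : k < 10
    · rw [dif_pos h10, map_mul, map_mul, map_inv, hg', hz, ← hg ⟨k, h10⟩, imZ_low h10]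
    · rw [dif_neg h10, hz, show k = 10 by omega]

section
variable {zt : Γ} {A : ℕ → Γ}

theorem Lifts.map_word (L : Lifts σ zt A) {w : List ℕ} (hw : ∀ l ∈ w, l < 11) : σ (wval A w) = wval imZ w := by
  rw [map_wval]
  exact wval_congr fun l hl => L.map l (hw l hl)

theorem Lifts.map_low (L : Lifts σ zt A) {w : List ℕ} (hw : ∀ l ∈ w, l < 10) : σ (wval A w) = wval im w := by
  rw [L.map_word fun l hl => Nat.lt_succ_of_lt (hw l hl), wval_low hw]

theorem Lifts.kappa (L : Lifts σ zt A) : σ (zt * zt) = 1 := by rw [map_mul, L.z, z_sq]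

theorem Lifts.sq (h : Central σ) (L : Lifts σ zt A) {k : ℕ} (hk : k < 11) : A k * A k = zt * zt := by
  obtain ⟨g, e⟩ := L.conj k hk
  rw [e]
  calc g * zt * g⁻¹ * (g * zt * g⁻¹) = g * (zt * zt) * g⁻¹ := by group
    _ = zt * zt := by rw [h.comm L.kappa g, mul_inv_cancel_right]

theorem Lifts.commute (h : Central σ) (L : Lifts σ zt A) {x y : ℕ} (hx : x < 11) (hy : y < 11)
    (e : imZ x * imZ y = imZ y * imZ x) : A x * A y = A y * A x := by
  obtain ⟨g, hg⟩ := L.conj y hy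
  have := h.eq_lift L.z (x := A x * A y * (A x)⁻¹) (y := A y) ⟨A x * g, by rw [hg]; group⟩ (L.conj y hy) (by
    rw [map_mul, map_mul, map_inv, L.map x hx, L.map y hy, e, mul_inv_cancel_right])
  rwa [mul_inv_eq_iff_eq_mul] at this

theorem Lifts.braid (h : Central σ) (L : Lifts σ zt A) {x y : ℕ} (hx : x < 11) (hy : y < 11)
    (sx : imZ x * imZ x = 1) (sy : imZ y * imZ y = 1)
    (e : imZ x * imZ y * imZ x = imZ y * imZ x * imZ y) : A x * A y * (A x)⁻¹ = A y * A x * (A y)⁻¹ := by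
  obtain ⟨g, hg⟩ := L.conj x hx
  obtain ⟨k, hk⟩ := L.conj y hy
  refine h.eq_lift L.z ⟨A x * k, by rw [hk]; group⟩ ⟨A y * g, by rw [hg]; group⟩ ?_
  rw [map_mul, map_mul, map_inv, map_mul, map_mul, map_inv, L.map x hx, L.map y hy,
    inv_eq_of_mul_eq_one_left sx, inv_eq_of_mul_eq_one_left sy, e]

theorem Lifts.low_comm (h : Central σ) (L : Lifts σ zt A) : ∀ x y, x < 10 → y < 10 → pairWord x y = rpt 2 [x, y] →
    A x * A y = A y * A x := fun x y hx hy hp =>
  L.commute h (Nat.lt_succ_of_lt hx) (Nat.lt_succ_of_lt hy) (by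
    rw [imZ_low hx, imZ_low hy]; exact good_comm hx hy hp)

/-- A word times its reverse. -/
theorem Lifts.rev_mul (h : Central σ) (L : Lifts σ zt A) : ∀ {w : List ℕ}, (∀ l ∈ w, l < 11) →
    wval A w.reverse * wval A w = (zt * zt) ^ w.length
  | [], _ => by simp [wval]
  | x :: w, hw => by
    rw [List.reverse_cons, wval_append, wval_cons, wval_nil, mul_one, wval_cons, List.length_cons, pow_succ']
    calc wval A w.reverse * A x * (A x * wval A w) = wval A w.reverse * (A x * A x) * wval A w := by group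
      _ = zt * zt * (wval A w.reverse * wval A w) := by
          rw [L.sq h (hw x List.mem_cons_self), h.comm L.kappa]; group
      _ = _ := by rw [L.rev_mul h fun a ha => hw a (List.mem_cons_of_mem x ha)]

theorem rev_facts : ((rpt 9 coxBase).reverse == rpt 9 coxBase.reverse) = true ∧
    ((rpt 9 chainBase).reverse == rpt 9 chainBase.reverse) = true ∧ (rpt 9 coxBase).length = 63 := by
  decide +kernel

/-- The power of the first chain squares to an odd power of the common square. -/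
theorem Lifts.cox_sq (h : Central σ) (L : Lifts σ zt A) :
    σ (wval A (rpt 9 coxBase)) = 1 ∧ wval A (rpt 9 coxBase) * wval A (rpt 9 coxBase) = (zt * zt) ^ 63 := by
  have h1 : σ (wval A (rpt 9 coxBase)) = 1 := by
    rw [L.map_low (by decide)]
    exact good_im _ (List.mem_append_right _ (by simp [extraWords, coxBase]))
  refine ⟨h1, ?_⟩
  obtain ⟨g, -, e⟩ := opsApply_sound A (L.low_comm h) (S := coxBase) revOps coxBase coxBase.reverse revOps_ok
    fun _ hl => hl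
  have hr := L.rev_mul h (w := rpt 9 coxBase) (by decide)
  rw [rev_facts.2.2, beq_iff_eq.1 rev_facts.1, wval_rpt A 9 coxBase.reverse, ← e, conj_pow, ← wval_rpt,
    h.comm h1 g, mul_inv_cancel_right] at hr
  exact hr

theorem wval_scale {k : Γ} (hk : ∀ g, g * k = k * g) (B : ℕ → Γ) : ∀ w : List ℕ,
    wval (fun l => B l * k) w = wval B w * k ^ w.length
  | [] => by simp [wval]
  | x :: w => by
    rw [wval_cons, wval_cons, wval_scale hk B w, List.length_cons, pow_succ']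
    calc B x * k * (wval B w * k ^ w.length) = B x * (k * wval B w) * k ^ w.length := by group
      _ = B x * wval B w * (k * k ^ w.length) := by rw [← hk]; group

/-- Lifts of order two making the relator of seven letters exact. -/
theorem exists_exact (h : Central σ) : ∃ (zt : Γ) (A : ℕ → Γ), Lifts σ zt A ∧ zt * zt = 1 ∧
    wval A (rpt 9 coxBase) = 1 := by
  obtain ⟨z0, hz0⟩ := h.surj (imZ 10)
  obtain ⟨A, L⟩ := exists_lifts h hz0
  obtain ⟨hc1, hc2⟩ := L.cox_sq h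
  set c := wval A (rpt 9 coxBase) with hc
  set κ := z0 * z0 with hκ
  set k := c * (κ ^ 31)⁻¹ with hk
  have hk1 : σ k = 1 := by rw [hk, map_mul, hc1, map_inv, map_pow, L.kappa, one_pow, inv_one, one_mul]
  have hkc : ∀ g : Γ, g * k⁻¹ = k⁻¹ * g := fun g => h.comm (by rw [map_inv, hk1, inv_one]) g
  have hcκ : c * (κ ^ 31)⁻¹ = (κ ^ 31)⁻¹ * c :=
    (h.comm (by rw [map_inv, map_pow, L.kappa, one_pow, inv_one]) c)
  have hkk : k * k = κ := by
    calc k * k = c * ((κ ^ 31)⁻¹ * c) * (κ ^ 31)⁻¹ := by rw [hk]; group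
      _ = c * c * (κ ^ 31)⁻¹ * (κ ^ 31)⁻¹ := by rw [← hcκ]; group
      _ = κ := by rw [hc2]; group
  refine ⟨z0 * k⁻¹, fun l => A l * k⁻¹, ⟨?_, ?_, fun l hl => ?_, fun l hl => ?_⟩, ?_, ?_⟩
  · rw [map_mul, map_inv, hk1, inv_one, mul_one, L.z]
  · rw [L.ten]
  · obtain ⟨g, e⟩ := L.conj l hl
    refine ⟨g, ?_⟩
    show A l * k⁻¹ = g * (z0 * k⁻¹) * g⁻¹
    rw [e, mul_assoc (g * z0), hkc g⁻¹]
    group
  · show σ (A l * k⁻¹) = imZ l
    rw [map_mul, map_inv, hk1, inv_one, mul_one, L.map l hl]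
  · calc z0 * k⁻¹ * (z0 * k⁻¹) = z0 * (k⁻¹ * z0) * k⁻¹ := by group
      _ = z0 * z0 * (k * k)⁻¹ := by rw [← hkc z0]; group
      _ = 1 := by rw [hkk, ← hκ, mul_inv_cancel]
  · rw [wval_scale hkc, rev_facts.2.2, ← hc, inv_pow, show k ^ 63 = (k * k) ^ 31 * k by rw [← pow_two, ← pow_mul, ← pow_succ], hkk, hk]
    rw [hcκ]
    group

end

end Cfsg.Lib.FiTwenty
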