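import Cfsg.Agent.CosetCert.Kit

/-!
Checks over many points in pieces, and powers of words through the table of one period.
-/

set_option autoImplicit false

namespace Cfsg.Lib.FiTwenty

open Cfsg.Lib.CosetCert Cfsg.Lib.PermCert

/-- A test on the numbers `a, …, a + b - 1`. -/
def allFrom (a b : ℕ) (f : ℕ → Bool) : Bool := (List.range b).all fun t => f (a + t)

theorem allFrom_add {a b c : ℕ} {f : ℕ → Bool} (h : allFrom a b f = true) (h' : allFrom (a + b) c f = true) :
    allFrom a (b + c) f = true := by
  simp only [allFrom, List.all_eq_true, List.mem_range] at *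
  intro t ht
  by_cases hb : t < b
  · exact h t hb
  · have := h' (t - b) (by omega)
    rwa [show a + b + (t - b) = a + t by omega] at this

theorem all_range_of {n : ℕ} {f : ℕ → Bool} (h : allFrom 0 n f = true) : (List.range n).all f = true := by
  simp only [allFrom, List.all_eq_true, List.mem_range, Nat.zero_add] at h ⊢
  exact h

theorem allFrom_zero {n : ℕ} {f : ℕ → Bool} (h : allFrom 0 n f = true) {x : ℕ} (hx : x < n) : f x = true :=
  List.all_eq_true.1 (all_range_of h) x (List.mem_range.2 hx)

/-- The images of a point under the letters of a word, read from the right. -/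
def evalP (tabs : List PP) (w : List ℕ) (x : ℕ) : ℕ := evalWord (w.map fun l => tabs.getD l (0, 0)) x

theorem evalP_append (tabs : List PP) (u w : List ℕ) (x : ℕ) :
    evalP tabs (u ++ w) x = evalP tabs u (evalP tabs w x) := by
  simp [evalP, evalWord, List.map_append, List.foldr_append]

theorem evalP_lt {n : ℕ} {tabs : List PP} (hv : ∀ l < tabs.length, valid n (tabs.getD l (0, 0)) = true) :
    ∀ (w : List ℕ), (∀ l ∈ w, l < tabs.length) → ∀ x < n, evalP tabs w x < n
  | [], _, x, hx => hx
  | l :: w, h, x, hx =>
    valid_lt (hv l (h l List.mem_cons_self)) (evalP_lt hv w (fun a ha => h a (List.mem_cons_of_mem l ha)) x hx)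

/-- A power of a word acts as the power of the table of the word. -/
theorem evalP_rpt {n : ℕ} {tabs : List PP} {w : List ℕ} {P : ℕ}
    (h : ∀ x < n, evalP tabs w x = ap P x ∧ ap P x < n) :
    ∀ (k : ℕ), ∀ x < n, evalP tabs (List.replicate k w).flatten x = (ap P)^[k] x ∧ (ap P)^[k] x < n
  | 0, x, hx => ⟨rfl, hx⟩
  | k + 1, x, hx => by
    obtain ⟨e, hlt⟩ := evalP_rpt h k x hx
    obtain ⟨e', hlt'⟩ := h _ hlt
    rw [List.replicate_succ, List.flatten_cons, evalP_append, e, e', Function.iterate_succ_apply']
    exact ⟨rfl, hlt'⟩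

/-- The table of a word, at one point. -/
def isTab (n : ℕ) (tabs : List PP) (w : List ℕ) (P : ℕ) (x : ℕ) : Bool :=
  (evalP tabs w x == ap P x) && decide (ap P x < n)

/-- The table of a word, iterated, at one point. -/
def iterIs (k : ℕ) (P : ℕ) (f : ℕ → ℕ) (x : ℕ) : Bool := (ap P)^[k] x == f x

theorem rpt_eq_tab {n : ℕ} {tabs : List PP} {w : List ℕ} {P k : ℕ} {f : ℕ → ℕ}
    (h : allFrom 0 n (isTab n tabs w P) = true) (h' : allFrom 0 n (iterIs k P f) = true) :
    ∀ x < n, evalP tabs (List.replicate k w).flatten x = f x := by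
  intro x hx
  have hP : ∀ y < n, evalP tabs w y = ap P y ∧ ap P y < n := fun y hy => by
    have := allFrom_zero h hy
    simpa only [isTab, Bool.and_eq_true, beq_iff_eq, decide_eq_true_eq] using this
  have := allFrom_zero h' hx
  rw [iterIs, beq_iff_eq] at this
  rw [(evalP_rpt hP k x hx).1, this]

theorem isId_of_eval {n : ℕ} {tabs : List PP} {w : List ℕ} (h : ∀ x < n, evalP tabs w x = x) :
    isId n (w.map fun l => tabs.getD l (0, 0)) = true := by
  rw [isId, List.all_eq_true]
  intro x hx
  exact beq_iff_eq.2 (h x (List.mem_range.1 hx))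

/-- A tree with a known mask and known count. -/
theorem treeOK_of {n b len m : ℕ} {tabs : List PP} {S : List ℕ} {t : List (ℕ × ℕ × ℕ)}
    (h1 : (decide (b < n) && scanOrb tabs n (S.map fun l => [l]) (1 <<< b) t) = true)
    (h2 : treeMask t (1 <<< b) = m) (h3 : (maskCount n m == len) = true)
    (h4 : (S.all fun l => decide (l < tabs.length)) = true)
    (h5 : allFrom 0 n (fun x => !m.testBit x || S.all fun l => m.testBit (evalW tabs [l] x)) = true) :
    treeOK n tabs S b t len = true := by
  rw [treeOK, h2, h1, h3, h4, all_range_of h5]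
  rfl

end Cfsg.Lib.FiTwenty
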