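import Cfsg.Agent.FiTwenty.Relators
import Cfsg.Agent.FiTwenty.TabData
import Cfsg.Agent.FiTwenty.Range

/-!
The tables on 31671 points are permutations; the tests of the relators at a point.
-/

set_option autoImplicit false
set_option Elab.async false

namespace Cfsg.Lib.FiTwenty

open Cfsg.Lib.CosetCert Cfsg.Lib.PermCert

theorem valid0_0 : allFrom 0 8000 (fun x => decide (ap (sigTabs.getD 0 (0, 0)).1 x < 31671) && decide (ap (sigTabs.getD 0 (0, 0)).2 x < 31671) && (ap (sigTabs.getD 0 (0, 0)).1 (ap (sigTabs.getD 0 (0, 0)).2 x) == x) && (ap (sigTabs.getD 0 (0, 0)).2 (ap (sigTabs.getD 0 (0, 0)).1 x) == x)) = true := by decide +kernel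

theorem valid0_1 : allFrom 8000 8000 (fun x => decide (ap (sigTabs.getD 0 (0, 0)).1 x < 31671) && decide (ap (sigTabs.getD 0 (0, 0)).2 x < 31671) && (ap (sigTabs.getD 0 (0, 0)).1 (ap (sigTabs.getD 0 (0, 0)).2 x) == x) && (ap (sigTabs.getD 0 (0, 0)).2 (ap (sigTabs.getD 0 (0, 0)).1 x) == x)) = true := by decide +kernel

theorem valid0_2 : allFrom 16000 8000 (fun x => decide (ap (sigTabs.getD 0 (0, 0)).1 x < 31671) && decide (ap (sigTabs.getD 0 (0, 0)).2 x < 31671) && (ap (sigTabs.getD 0 (0, 0)).1 (ap (sigTabs.getD 0 (0, 0)).2 x) == x) && (ap (sigTabs.getD 0 (0, 0)).2 (ap (sigTabs.getD 0 (0, 0)).1 x) == x)) = true := by decide +kernel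

theorem valid0_3 : allFrom 24000 7671 (fun x => decide (ap (sigTabs.getD 0 (0, 0)).1 x < 31671) && decide (ap (sigTabs.getD 0 (0, 0)).2 x < 31671) && (ap (sigTabs.getD 0 (0, 0)).1 (ap (sigTabs.getD 0 (0, 0)).2 x) == x) && (ap (sigTabs.getD 0 (0, 0)).2 (ap (sigTabs.getD 0 (0, 0)).1 x) == x)) = true := by decide +kernel

theorem valid0 : valid 31671 (sigTabs.getD 0 (0, 0)) = true :=
  all_range_of (allFrom_add (b := 24000) (c := 7671) (allFrom_add (b := 16000) (c := 8000)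
    (allFrom_add (b := 8000) (c := 8000) valid0_0 valid0_1) valid0_2) valid0_3)

theorem valid1_0 : allFrom 0 8000 (fun x => decide (ap (sigTabs.getD 1 (0, 0)).1 x < 31671) && decide (ap (sigTabs.getD 1 (0, 0)).2 x < 31671) && (ap (sigTabs.getD 1 (0, 0)).1 (ap (sigTabs.getD 1 (0, 0)).2 x) == x) && (ap (sigTabs.getD 1 (0, 0)).2 (ap (sigTabs.getD 1 (0, 0)).1 x) == x)) = true := by decide +kernel

theorem valid1_1 : allFrom 8000 8000 (fun x => decide (ap (sigTabs.getD 1 (0, 0)).1 x < 31671) && decide (ap (sigTabs.getD 1 (0, 0)).2 x < 31671) && (ap (sigTabs.getD 1 (0, 0)).1 (ap (sigTabs.getD 1 (0, 0)).2 x) == x) && (ap (sigTabs.getD 1 (0, 0)).2 (ap (sigTabs.getD 1 (0, 0)).1 x) == x)) = true := by decide +kernel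

theorem valid1_2 : allFrom 16000 8000 (fun x => decide (ap (sigTabs.getD 1 (0, 0)).1 x < 31671) && decide (ap (sigTabs.getD 1 (0, 0)).2 x < 31671) && (ap (sigTabs.getD 1 (0, 0)).1 (ap (sigTabs.getD 1 (0, 0)).2 x) == x) && (ap (sigTabs.getD 1 (0, 0)).2 (ap (sigTabs.getD 1 (0, 0)).1 x) == x)) = true := by decide +kernel

theorem valid1_3 : allFrom 24000 7671 (fun x => decide (ap (sigTabs.getD 1 (0, 0)).1 x < 31671) && decide (ap (sigTabs.getD 1 (0, 0)).2 x < 31671) && (ap (sigTabs.getD 1 (0, 0)).1 (ap (sigTabs.getD 1 (0, 0)).2 x) == x) && (ap (sigTabs.getD 1 (0, 0)).2 (ap (sigTabs.getD 1 (0, 0)).1 x) == x)) = true := by decide +kernel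

theorem valid1 : valid 31671 (sigTabs.getD 1 (0, 0)) = true :=
  all_range_of (allFrom_add (b := 24000) (c := 7671) (allFrom_add (b := 16000) (c := 8000)
    (allFrom_add (b := 8000) (c := 8000) valid1_0 valid1_1) valid1_2) valid1_3)

theorem valid2_0 : allFrom 0 8000 (fun x => decide (ap (sigTabs.getD 2 (0, 0)).1 x < 31671) && decide (ap (sigTabs.getD 2 (0, 0)).2 x < 31671) && (ap (sigTabs.getD 2 (0, 0)).1 (ap (sigTabs.getD 2 (0, 0)).2 x) == x) && (ap (sigTabs.getD 2 (0, 0)).2 (ap (sigTabs.getD 2 (0, 0)).1 x) == x)) = true := by decide +kernel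

theorem valid2_1 : allFrom 8000 8000 (fun x => decide (ap (sigTabs.getD 2 (0, 0)).1 x < 31671) && decide (ap (sigTabs.getD 2 (0, 0)).2 x < 31671) && (ap (sigTabs.getD 2 (0, 0)).1 (ap (sigTabs.getD 2 (0, 0)).2 x) == x) && (ap (sigTabs.getD 2 (0, 0)).2 (ap (sigTabs.getD 2 (0, 0)).1 x) == x)) = true := by decide +kernel

theorem valid2_2 : allFrom 16000 8000 (fun x => decide (ap (sigTabs.getD 2 (0, 0)).1 x < 31671) && decide (ap (sigTabs.getD 2 (0, 0)).2 x < 31671) && (ap (sigTabs.getD 2 (0, 0)).1 (ap (sigTabs.getD 2 (0, 0)).2 x) == x) && (ap (sigTabs.getD 2 (0, 0)).2 (ap (sigTabs.getD 2 (0, 0)).1 x) == x)) = true := by decide +kernel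

theorem valid2_3 : allFrom 24000 7671 (fun x => decide (ap (sigTabs.getD 2 (0, 0)).1 x < 31671) && decide (ap (sigTabs.getD 2 (0, 0)).2 x < 31671) && (ap (sigTabs.getD 2 (0, 0)).1 (ap (sigTabs.getD 2 (0, 0)).2 x) == x) && (ap (sigTabs.getD 2 (0, 0)).2 (ap (sigTabs.getD 2 (0, 0)).1 x) == x)) = true := by decide +kernel

theorem valid2 : valid 31671 (sigTabs.getD 2 (0, 0)) = true :=
  all_range_of (allFrom_add (b := 24000) (c := 7671) (allFrom_add (b := 16000) (c := 8000)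
    (allFrom_add (b := 8000) (c := 8000) valid2_0 valid2_1) valid2_2) valid2_3)

theorem valid3_0 : allFrom 0 8000 (fun x => decide (ap (sigTabs.getD 3 (0, 0)).1 x < 31671) && decide (ap (sigTabs.getD 3 (0, 0)).2 x < 31671) && (ap (sigTabs.getD 3 (0, 0)).1 (ap (sigTabs.getD 3 (0, 0)).2 x) == x) && (ap (sigTabs.getD 3 (0, 0)).2 (ap (sigTabs.getD 3 (0, 0)).1 x) == x)) = true := by decide +kernel

theorem valid3_1 : allFrom 8000 8000 (fun x => decide (ap (sigTabs.getD 3 (0, 0)).1 x < 31671) && decide (ap (sigTabs.getD 3 (0, 0)).2 x < 31671) && (ap (sigTabs.getD 3 (0, 0)).1 (ap (sigTabs.getD 3 (0, 0)).2 x) == x) && (ap (sigTabs.getD 3 (0, 0)).2 (ap (sigTabs.getD 3 (0, 0)).1 x) == x)) = true := by decide +kernel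

theorem valid3_2 : allFrom 16000 8000 (fun x => decide (ap (sigTabs.getD 3 (0, 0)).1 x < 31671) && decide (ap (sigTabs.getD 3 (0, 0)).2 x < 31671) && (ap (sigTabs.getD 3 (0, 0)).1 (ap (sigTabs.getD 3 (0, 0)).2 x) == x) && (ap (sigTabs.getD 3 (0, 0)).2 (ap (sigTabs.getD 3 (0, 0)).1 x) == x)) = true := by decide +kernel

theorem valid3_3 : allFrom 24000 7671 (fun x => decide (ap (sigTabs.getD 3 (0, 0)).1 x < 31671) && decide (ap (sigTabs.getD 3 (0, 0)).2 x < 31671) && (ap (sigTabs.getD 3 (0, 0)).1 (ap (sigTabs.getD 3 (0, 0)).2 x) == x) && (ap (sigTabs.getD 3 (0, 0)).2 (ap (sigTabs.getD 3 (0, 0)).1 x) == x)) = true := by decide +kernel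

theorem valid3 : valid 31671 (sigTabs.getD 3 (0, 0)) = true :=
  all_range_of (allFrom_add (b := 24000) (c := 7671) (allFrom_add (b := 16000) (c := 8000)
    (allFrom_add (b := 8000) (c := 8000) valid3_0 valid3_1) valid3_2) valid3_3)

theorem valid4_0 : allFrom 0 8000 (fun x => decide (ap (sigTabs.getD 4 (0, 0)).1 x < 31671) && decide (ap (sigTabs.getD 4 (0, 0)).2 x < 31671) && (ap (sigTabs.getD 4 (0, 0)).1 (ap (sigTabs.getD 4 (0, 0)).2 x) == x) && (ap (sigTabs.getD 4 (0, 0)).2 (ap (sigTabs.getD 4 (0, 0)).1 x) == x)) = true := by decide +kernel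

theorem valid4_1 : allFrom 8000 8000 (fun x => decide (ap (sigTabs.getD 4 (0, 0)).1 x < 31671) && decide (ap (sigTabs.getD 4 (0, 0)).2 x < 31671) && (ap (sigTabs.getD 4 (0, 0)).1 (ap (sigTabs.getD 4 (0, 0)).2 x) == x) && (ap (sigTabs.getD 4 (0, 0)).2 (ap (sigTabs.getD 4 (0, 0)).1 x) == x)) = true := by decide +kernel

theorem valid4_2 : allFrom 16000 8000 (fun x => decide (ap (sigTabs.getD 4 (0, 0)).1 x < 31671) && decide (ap (sigTabs.getD 4 (0, 0)).2 x < 31671) && (ap (sigTabs.getD 4 (0, 0)).1 (ap (sigTabs.getD 4 (0, 0)).2 x) == x) && (ap (sigTabs.getD 4 (0, 0)).2 (ap (sigTabs.getD 4 (0, 0)).1 x) == x)) = true := by decide +kernel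

theorem valid4_3 : allFrom 24000 7671 (fun x => decide (ap (sigTabs.getD 4 (0, 0)).1 x < 31671) && decide (ap (sigTabs.getD 4 (0, 0)).2 x < 31671) && (ap (sigTabs.getD 4 (0, 0)).1 (ap (sigTabs.getD 4 (0, 0)).2 x) == x) && (ap (sigTabs.getD 4 (0, 0)).2 (ap (sigTabs.getD 4 (0, 0)).1 x) == x)) = true := by decide +kernel

theorem valid4 : valid 31671 (sigTabs.getD 4 (0, 0)) = true :=
  all_range_of (allFrom_add (b := 24000) (c := 7671) (allFrom_add (b := 16000) (c := 8000)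
    (allFrom_add (b := 8000) (c := 8000) valid4_0 valid4_1) valid4_2) valid4_3)

theorem valid5_0 : allFrom 0 8000 (fun x => decide (ap (sigTabs.getD 5 (0, 0)).1 x < 31671) && decide (ap (sigTabs.getD 5 (0, 0)).2 x < 31671) && (ap (sigTabs.getD 5 (0, 0)).1 (ap (sigTabs.getD 5 (0, 0)).2 x) == x) && (ap (sigTabs.getD 5 (0, 0)).2 (ap (sigTabs.getD 5 (0, 0)).1 x) == x)) = true := by decide +kernel

theorem valid5_1 : allFrom 8000 8000 (fun x => decide (ap (sigTabs.getD 5 (0, 0)).1 x < 31671) && decide (ap (sigTabs.getD 5 (0, 0)).2 x < 31671) && (ap (sigTabs.getD 5 (0, 0)).1 (ap (sigTabs.getD 5 (0, 0)).2 x) == x) && (ap (sigTabs.getD 5 (0, 0)).2 (ap (sigTabs.getD 5 (0, 0)).1 x) == x)) = true := by decide +kernel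

theorem valid5_2 : allFrom 16000 8000 (fun x => decide (ap (sigTabs.getD 5 (0, 0)).1 x < 31671) && decide (ap (sigTabs.getD 5 (0, 0)).2 x < 31671) && (ap (sigTabs.getD 5 (0, 0)).1 (ap (sigTabs.getD 5 (0, 0)).2 x) == x) && (ap (sigTabs.getD 5 (0, 0)).2 (ap (sigTabs.getD 5 (0, 0)).1 x) == x)) = true := by decide +kernel

theorem valid5_3 : allFrom 24000 7671 (fun x => decide (ap (sigTabs.getD 5 (0, 0)).1 x < 31671) && decide (ap (sigTabs.getD 5 (0, 0)).2 x < 31671) && (ap (sigTabs.getD 5 (0, 0)).1 (ap (sigTabs.getD 5 (0, 0)).2 x) == x) && (ap (sigTabs.getD 5 (0, 0)).2 (ap (sigTabs.getD 5 (0, 0)).1 x) == x)) = true := by decide +kernel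

theorem valid5 : valid 31671 (sigTabs.getD 5 (0, 0)) = true :=
  all_range_of (allFrom_add (b := 24000) (c := 7671) (allFrom_add (b := 16000) (c := 8000)
    (allFrom_add (b := 8000) (c := 8000) valid5_0 valid5_1) valid5_2) valid5_3)

theorem valid6_0 : allFrom 0 8000 (fun x => decide (ap (sigTabs.getD 6 (0, 0)).1 x < 31671) && decide (ap (sigTabs.getD 6 (0, 0)).2 x < 31671) && (ap (sigTabs.getD 6 (0, 0)).1 (ap (sigTabs.getD 6 (0, 0)).2 x) == x) && (ap (sigTabs.getD 6 (0, 0)).2 (ap (sigTabs.getD 6 (0, 0)).1 x) == x)) = true := by decide +kernel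

theorem valid6_1 : allFrom 8000 8000 (fun x => decide (ap (sigTabs.getD 6 (0, 0)).1 x < 31671) && decide (ap (sigTabs.getD 6 (0, 0)).2 x < 31671) && (ap (sigTabs.getD 6 (0, 0)).1 (ap (sigTabs.getD 6 (0, 0)).2 x) == x) && (ap (sigTabs.getD 6 (0, 0)).2 (ap (sigTabs.getD 6 (0, 0)).1 x) == x)) = true := by decide +kernel

theorem valid6_2 : allFrom 16000 8000 (fun x => decide (ap (sigTabs.getD 6 (0, 0)).1 x < 31671) && decide (ap (sigTabs.getD 6 (0, 0)).2 x < 31671) && (ap (sigTabs.getD 6 (0, 0)).1 (ap (sigTabs.getD 6 (0, 0)).2 x) == x) && (ap (sigTabs.getD 6 (0, 0)).2 (ap (sigTabs.getD 6 (0, 0)).1 x) == x)) = true := by decide +kernel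

theorem valid6_3 : allFrom 24000 7671 (fun x => decide (ap (sigTabs.getD 6 (0, 0)).1 x < 31671) && decide (ap (sigTabs.getD 6 (0, 0)).2 x < 31671) && (ap (sigTabs.getD 6 (0, 0)).1 (ap (sigTabs.getD 6 (0, 0)).2 x) == x) && (ap (sigTabs.getD 6 (0, 0)).2 (ap (sigTabs.getD 6 (0, 0)).1 x) == x)) = true := by decide +kernel

theorem valid6 : valid 31671 (sigTabs.getD 6 (0, 0)) = true :=
  all_range_of (allFrom_add (b := 24000) (c := 7671) (allFrom_add (b := 16000) (c := 8000)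
    (allFrom_add (b := 8000) (c := 8000) valid6_0 valid6_1) valid6_2) valid6_3)

theorem valid7_0 : allFrom 0 8000 (fun x => decide (ap (sigTabs.getD 7 (0, 0)).1 x < 31671) && decide (ap (sigTabs.getD 7 (0, 0)).2 x < 31671) && (ap (sigTabs.getD 7 (0, 0)).1 (ap (sigTabs.getD 7 (0, 0)).2 x) == x) && (ap (sigTabs.getD 7 (0, 0)).2 (ap (sigTabs.getD 7 (0, 0)).1 x) == x)) = true := by decide +kernel

theorem valid7_1 : allFrom 8000 8000 (fun x => decide (ap (sigTabs.getD 7 (0, 0)).1 x < 31671) && decide (ap (sigTabs.getD 7 (0, 0)).2 x < 31671) && (ap (sigTabs.getD 7 (0, 0)).1 (ap (sigTabs.getD 7 (0, 0)).2 x) == x) && (ap (sigTabs.getD 7 (0, 0)).2 (ap (sigTabs.getD 7 (0, 0)).1 x) == x)) = true := by decide +kernel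

theorem valid7_2 : allFrom 16000 8000 (fun x => decide (ap (sigTabs.getD 7 (0, 0)).1 x < 31671) && decide (ap (sigTabs.getD 7 (0, 0)).2 x < 31671) && (ap (sigTabs.getD 7 (0, 0)).1 (ap (sigTabs.getD 7 (0, 0)).2 x) == x) && (ap (sigTabs.getD 7 (0, 0)).2 (ap (sigTabs.getD 7 (0, 0)).1 x) == x)) = true := by decide +kernel

theorem valid7_3 : allFrom 24000 7671 (fun x => decide (ap (sigTabs.getD 7 (0, 0)).1 x < 31671) && decide (ap (sigTabs.getD 7 (0, 0)).2 x < 31671) && (ap (sigTabs.getD 7 (0, 0)).1 (ap (sigTabs.getD 7 (0, 0)).2 x) == x) && (ap (sigTabs.getD 7 (0, 0)).2 (ap (sigTabs.getD 7 (0, 0)).1 x) == x)) = true := by decide +kernel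

theorem valid7 : valid 31671 (sigTabs.getD 7 (0, 0)) = true :=
  all_range_of (allFrom_add (b := 24000) (c := 7671) (allFrom_add (b := 16000) (c := 8000)
    (allFrom_add (b := 8000) (c := 8000) valid7_0 valid7_1) valid7_2) valid7_3)

theorem valid8_0 : allFrom 0 8000 (fun x => decide (ap (sigTabs.getD 8 (0, 0)).1 x < 31671) && decide (ap (sigTabs.getD 8 (0, 0)).2 x < 31671) && (ap (sigTabs.getD 8 (0, 0)).1 (ap (sigTabs.getD 8 (0, 0)).2 x) == x) && (ap (sigTabs.getD 8 (0, 0)).2 (ap (sigTabs.getD 8 (0, 0)).1 x) == x)) = true := by decide +kernel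

theorem valid8_1 : allFrom 8000 8000 (fun x => decide (ap (sigTabs.getD 8 (0, 0)).1 x < 31671) && decide (ap (sigTabs.getD 8 (0, 0)).2 x < 31671) && (ap (sigTabs.getD 8 (0, 0)).1 (ap (sigTabs.getD 8 (0, 0)).2 x) == x) && (ap (sigTabs.getD 8 (0, 0)).2 (ap (sigTabs.getD 8 (0, 0)).1 x) == x)) = true := by decide +kernel

theorem valid8_2 : allFrom 16000 8000 (fun x => decide (ap (sigTabs.getD 8 (0, 0)).1 x < 31671) && decide (ap (sigTabs.getD 8 (0, 0)).2 x < 31671) && (ap (sigTabs.getD 8 (0, 0)).1 (ap (sigTabs.getD 8 (0, 0)).2 x) == x) && (ap (sigTabs.getD 8 (0, 0)).2 (ap (sigTabs.getD 8 (0, 0)).1 x) == x)) = true := by decide +kernel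

theorem valid8_3 : allFrom 24000 7671 (fun x => decide (ap (sigTabs.getD 8 (0, 0)).1 x < 31671) && decide (ap (sigTabs.getD 8 (0, 0)).2 x < 31671) && (ap (sigTabs.getD 8 (0, 0)).1 (ap (sigTabs.getD 8 (0, 0)).2 x) == x) && (ap (sigTabs.getD 8 (0, 0)).2 (ap (sigTabs.getD 8 (0, 0)).1 x) == x)) = true := by decide +kernel

theorem valid8 : valid 31671 (sigTabs.getD 8 (0, 0)) = true :=
  all_range_of (allFrom_add (b := 24000) (c := 7671) (allFrom_add (b := 16000) (c := 8000)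
    (allFrom_add (b := 8000) (c := 8000) valid8_0 valid8_1) valid8_2) valid8_3)

theorem valid9_0 : allFrom 0 8000 (fun x => decide (ap (sigTabs.getD 9 (0, 0)).1 x < 31671) && decide (ap (sigTabs.getD 9 (0, 0)).2 x < 31671) && (ap (sigTabs.getD 9 (0, 0)).1 (ap (sigTabs.getD 9 (0, 0)).2 x) == x) && (ap (sigTabs.getD 9 (0, 0)).2 (ap (sigTabs.getD 9 (0, 0)).1 x) == x)) = true := by decide +kernel

theorem valid9_1 : allFrom 8000 8000 (fun x => decide (ap (sigTabs.getD 9 (0, 0)).1 x < 31671) && decide (ap (sigTabs.getD 9 (0, 0)).2 x < 31671) && (ap (sigTabs.getD 9 (0, 0)).1 (ap (sigTabs.getD 9 (0, 0)).2 x) == x) && (ap (sigTabs.getD 9 (0, 0)).2 (ap (sigTabs.getD 9 (0, 0)).1 x) == x)) = true := by decide +kernel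

theorem valid9_2 : allFrom 16000 8000 (fun x => decide (ap (sigTabs.getD 9 (0, 0)).1 x < 31671) && decide (ap (sigTabs.getD 9 (0, 0)).2 x < 31671) && (ap (sigTabs.getD 9 (0, 0)).1 (ap (sigTabs.getD 9 (0, 0)).2 x) == x) && (ap (sigTabs.getD 9 (0, 0)).2 (ap (sigTabs.getD 9 (0, 0)).1 x) == x)) = true := by decide +kernel

theorem valid9_3 : allFrom 24000 7671 (fun x => decide (ap (sigTabs.getD 9 (0, 0)).1 x < 31671) && decide (ap (sigTabs.getD 9 (0, 0)).2 x < 31671) && (ap (sigTabs.getD 9 (0, 0)).1 (ap (sigTabs.getD 9 (0, 0)).2 x) == x) && (ap (sigTabs.getD 9 (0, 0)).2 (ap (sigTabs.getD 9 (0, 0)).1 x) == x)) = true := by decide +kernel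

theorem valid9 : valid 31671 (sigTabs.getD 9 (0, 0)) = true :=
  all_range_of (allFrom_add (b := 24000) (c := 7671) (allFrom_add (b := 16000) (c := 8000)
    (allFrom_add (b := 8000) (c := 8000) valid9_0 valid9_1) valid9_2) valid9_3)

theorem valid10_0 : allFrom 0 8000 (fun x => decide (ap (sigTabs.getD 10 (0, 0)).1 x < 31671) && decide (ap (sigTabs.getD 10 (0, 0)).2 x < 31671) && (ap (sigTabs.getD 10 (0, 0)).1 (ap (sigTabs.getD 10 (0, 0)).2 x) == x) && (ap (sigTabs.getD 10 (0, 0)).2 (ap (sigTabs.getD 10 (0, 0)).1 x) == x)) = true := by decide +kernel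

theorem valid10_1 : allFrom 8000 8000 (fun x => decide (ap (sigTabs.getD 10 (0, 0)).1 x < 31671) && decide (ap (sigTabs.getD 10 (0, 0)).2 x < 31671) && (ap (sigTabs.getD 10 (0, 0)).1 (ap (sigTabs.getD 10 (0, 0)).2 x) == x) && (ap (sigTabs.getD 10 (0, 0)).2 (ap (sigTabs.getD 10 (0, 0)).1 x) == x)) = true := by decide +kernel

theorem valid10_2 : allFrom 16000 8000 (fun x => decide (ap (sigTabs.getD 10 (0, 0)).1 x < 31671) && decide (ap (sigTabs.getD 10 (0, 0)).2 x < 31671) && (ap (sigTabs.getD 10 (0, 0)).1 (ap (sigTabs.getD 10 (0, 0)).2 x) == x) && (ap (sigTabs.getD 10 (0, 0)).2 (ap (sigTabs.getD 10 (0, 0)).1 x) == x)) = true := by decide +kernel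

theorem valid10_3 : allFrom 24000 7671 (fun x => decide (ap (sigTabs.getD 10 (0, 0)).1 x < 31671) && decide (ap (sigTabs.getD 10 (0, 0)).2 x < 31671) && (ap (sigTabs.getD 10 (0, 0)).1 (ap (sigTabs.getD 10 (0, 0)).2 x) == x) && (ap (sigTabs.getD 10 (0, 0)).2 (ap (sigTabs.getD 10 (0, 0)).1 x) == x)) = true := by decide +kernel

theorem valid10 : valid 31671 (sigTabs.getD 10 (0, 0)) = true :=
  all_range_of (allFrom_add (b := 24000) (c := 7671) (allFrom_add (b := 16000) (c := 8000)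
    (allFrom_add (b := 8000) (c := 8000) valid10_0 valid10_1) valid10_2) valid10_3)

theorem tabs_valid : ∀ l < sigTabs.length, valid 31671 (sigTabs.getD l (0, 0)) = true := by
  intro l hl
  have h : l < 11 := hl
  interval_cases l
  exacts [valid0, valid1, valid2, valid3, valid4, valid5, valid6, valid7, valid8, valid9, valid10]

/-- The pair words from one letter upwards act trivially at a point. -/
def pairsAt (x p : ℕ) : Bool :=
  ((List.range (10 - x)).map fun t => pairWord x (x + t)).all fun w => evalP sigTabs w p == p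

/-- The base of the spider relator. -/
def spiderBase : List ℕ := [3, 2, 1, 3, 4, 5, 3, 7, 8]

/-- The base of the relator of seven letters. -/
def coxBase : List ℕ := [0, 1, 2, 3, 4, 5, 7]

/-- The base of the central word. -/
def chainBase : List ℕ := [1, 2, 3, 4, 5, 6, 7]

end Cfsg.Lib.FiTwenty
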