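import Cfsg.Agent.FiTwenty.ActBase

/-!
The table of the central word.
-/

set_option autoImplicit false
set_option Elab.async false

namespace Cfsg.Lib.FiTwenty

open Cfsg.Lib.CosetCert Cfsg.Lib.PermCert

theorem chain_tab0 : allFrom 0 1000 (isTab 31671 sigTabs chainBase chainTab) = true := by decide +kernel

theorem chain_tab1 : allFrom 1000 1000 (isTab 31671 sigTabs chainBase chainTab) = true := by decide +kernel

theorem chain_tab2 : allFrom 2000 1000 (isTab 31671 sigTabs chainBase chainTab) = true := by decide +kernel

theorem chain_tab3 : allFrom 3000 1000 (isTab 31671 sigTabs chainBase chainTab) = true := by decide +kernel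

theorem chain_tab4 : allFrom 4000 1000 (isTab 31671 sigTabs chainBase chainTab) = true := by decide +kernel

theorem chain_tab5 : allFrom 5000 1000 (isTab 31671 sigTabs chainBase chainTab) = true := by decide +kernel

theorem chain_tab6 : allFrom 6000 1000 (isTab 31671 sigTabs chainBase chainTab) = true := by decide +kernel

theorem chain_tab7 : allFrom 7000 1000 (isTab 31671 sigTabs chainBase chainTab) = true := by decide +kernel

theorem chain_tab8 : allFrom 8000 1000 (isTab 31671 sigTabs chainBase chainTab) = true := by decide +kernel

theorem chain_tab9 : allFrom 9000 1000 (isTab 31671 sigTabs chainBase chainTab) = true := by decide +kernel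

theorem chain_tab10 : allFrom 10000 1000 (isTab 31671 sigTabs chainBase chainTab) = true := by decide +kernel

theorem chain_tab11 : allFrom 11000 1000 (isTab 31671 sigTabs chainBase chainTab) = true := by decide +kernel

theorem chain_tab12 : allFrom 12000 1000 (isTab 31671 sigTabs chainBase chainTab) = true := by decide +kernel

theorem chain_tab13 : allFrom 13000 1000 (isTab 31671 sigTabs chainBase chainTab) = true := by decide +kernel

theorem chain_tab14 : allFrom 14000 1000 (isTab 31671 sigTabs chainBase chainTab) = true := by decide +kernel

theorem chain_tab15 : allFrom 15000 1000 (isTab 31671 sigTabs chainBase chainTab) = true := by decide +kernel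

theorem chain_tab16 : allFrom 16000 1000 (isTab 31671 sigTabs chainBase chainTab) = true := by decide +kernel

theorem chain_tab17 : allFrom 17000 1000 (isTab 31671 sigTabs chainBase chainTab) = true := by decide +kernel

theorem chain_tab18 : allFrom 18000 1000 (isTab 31671 sigTabs chainBase chainTab) = true := by decide +kernel

theorem chain_tab19 : allFrom 19000 1000 (isTab 31671 sigTabs chainBase chainTab) = true := by decide +kernel

theorem chain_tab20 : allFrom 20000 1000 (isTab 31671 sigTabs chainBase chainTab) = true := by decide +kernel

theorem chain_tab21 : allFrom 21000 1000 (isTab 31671 sigTabs chainBase chainTab) = true := by decide +kernel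

theorem chain_tab22 : allFrom 22000 1000 (isTab 31671 sigTabs chainBase chainTab) = true := by decide +kernel

theorem chain_tab23 : allFrom 23000 1000 (isTab 31671 sigTabs chainBase chainTab) = true := by decide +kernel

theorem chain_tab24 : allFrom 24000 1000 (isTab 31671 sigTabs chainBase chainTab) = true := by decide +kernel

theorem chain_tab25 : allFrom 25000 1000 (isTab 31671 sigTabs chainBase chainTab) = true := by decide +kernel

theorem chain_tab26 : allFrom 26000 1000 (isTab 31671 sigTabs chainBase chainTab) = true := by decide +kernel

theorem chain_tab27 : allFrom 27000 1000 (isTab 31671 sigTabs chainBase chainTab) = true := by decide +kernel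

theorem chain_tab28 : allFrom 28000 1000 (isTab 31671 sigTabs chainBase chainTab) = true := by decide +kernel

theorem chain_tab29 : allFrom 29000 1000 (isTab 31671 sigTabs chainBase chainTab) = true := by decide +kernel

theorem chain_tab30 : allFrom 30000 1000 (isTab 31671 sigTabs chainBase chainTab) = true := by decide +kernel

theorem chain_tab31 : allFrom 31000 671 (isTab 31671 sigTabs chainBase chainTab) = true := by decide +kernel

theorem chain_tabto1 : allFrom 0 2000 (isTab 31671 sigTabs chainBase chainTab) = true :=
  allFrom_add (b := 1000) (c := 1000) chain_tab0 chain_tab1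

theorem chain_tabto2 : allFrom 0 3000 (isTab 31671 sigTabs chainBase chainTab) = true :=
  allFrom_add (b := 2000) (c := 1000) chain_tabto1 chain_tab2

theorem chain_tabto3 : allFrom 0 4000 (isTab 31671 sigTabs chainBase chainTab) = true :=
  allFrom_add (b := 3000) (c := 1000) chain_tabto2 chain_tab3

theorem chain_tabto4 : allFrom 0 5000 (isTab 31671 sigTabs chainBase chainTab) = true :=
  allFrom_add (b := 4000) (c := 1000) chain_tabto3 chain_tab4

theorem chain_tabto5 : allFrom 0 6000 (isTab 31671 sigTabs chainBase chainTab) = true :=
  allFrom_add (b := 5000) (c := 1000) chain_tabto4 chain_tab5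

theorem chain_tabto6 : allFrom 0 7000 (isTab 31671 sigTabs chainBase chainTab) = true :=
  allFrom_add (b := 6000) (c := 1000) chain_tabto5 chain_tab6

theorem chain_tabto7 : allFrom 0 8000 (isTab 31671 sigTabs chainBase chainTab) = true :=
  allFrom_add (b := 7000) (c := 1000) chain_tabto6 chain_tab7

theorem chain_tabto8 : allFrom 0 9000 (isTab 31671 sigTabs chainBase chainTab) = true :=
  allFrom_add (b := 8000) (c := 1000) chain_tabto7 chain_tab8

theorem chain_tabto9 : allFrom 0 10000 (isTab 31671 sigTabs chainBase chainTab) = true :=
  allFrom_add (b := 9000) (c := 1000) chain_tabto8 chain_tab9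

theorem chain_tabto10 : allFrom 0 11000 (isTab 31671 sigTabs chainBase chainTab) = true :=
  allFrom_add (b := 10000) (c := 1000) chain_tabto9 chain_tab10

theorem chain_tabto11 : allFrom 0 12000 (isTab 31671 sigTabs chainBase chainTab) = true :=
  allFrom_add (b := 11000) (c := 1000) chain_tabto10 chain_tab11

theorem chain_tabto12 : allFrom 0 13000 (isTab 31671 sigTabs chainBase chainTab) = true :=
  allFrom_add (b := 12000) (c := 1000) chain_tabto11 chain_tab12

theorem chain_tabto13 : allFrom 0 14000 (isTab 31671 sigTabs chainBase chainTab) = true :=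
  allFrom_add (b := 13000) (c := 1000) chain_tabto12 chain_tab13

theorem chain_tabto14 : allFrom 0 15000 (isTab 31671 sigTabs chainBase chainTab) = true :=
  allFrom_add (b := 14000) (c := 1000) chain_tabto13 chain_tab14

theorem chain_tabto15 : allFrom 0 16000 (isTab 31671 sigTabs chainBase chainTab) = true :=
  allFrom_add (b := 15000) (c := 1000) chain_tabto14 chain_tab15

theorem chain_tabto16 : allFrom 0 17000 (isTab 31671 sigTabs chainBase chainTab) = true :=
  allFrom_add (b := 16000) (c := 1000) chain_tabto15 chain_tab16

theorem chain_tabto17 : allFrom 0 18000 (isTab 31671 sigTabs chainBase chainTab) = true :=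
  allFrom_add (b := 17000) (c := 1000) chain_tabto16 chain_tab17

theorem chain_tabto18 : allFrom 0 19000 (isTab 31671 sigTabs chainBase chainTab) = true :=
  allFrom_add (b := 18000) (c := 1000) chain_tabto17 chain_tab18

theorem chain_tabto19 : allFrom 0 20000 (isTab 31671 sigTabs chainBase chainTab) = true :=
  allFrom_add (b := 19000) (c := 1000) chain_tabto18 chain_tab19

theorem chain_tabto20 : allFrom 0 21000 (isTab 31671 sigTabs chainBase chainTab) = true :=
  allFrom_add (b := 20000) (c := 1000) chain_tabto19 chain_tab20

theorem chain_tabto21 : allFrom 0 22000 (isTab 31671 sigTabs chainBase chainTab) = true :=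
  allFrom_add (b := 21000) (c := 1000) chain_tabto20 chain_tab21

theorem chain_tabto22 : allFrom 0 23000 (isTab 31671 sigTabs chainBase chainTab) = true :=
  allFrom_add (b := 22000) (c := 1000) chain_tabto21 chain_tab22

theorem chain_tabto23 : allFrom 0 24000 (isTab 31671 sigTabs chainBase chainTab) = true :=
  allFrom_add (b := 23000) (c := 1000) chain_tabto22 chain_tab23

theorem chain_tabto24 : allFrom 0 25000 (isTab 31671 sigTabs chainBase chainTab) = true :=
  allFrom_add (b := 24000) (c := 1000) chain_tabto23 chain_tab24

theorem chain_tabto25 : allFrom 0 26000 (isTab 31671 sigTabs chainBase chainTab) = true :=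
  allFrom_add (b := 25000) (c := 1000) chain_tabto24 chain_tab25

theorem chain_tabto26 : allFrom 0 27000 (isTab 31671 sigTabs chainBase chainTab) = true :=
  allFrom_add (b := 26000) (c := 1000) chain_tabto25 chain_tab26

theorem chain_tabto27 : allFrom 0 28000 (isTab 31671 sigTabs chainBase chainTab) = true :=
  allFrom_add (b := 27000) (c := 1000) chain_tabto26 chain_tab27

theorem chain_tabto28 : allFrom 0 29000 (isTab 31671 sigTabs chainBase chainTab) = true :=
  allFrom_add (b := 28000) (c := 1000) chain_tabto27 chain_tab28

theorem chain_tabto29 : allFrom 0 30000 (isTab 31671 sigTabs chainBase chainTab) = true :=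
  allFrom_add (b := 29000) (c := 1000) chain_tabto28 chain_tab29

theorem chain_tabto30 : allFrom 0 31000 (isTab 31671 sigTabs chainBase chainTab) = true :=
  allFrom_add (b := 30000) (c := 1000) chain_tabto29 chain_tab30

theorem chain_tab_all : allFrom 0 31671 (isTab 31671 sigTabs chainBase chainTab) = true :=
  allFrom_add (b := 31000) (c := 671) chain_tabto30 chain_tab31

theorem chain_pow0 : allFrom 0 1000 (iterIs 9 chainTab (ap sig10)) = true := by decide +kernel

theorem chain_pow1 : allFrom 1000 1000 (iterIs 9 chainTab (ap sig10)) = true := by decide +kernel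

theorem chain_pow2 : allFrom 2000 1000 (iterIs 9 chainTab (ap sig10)) = true := by decide +kernel

theorem chain_pow3 : allFrom 3000 1000 (iterIs 9 chainTab (ap sig10)) = true := by decide +kernel

theorem chain_pow4 : allFrom 4000 1000 (iterIs 9 chainTab (ap sig10)) = true := by decide +kernel

theorem chain_pow5 : allFrom 5000 1000 (iterIs 9 chainTab (ap sig10)) = true := by decide +kernel

theorem chain_pow6 : allFrom 6000 1000 (iterIs 9 chainTab (ap sig10)) = true := by decide +kernel

theorem chain_pow7 : allFrom 7000 1000 (iterIs 9 chainTab (ap sig10)) = true := by decide +kernel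

theorem chain_pow8 : allFrom 8000 1000 (iterIs 9 chainTab (ap sig10)) = true := by decide +kernel

theorem chain_pow9 : allFrom 9000 1000 (iterIs 9 chainTab (ap sig10)) = true := by decide +kernel

theorem chain_pow10 : allFrom 10000 1000 (iterIs 9 chainTab (ap sig10)) = true := by decide +kernel

theorem chain_pow11 : allFrom 11000 1000 (iterIs 9 chainTab (ap sig10)) = true := by decide +kernel

theorem chain_pow12 : allFrom 12000 1000 (iterIs 9 chainTab (ap sig10)) = true := by decide +kernel

theorem chain_pow13 : allFrom 13000 1000 (iterIs 9 chainTab (ap sig10)) = true := by decide +kernel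

theorem chain_pow14 : allFrom 14000 1000 (iterIs 9 chainTab (ap sig10)) = true := by decide +kernel

theorem chain_pow15 : allFrom 15000 1000 (iterIs 9 chainTab (ap sig10)) = true := by decide +kernel

theorem chain_pow16 : allFrom 16000 1000 (iterIs 9 chainTab (ap sig10)) = true := by decide +kernel

theorem chain_pow17 : allFrom 17000 1000 (iterIs 9 chainTab (ap sig10)) = true := by decide +kernel

theorem chain_pow18 : allFrom 18000 1000 (iterIs 9 chainTab (ap sig10)) = true := by decide +kernel

theorem chain_pow19 : allFrom 19000 1000 (iterIs 9 chainTab (ap sig10)) = true := by decide +kernel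

theorem chain_pow20 : allFrom 20000 1000 (iterIs 9 chainTab (ap sig10)) = true := by decide +kernel

theorem chain_pow21 : allFrom 21000 1000 (iterIs 9 chainTab (ap sig10)) = true := by decide +kernel

theorem chain_pow22 : allFrom 22000 1000 (iterIs 9 chainTab (ap sig10)) = true := by decide +kernel

theorem chain_pow23 : allFrom 23000 1000 (iterIs 9 chainTab (ap sig10)) = true := by decide +kernel

theorem chain_pow24 : allFrom 24000 1000 (iterIs 9 chainTab (ap sig10)) = true := by decide +kernel

theorem chain_pow25 : allFrom 25000 1000 (iterIs 9 chainTab (ap sig10)) = true := by decide +kernel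

theorem chain_pow26 : allFrom 26000 1000 (iterIs 9 chainTab (ap sig10)) = true := by decide +kernel

theorem chain_pow27 : allFrom 27000 1000 (iterIs 9 chainTab (ap sig10)) = true := by decide +kernel

theorem chain_pow28 : allFrom 28000 1000 (iterIs 9 chainTab (ap sig10)) = true := by decide +kernel

theorem chain_pow29 : allFrom 29000 1000 (iterIs 9 chainTab (ap sig10)) = true := by decide +kernel

theorem chain_pow30 : allFrom 30000 1000 (iterIs 9 chainTab (ap sig10)) = true := by decide +kernel

theorem chain_pow31 : allFrom 31000 671 (iterIs 9 chainTab (ap sig10)) = true := by decide +kernel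

theorem chain_powto1 : allFrom 0 2000 (iterIs 9 chainTab (ap sig10)) = true :=
  allFrom_add (b := 1000) (c := 1000) chain_pow0 chain_pow1

theorem chain_powto2 : allFrom 0 3000 (iterIs 9 chainTab (ap sig10)) = true :=
  allFrom_add (b := 2000) (c := 1000) chain_powto1 chain_pow2

theorem chain_powto3 : allFrom 0 4000 (iterIs 9 chainTab (ap sig10)) = true :=
  allFrom_add (b := 3000) (c := 1000) chain_powto2 chain_pow3

theorem chain_powto4 : allFrom 0 5000 (iterIs 9 chainTab (ap sig10)) = true :=
  allFrom_add (b := 4000) (c := 1000) chain_powto3 chain_pow4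

theorem chain_powto5 : allFrom 0 6000 (iterIs 9 chainTab (ap sig10)) = true :=
  allFrom_add (b := 5000) (c := 1000) chain_powto4 chain_pow5

theorem chain_powto6 : allFrom 0 7000 (iterIs 9 chainTab (ap sig10)) = true :=
  allFrom_add (b := 6000) (c := 1000) chain_powto5 chain_pow6

theorem chain_powto7 : allFrom 0 8000 (iterIs 9 chainTab (ap sig10)) = true :=
  allFrom_add (b := 7000) (c := 1000) chain_powto6 chain_pow7

theorem chain_powto8 : allFrom 0 9000 (iterIs 9 chainTab (ap sig10)) = true :=
  allFrom_add (b := 8000) (c := 1000) chain_powto7 chain_pow8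

theorem chain_powto9 : allFrom 0 10000 (iterIs 9 chainTab (ap sig10)) = true :=
  allFrom_add (b := 9000) (c := 1000) chain_powto8 chain_pow9

theorem chain_powto10 : allFrom 0 11000 (iterIs 9 chainTab (ap sig10)) = true :=
  allFrom_add (b := 10000) (c := 1000) chain_powto9 chain_pow10

theorem chain_powto11 : allFrom 0 12000 (iterIs 9 chainTab (ap sig10)) = true :=
  allFrom_add (b := 11000) (c := 1000) chain_powto10 chain_pow11

theorem chain_powto12 : allFrom 0 13000 (iterIs 9 chainTab (ap sig10)) = true :=
  allFrom_add (b := 12000) (c := 1000) chain_powto11 chain_pow12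

theorem chain_powto13 : allFrom 0 14000 (iterIs 9 chainTab (ap sig10)) = true :=
  allFrom_add (b := 13000) (c := 1000) chain_powto12 chain_pow13

theorem chain_powto14 : allFrom 0 15000 (iterIs 9 chainTab (ap sig10)) = true :=
  allFrom_add (b := 14000) (c := 1000) chain_powto13 chain_pow14

theorem chain_powto15 : allFrom 0 16000 (iterIs 9 chainTab (ap sig10)) = true :=
  allFrom_add (b := 15000) (c := 1000) chain_powto14 chain_pow15

theorem chain_powto16 : allFrom 0 17000 (iterIs 9 chainTab (ap sig10)) = true :=
  allFrom_add (b := 16000) (c := 1000) chain_powto15 chain_pow16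

theorem chain_powto17 : allFrom 0 18000 (iterIs 9 chainTab (ap sig10)) = true :=
  allFrom_add (b := 17000) (c := 1000) chain_powto16 chain_pow17

theorem chain_powto18 : allFrom 0 19000 (iterIs 9 chainTab (ap sig10)) = true :=
  allFrom_add (b := 18000) (c := 1000) chain_powto17 chain_pow18

theorem chain_powto19 : allFrom 0 20000 (iterIs 9 chainTab (ap sig10)) = true :=
  allFrom_add (b := 19000) (c := 1000) chain_powto18 chain_pow19

theorem chain_powto20 : allFrom 0 21000 (iterIs 9 chainTab (ap sig10)) = true :=
  allFrom_add (b := 20000) (c := 1000) chain_powto19 chain_pow20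

theorem chain_powto21 : allFrom 0 22000 (iterIs 9 chainTab (ap sig10)) = true :=
  allFrom_add (b := 21000) (c := 1000) chain_powto20 chain_pow21

theorem chain_powto22 : allFrom 0 23000 (iterIs 9 chainTab (ap sig10)) = true :=
  allFrom_add (b := 22000) (c := 1000) chain_powto21 chain_pow22

theorem chain_powto23 : allFrom 0 24000 (iterIs 9 chainTab (ap sig10)) = true :=
  allFrom_add (b := 23000) (c := 1000) chain_powto22 chain_pow23

theorem chain_powto24 : allFrom 0 25000 (iterIs 9 chainTab (ap sig10)) = true :=
  allFrom_add (b := 24000) (c := 1000) chain_powto23 chain_pow24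

theorem chain_powto25 : allFrom 0 26000 (iterIs 9 chainTab (ap sig10)) = true :=
  allFrom_add (b := 25000) (c := 1000) chain_powto24 chain_pow25

theorem chain_powto26 : allFrom 0 27000 (iterIs 9 chainTab (ap sig10)) = true :=
  allFrom_add (b := 26000) (c := 1000) chain_powto25 chain_pow26

theorem chain_powto27 : allFrom 0 28000 (iterIs 9 chainTab (ap sig10)) = true :=
  allFrom_add (b := 27000) (c := 1000) chain_powto26 chain_pow27

theorem chain_powto28 : allFrom 0 29000 (iterIs 9 chainTab (ap sig10)) = true :=
  allFrom_add (b := 28000) (c := 1000) chain_powto27 chain_pow28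

theorem chain_powto29 : allFrom 0 30000 (iterIs 9 chainTab (ap sig10)) = true :=
  allFrom_add (b := 29000) (c := 1000) chain_powto28 chain_pow29

theorem chain_powto30 : allFrom 0 31000 (iterIs 9 chainTab (ap sig10)) = true :=
  allFrom_add (b := 30000) (c := 1000) chain_powto29 chain_pow30

theorem chain_pow_all : allFrom 0 31671 (iterIs 9 chainTab (ap sig10)) = true :=
  allFrom_add (b := 31000) (c := 671) chain_powto30 chain_pow31

end Cfsg.Lib.FiTwenty
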