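import Cfsg.Agent.FiTwenty.ActTests

/-!
The eleventh letter commutes with the first nine.
-/

set_option autoImplicit false
set_option Elab.async false

namespace Cfsg.Lib.FiTwenty

open Cfsg.Lib.CosetCert Cfsg.Lib.PermCert

theorem comm_0 : allFrom 0 1000 (commAt) = true := by decide +kernel

theorem comm_1 : allFrom 1000 1000 (commAt) = true := by decide +kernel

theorem comm_2 : allFrom 2000 1000 (commAt) = true := by decide +kernel

theorem comm_3 : allFrom 3000 1000 (commAt) = true := by decide +kernel

theorem comm_4 : allFrom 4000 1000 (commAt) = true := by decide +kernel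

theorem comm_5 : allFrom 5000 1000 (commAt) = true := by decide +kernel

theorem comm_6 : allFrom 6000 1000 (commAt) = true := by decide +kernel

theorem comm_7 : allFrom 7000 1000 (commAt) = true := by decide +kernel

theorem comm_8 : allFrom 8000 1000 (commAt) = true := by decide +kernel

theorem comm_9 : allFrom 9000 1000 (commAt) = true := by decide +kernel

theorem comm_10 : allFrom 10000 1000 (commAt) = true := by decide +kernel

theorem comm_11 : allFrom 11000 1000 (commAt) = true := by decide +kernel

theorem comm_12 : allFrom 12000 1000 (commAt) = true := by decide +kernel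

theorem comm_13 : allFrom 13000 1000 (commAt) = true := by decide +kernel

theorem comm_14 : allFrom 14000 1000 (commAt) = true := by decide +kernel

theorem comm_15 : allFrom 15000 1000 (commAt) = true := by decide +kernel

theorem comm_16 : allFrom 16000 1000 (commAt) = true := by decide +kernel

theorem comm_17 : allFrom 17000 1000 (commAt) = true := by decide +kernel

theorem comm_18 : allFrom 18000 1000 (commAt) = true := by decide +kernel

theorem comm_19 : allFrom 19000 1000 (commAt) = true := by decide +kernel

theorem comm_20 : allFrom 20000 1000 (commAt) = true := by decide +kernel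

theorem comm_21 : allFrom 21000 1000 (commAt) = true := by decide +kernel

theorem comm_22 : allFrom 22000 1000 (commAt) = true := by decide +kernel

theorem comm_23 : allFrom 23000 1000 (commAt) = true := by decide +kernel

theorem comm_24 : allFrom 24000 1000 (commAt) = true := by decide +kernel

theorem comm_25 : allFrom 25000 1000 (commAt) = true := by decide +kernel

theorem comm_26 : allFrom 26000 1000 (commAt) = true := by decide +kernel

theorem comm_27 : allFrom 27000 1000 (commAt) = true := by decide +kernel

theorem comm_28 : allFrom 28000 1000 (commAt) = true := by decide +kernel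

theorem comm_29 : allFrom 29000 1000 (commAt) = true := by decide +kernel

theorem comm_30 : allFrom 30000 1000 (commAt) = true := by decide +kernel

theorem comm_31 : allFrom 31000 671 (commAt) = true := by decide +kernel

theorem comm_to1 : allFrom 0 2000 (commAt) = true :=
  allFrom_add (b := 1000) (c := 1000) comm_0 comm_1

theorem comm_to2 : allFrom 0 3000 (commAt) = true :=
  allFrom_add (b := 2000) (c := 1000) comm_to1 comm_2

theorem comm_to3 : allFrom 0 4000 (commAt) = true :=
  allFrom_add (b := 3000) (c := 1000) comm_to2 comm_3

theorem comm_to4 : allFrom 0 5000 (commAt) = true :=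
  allFrom_add (b := 4000) (c := 1000) comm_to3 comm_4

theorem comm_to5 : allFrom 0 6000 (commAt) = true :=
  allFrom_add (b := 5000) (c := 1000) comm_to4 comm_5

theorem comm_to6 : allFrom 0 7000 (commAt) = true :=
  allFrom_add (b := 6000) (c := 1000) comm_to5 comm_6

theorem comm_to7 : allFrom 0 8000 (commAt) = true :=
  allFrom_add (b := 7000) (c := 1000) comm_to6 comm_7

theorem comm_to8 : allFrom 0 9000 (commAt) = true :=
  allFrom_add (b := 8000) (c := 1000) comm_to7 comm_8

theorem comm_to9 : allFrom 0 10000 (commAt) = true :=
  allFrom_add (b := 9000) (c := 1000) comm_to8 comm_9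

theorem comm_to10 : allFrom 0 11000 (commAt) = true :=
  allFrom_add (b := 10000) (c := 1000) comm_to9 comm_10

theorem comm_to11 : allFrom 0 12000 (commAt) = true :=
  allFrom_add (b := 11000) (c := 1000) comm_to10 comm_11

theorem comm_to12 : allFrom 0 13000 (commAt) = true :=
  allFrom_add (b := 12000) (c := 1000) comm_to11 comm_12

theorem comm_to13 : allFrom 0 14000 (commAt) = true :=
  allFrom_add (b := 13000) (c := 1000) comm_to12 comm_13

theorem comm_to14 : allFrom 0 15000 (commAt) = true :=
  allFrom_add (b := 14000) (c := 1000) comm_to13 comm_14

theorem comm_to15 : allFrom 0 16000 (commAt) = true :=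
  allFrom_add (b := 15000) (c := 1000) comm_to14 comm_15

theorem comm_to16 : allFrom 0 17000 (commAt) = true :=
  allFrom_add (b := 16000) (c := 1000) comm_to15 comm_16

theorem comm_to17 : allFrom 0 18000 (commAt) = true :=
  allFrom_add (b := 17000) (c := 1000) comm_to16 comm_17

theorem comm_to18 : allFrom 0 19000 (commAt) = true :=
  allFrom_add (b := 18000) (c := 1000) comm_to17 comm_18

theorem comm_to19 : allFrom 0 20000 (commAt) = true :=
  allFrom_add (b := 19000) (c := 1000) comm_to18 comm_19

theorem comm_to20 : allFrom 0 21000 (commAt) = true :=
  allFrom_add (b := 20000) (c := 1000) comm_to19 comm_20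

theorem comm_to21 : allFrom 0 22000 (commAt) = true :=
  allFrom_add (b := 21000) (c := 1000) comm_to20 comm_21

theorem comm_to22 : allFrom 0 23000 (commAt) = true :=
  allFrom_add (b := 22000) (c := 1000) comm_to21 comm_22

theorem comm_to23 : allFrom 0 24000 (commAt) = true :=
  allFrom_add (b := 23000) (c := 1000) comm_to22 comm_23

theorem comm_to24 : allFrom 0 25000 (commAt) = true :=
  allFrom_add (b := 24000) (c := 1000) comm_to23 comm_24

theorem comm_to25 : allFrom 0 26000 (commAt) = true :=
  allFrom_add (b := 25000) (c := 1000) comm_to24 comm_25

theorem comm_to26 : allFrom 0 27000 (commAt) = true :=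
  allFrom_add (b := 26000) (c := 1000) comm_to25 comm_26

theorem comm_to27 : allFrom 0 28000 (commAt) = true :=
  allFrom_add (b := 27000) (c := 1000) comm_to26 comm_27

theorem comm_to28 : allFrom 0 29000 (commAt) = true :=
  allFrom_add (b := 28000) (c := 1000) comm_to27 comm_28

theorem comm_to29 : allFrom 0 30000 (commAt) = true :=
  allFrom_add (b := 29000) (c := 1000) comm_to28 comm_29

theorem comm_to30 : allFrom 0 31000 (commAt) = true :=
  allFrom_add (b := 30000) (c := 1000) comm_to29 comm_30

theorem comm__all : allFrom 0 31671 (commAt) = true :=
  allFrom_add (b := 31000) (c := 671) comm_to30 comm_31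

end Cfsg.Lib.FiTwenty
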