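import Cfsg.Agent.FiTwenty.ActTests

/-!
The eleventh letter is a conjugate.
-/

set_option autoImplicit false
set_option Elab.async false

namespace Cfsg.Lib.FiTwenty

open Cfsg.Lib.CosetCert Cfsg.Lib.PermCert

theorem conj_0 : allFrom 0 1000 (fun p => evalP sigTabs conjZ p == ap sig10 p) = true := by decide +kernel

theorem conj_1 : allFrom 1000 1000 (fun p => evalP sigTabs conjZ p == ap sig10 p) = true := by decide +kernel

theorem conj_2 : allFrom 2000 1000 (fun p => evalP sigTabs conjZ p == ap sig10 p) = true := by decide +kernel

theorem conj_3 : allFrom 3000 1000 (fun p => evalP sigTabs conjZ p == ap sig10 p) = true := by decide +kernel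

theorem conj_4 : allFrom 4000 1000 (fun p => evalP sigTabs conjZ p == ap sig10 p) = true := by decide +kernel

theorem conj_5 : allFrom 5000 1000 (fun p => evalP sigTabs conjZ p == ap sig10 p) = true := by decide +kernel

theorem conj_6 : allFrom 6000 1000 (fun p => evalP sigTabs conjZ p == ap sig10 p) = true := by decide +kernel

theorem conj_7 : allFrom 7000 1000 (fun p => evalP sigTabs conjZ p == ap sig10 p) = true := by decide +kernel

theorem conj_8 : allFrom 8000 1000 (fun p => evalP sigTabs conjZ p == ap sig10 p) = true := by decide +kernel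

theorem conj_9 : allFrom 9000 1000 (fun p => evalP sigTabs conjZ p == ap sig10 p) = true := by decide +kernel

theorem conj_10 : allFrom 10000 1000 (fun p => evalP sigTabs conjZ p == ap sig10 p) = true := by decide +kernel

theorem conj_11 : allFrom 11000 1000 (fun p => evalP sigTabs conjZ p == ap sig10 p) = true := by decide +kernel

theorem conj_12 : allFrom 12000 1000 (fun p => evalP sigTabs conjZ p == ap sig10 p) = true := by decide +kernel

theorem conj_13 : allFrom 13000 1000 (fun p => evalP sigTabs conjZ p == ap sig10 p) = true := by decide +kernel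

theorem conj_14 : allFrom 14000 1000 (fun p => evalP sigTabs conjZ p == ap sig10 p) = true := by decide +kernel

theorem conj_15 : allFrom 15000 1000 (fun p => evalP sigTabs conjZ p == ap sig10 p) = true := by decide +kernel

theorem conj_16 : allFrom 16000 1000 (fun p => evalP sigTabs conjZ p == ap sig10 p) = true := by decide +kernel

theorem conj_17 : allFrom 17000 1000 (fun p => evalP sigTabs conjZ p == ap sig10 p) = true := by decide +kernel

theorem conj_18 : allFrom 18000 1000 (fun p => evalP sigTabs conjZ p == ap sig10 p) = true := by decide +kernel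

theorem conj_19 : allFrom 19000 1000 (fun p => evalP sigTabs conjZ p == ap sig10 p) = true := by decide +kernel

theorem conj_20 : allFrom 20000 1000 (fun p => evalP sigTabs conjZ p == ap sig10 p) = true := by decide +kernel

theorem conj_21 : allFrom 21000 1000 (fun p => evalP sigTabs conjZ p == ap sig10 p) = true := by decide +kernel

theorem conj_22 : allFrom 22000 1000 (fun p => evalP sigTabs conjZ p == ap sig10 p) = true := by decide +kernel

theorem conj_23 : allFrom 23000 1000 (fun p => evalP sigTabs conjZ p == ap sig10 p) = true := by decide +kernel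

theorem conj_24 : allFrom 24000 1000 (fun p => evalP sigTabs conjZ p == ap sig10 p) = true := by decide +kernel

theorem conj_25 : allFrom 25000 1000 (fun p => evalP sigTabs conjZ p == ap sig10 p) = true := by decide +kernel

theorem conj_26 : allFrom 26000 1000 (fun p => evalP sigTabs conjZ p == ap sig10 p) = true := by decide +kernel

theorem conj_27 : allFrom 27000 1000 (fun p => evalP sigTabs conjZ p == ap sig10 p) = true := by decide +kernel

theorem conj_28 : allFrom 28000 1000 (fun p => evalP sigTabs conjZ p == ap sig10 p) = true := by decide +kernel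

theorem conj_29 : allFrom 29000 1000 (fun p => evalP sigTabs conjZ p == ap sig10 p) = true := by decide +kernel

theorem conj_30 : allFrom 30000 1000 (fun p => evalP sigTabs conjZ p == ap sig10 p) = true := by decide +kernel

theorem conj_31 : allFrom 31000 671 (fun p => evalP sigTabs conjZ p == ap sig10 p) = true := by decide +kernel

theorem conj_to1 : allFrom 0 2000 (fun p => evalP sigTabs conjZ p == ap sig10 p) = true :=
  allFrom_add (b := 1000) (c := 1000) conj_0 conj_1

theorem conj_to2 : allFrom 0 3000 (fun p => evalP sigTabs conjZ p == ap sig10 p) = true :=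
  allFrom_add (b := 2000) (c := 1000) conj_to1 conj_2

theorem conj_to3 : allFrom 0 4000 (fun p => evalP sigTabs conjZ p == ap sig10 p) = true :=
  allFrom_add (b := 3000) (c := 1000) conj_to2 conj_3

theorem conj_to4 : allFrom 0 5000 (fun p => evalP sigTabs conjZ p == ap sig10 p) = true :=
  allFrom_add (b := 4000) (c := 1000) conj_to3 conj_4

theorem conj_to5 : allFrom 0 6000 (fun p => evalP sigTabs conjZ p == ap sig10 p) = true :=
  allFrom_add (b := 5000) (c := 1000) conj_to4 conj_5

theorem conj_to6 : allFrom 0 7000 (fun p => evalP sigTabs conjZ p == ap sig10 p) = true :=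
  allFrom_add (b := 6000) (c := 1000) conj_to5 conj_6

theorem conj_to7 : allFrom 0 8000 (fun p => evalP sigTabs conjZ p == ap sig10 p) = true :=
  allFrom_add (b := 7000) (c := 1000) conj_to6 conj_7

theorem conj_to8 : allFrom 0 9000 (fun p => evalP sigTabs conjZ p == ap sig10 p) = true :=
  allFrom_add (b := 8000) (c := 1000) conj_to7 conj_8

theorem conj_to9 : allFrom 0 10000 (fun p => evalP sigTabs conjZ p == ap sig10 p) = true :=
  allFrom_add (b := 9000) (c := 1000) conj_to8 conj_9

theorem conj_to10 : allFrom 0 11000 (fun p => evalP sigTabs conjZ p == ap sig10 p) = true :=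
  allFrom_add (b := 10000) (c := 1000) conj_to9 conj_10

theorem conj_to11 : allFrom 0 12000 (fun p => evalP sigTabs conjZ p == ap sig10 p) = true :=
  allFrom_add (b := 11000) (c := 1000) conj_to10 conj_11

theorem conj_to12 : allFrom 0 13000 (fun p => evalP sigTabs conjZ p == ap sig10 p) = true :=
  allFrom_add (b := 12000) (c := 1000) conj_to11 conj_12

theorem conj_to13 : allFrom 0 14000 (fun p => evalP sigTabs conjZ p == ap sig10 p) = true :=
  allFrom_add (b := 13000) (c := 1000) conj_to12 conj_13

theorem conj_to14 : allFrom 0 15000 (fun p => evalP sigTabs conjZ p == ap sig10 p) = true :=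
  allFrom_add (b := 14000) (c := 1000) conj_to13 conj_14

theorem conj_to15 : allFrom 0 16000 (fun p => evalP sigTabs conjZ p == ap sig10 p) = true :=
  allFrom_add (b := 15000) (c := 1000) conj_to14 conj_15

theorem conj_to16 : allFrom 0 17000 (fun p => evalP sigTabs conjZ p == ap sig10 p) = true :=
  allFrom_add (b := 16000) (c := 1000) conj_to15 conj_16

theorem conj_to17 : allFrom 0 18000 (fun p => evalP sigTabs conjZ p == ap sig10 p) = true :=
  allFrom_add (b := 17000) (c := 1000) conj_to16 conj_17

theorem conj_to18 : allFrom 0 19000 (fun p => evalP sigTabs conjZ p == ap sig10 p) = true :=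
  allFrom_add (b := 18000) (c := 1000) conj_to17 conj_18

theorem conj_to19 : allFrom 0 20000 (fun p => evalP sigTabs conjZ p == ap sig10 p) = true :=
  allFrom_add (b := 19000) (c := 1000) conj_to18 conj_19

theorem conj_to20 : allFrom 0 21000 (fun p => evalP sigTabs conjZ p == ap sig10 p) = true :=
  allFrom_add (b := 20000) (c := 1000) conj_to19 conj_20

theorem conj_to21 : allFrom 0 22000 (fun p => evalP sigTabs conjZ p == ap sig10 p) = true :=
  allFrom_add (b := 21000) (c := 1000) conj_to20 conj_21

theorem conj_to22 : allFrom 0 23000 (fun p => evalP sigTabs conjZ p == ap sig10 p) = true :=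
  allFrom_add (b := 22000) (c := 1000) conj_to21 conj_22

theorem conj_to23 : allFrom 0 24000 (fun p => evalP sigTabs conjZ p == ap sig10 p) = true :=
  allFrom_add (b := 23000) (c := 1000) conj_to22 conj_23

theorem conj_to24 : allFrom 0 25000 (fun p => evalP sigTabs conjZ p == ap sig10 p) = true :=
  allFrom_add (b := 24000) (c := 1000) conj_to23 conj_24

theorem conj_to25 : allFrom 0 26000 (fun p => evalP sigTabs conjZ p == ap sig10 p) = true :=
  allFrom_add (b := 25000) (c := 1000) conj_to24 conj_25

theorem conj_to26 : allFrom 0 27000 (fun p => evalP sigTabs conjZ p == ap sig10 p) = true :=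
  allFrom_add (b := 26000) (c := 1000) conj_to25 conj_26

theorem conj_to27 : allFrom 0 28000 (fun p => evalP sigTabs conjZ p == ap sig10 p) = true :=
  allFrom_add (b := 27000) (c := 1000) conj_to26 conj_27

theorem conj_to28 : allFrom 0 29000 (fun p => evalP sigTabs conjZ p == ap sig10 p) = true :=
  allFrom_add (b := 28000) (c := 1000) conj_to27 conj_28

theorem conj_to29 : allFrom 0 30000 (fun p => evalP sigTabs conjZ p == ap sig10 p) = true :=
  allFrom_add (b := 29000) (c := 1000) conj_to28 conj_29

theorem conj_to30 : allFrom 0 31000 (fun p => evalP sigTabs conjZ p == ap sig10 p) = true :=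
  allFrom_add (b := 30000) (c := 1000) conj_to29 conj_30

theorem conj__all : allFrom 0 31671 (fun p => evalP sigTabs conjZ p == ap sig10 p) = true :=
  allFrom_add (b := 31000) (c := 671) conj_to30 conj_31

end Cfsg.Lib.FiTwenty
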