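import Cfsg.Agent.FiTwenty.ActBase

/-!
The further relators hold on the points.
-/

set_option autoImplicit false
set_option Elab.async false

namespace Cfsg.Lib.FiTwenty

open Cfsg.Lib.CosetCert Cfsg.Lib.PermCert

theorem spider_tab0 : allFrom 0 1000 (isTab 31671 sigTabs spiderBase spiderTab) = true := by decide +kernel

theorem spider_tab1 : allFrom 1000 1000 (isTab 31671 sigTabs spiderBase spiderTab) = true := by decide +kernel

theorem spider_tab2 : allFrom 2000 1000 (isTab 31671 sigTabs spiderBase spiderTab) = true := by decide +kernel

theorem spider_tab3 : allFrom 3000 1000 (isTab 31671 sigTabs spiderBase spiderTab) = true := by decide +kernel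

theorem spider_tab4 : allFrom 4000 1000 (isTab 31671 sigTabs spiderBase spiderTab) = true := by decide +kernel

theorem spider_tab5 : allFrom 5000 1000 (isTab 31671 sigTabs spiderBase spiderTab) = true := by decide +kernel

theorem spider_tab6 : allFrom 6000 1000 (isTab 31671 sigTabs spiderBase spiderTab) = true := by decide +kernel

theorem spider_tab7 : allFrom 7000 1000 (isTab 31671 sigTabs spiderBase spiderTab) = true := by decide +kernel

theorem spider_tab8 : allFrom 8000 1000 (isTab 31671 sigTabs spiderBase spiderTab) = true := by decide +kernel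

theorem spider_tab9 : allFrom 9000 1000 (isTab 31671 sigTabs spiderBase spiderTab) = true := by decide +kernel

theorem spider_tab10 : allFrom 10000 1000 (isTab 31671 sigTabs spiderBase spiderTab) = true := by decide +kernel

theorem spider_tab11 : allFrom 11000 1000 (isTab 31671 sigTabs spiderBase spiderTab) = true := by decide +kernel

theorem spider_tab12 : allFrom 12000 1000 (isTab 31671 sigTabs spiderBase spiderTab) = true := by decide +kernel

theorem spider_tab13 : allFrom 13000 1000 (isTab 31671 sigTabs spiderBase spiderTab) = true := by decide +kernel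

theorem spider_tab14 : allFrom 14000 1000 (isTab 31671 sigTabs spiderBase spiderTab) = true := by decide +kernel

theorem spider_tab15 : allFrom 15000 1000 (isTab 31671 sigTabs spiderBase spiderTab) = true := by decide +kernel

theorem spider_tab16 : allFrom 16000 1000 (isTab 31671 sigTabs spiderBase spiderTab) = true := by decide +kernel

theorem spider_tab17 : allFrom 17000 1000 (isTab 31671 sigTabs spiderBase spiderTab) = true := by decide +kernel

theorem spider_tab18 : allFrom 18000 1000 (isTab 31671 sigTabs spiderBase spiderTab) = true := by decide +kernel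

theorem spider_tab19 : allFrom 19000 1000 (isTab 31671 sigTabs spiderBase spiderTab) = true := by decide +kernel

theorem spider_tab20 : allFrom 20000 1000 (isTab 31671 sigTabs spiderBase spiderTab) = true := by decide +kernel

theorem spider_tab21 : allFrom 21000 1000 (isTab 31671 sigTabs spiderBase spiderTab) = true := by decide +kernel

theorem spider_tab22 : allFrom 22000 1000 (isTab 31671 sigTabs spiderBase spiderTab) = true := by decide +kernel

theorem spider_tab23 : allFrom 23000 1000 (isTab 31671 sigTabs spiderBase spiderTab) = true := by decide +kernel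

theorem spider_tab24 : allFrom 24000 1000 (isTab 31671 sigTabs spiderBase spiderTab) = true := by decide +kernel

theorem spider_tab25 : allFrom 25000 1000 (isTab 31671 sigTabs spiderBase spiderTab) = true := by decide +kernel

theorem spider_tab26 : allFrom 26000 1000 (isTab 31671 sigTabs spiderBase spiderTab) = true := by decide +kernel

theorem spider_tab27 : allFrom 27000 1000 (isTab 31671 sigTabs spiderBase spiderTab) = true := by decide +kernel

theorem spider_tab28 : allFrom 28000 1000 (isTab 31671 sigTabs spiderBase spiderTab) = true := by decide +kernel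

theorem spider_tab29 : allFrom 29000 1000 (isTab 31671 sigTabs spiderBase spiderTab) = true := by decide +kernel

theorem spider_tab30 : allFrom 30000 1000 (isTab 31671 sigTabs spiderBase spiderTab) = true := by decide +kernel

theorem spider_tab31 : allFrom 31000 671 (isTab 31671 sigTabs spiderBase spiderTab) = true := by decide +kernel

theorem spider_tabto1 : allFrom 0 2000 (isTab 31671 sigTabs spiderBase spiderTab) = true :=
  allFrom_add (b := 1000) (c := 1000) spider_tab0 spider_tab1

theorem spider_tabto2 : allFrom 0 3000 (isTab 31671 sigTabs spiderBase spiderTab) = true :=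
  allFrom_add (b := 2000) (c := 1000) spider_tabto1 spider_tab2

theorem spider_tabto3 : allFrom 0 4000 (isTab 31671 sigTabs spiderBase spiderTab) = true :=
  allFrom_add (b := 3000) (c := 1000) spider_tabto2 spider_tab3

theorem spider_tabto4 : allFrom 0 5000 (isTab 31671 sigTabs spiderBase spiderTab) = true :=
  allFrom_add (b := 4000) (c := 1000) spider_tabto3 spider_tab4

theorem spider_tabto5 : allFrom 0 6000 (isTab 31671 sigTabs spiderBase spiderTab) = true :=
  allFrom_add (b := 5000) (c := 1000) spider_tabto4 spider_tab5

theorem spider_tabto6 : allFrom 0 7000 (isTab 31671 sigTabs spiderBase spiderTab) = true :=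
  allFrom_add (b := 6000) (c := 1000) spider_tabto5 spider_tab6

theorem spider_tabto7 : allFrom 0 8000 (isTab 31671 sigTabs spiderBase spiderTab) = true :=
  allFrom_add (b := 7000) (c := 1000) spider_tabto6 spider_tab7

theorem spider_tabto8 : allFrom 0 9000 (isTab 31671 sigTabs spiderBase spiderTab) = true :=
  allFrom_add (b := 8000) (c := 1000) spider_tabto7 spider_tab8

theorem spider_tabto9 : allFrom 0 10000 (isTab 31671 sigTabs spiderBase spiderTab) = true :=
  allFrom_add (b := 9000) (c := 1000) spider_tabto8 spider_tab9

theorem spider_tabto10 : allFrom 0 11000 (isTab 31671 sigTabs spiderBase spiderTab) = true :=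
  allFrom_add (b := 10000) (c := 1000) spider_tabto9 spider_tab10

theorem spider_tabto11 : allFrom 0 12000 (isTab 31671 sigTabs spiderBase spiderTab) = true :=
  allFrom_add (b := 11000) (c := 1000) spider_tabto10 spider_tab11

theorem spider_tabto12 : allFrom 0 13000 (isTab 31671 sigTabs spiderBase spiderTab) = true :=
  allFrom_add (b := 12000) (c := 1000) spider_tabto11 spider_tab12

theorem spider_tabto13 : allFrom 0 14000 (isTab 31671 sigTabs spiderBase spiderTab) = true :=
  allFrom_add (b := 13000) (c := 1000) spider_tabto12 spider_tab13

theorem spider_tabto14 : allFrom 0 15000 (isTab 31671 sigTabs spiderBase spiderTab) = true :=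
  allFrom_add (b := 14000) (c := 1000) spider_tabto13 spider_tab14

theorem spider_tabto15 : allFrom 0 16000 (isTab 31671 sigTabs spiderBase spiderTab) = true :=
  allFrom_add (b := 15000) (c := 1000) spider_tabto14 spider_tab15

theorem spider_tabto16 : allFrom 0 17000 (isTab 31671 sigTabs spiderBase spiderTab) = true :=
  allFrom_add (b := 16000) (c := 1000) spider_tabto15 spider_tab16

theorem spider_tabto17 : allFrom 0 18000 (isTab 31671 sigTabs spiderBase spiderTab) = true :=
  allFrom_add (b := 17000) (c := 1000) spider_tabto16 spider_tab17

theorem spider_tabto18 : allFrom 0 19000 (isTab 31671 sigTabs spiderBase spiderTab) = true :=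
  allFrom_add (b := 18000) (c := 1000) spider_tabto17 spider_tab18

theorem spider_tabto19 : allFrom 0 20000 (isTab 31671 sigTabs spiderBase spiderTab) = true :=
  allFrom_add (b := 19000) (c := 1000) spider_tabto18 spider_tab19

theorem spider_tabto20 : allFrom 0 21000 (isTab 31671 sigTabs spiderBase spiderTab) = true :=
  allFrom_add (b := 20000) (c := 1000) spider_tabto19 spider_tab20

theorem spider_tabto21 : allFrom 0 22000 (isTab 31671 sigTabs spiderBase spiderTab) = true :=
  allFrom_add (b := 21000) (c := 1000) spider_tabto20 spider_tab21

theorem spider_tabto22 : allFrom 0 23000 (isTab 31671 sigTabs spiderBase spiderTab) = true :=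
  allFrom_add (b := 22000) (c := 1000) spider_tabto21 spider_tab22

theorem spider_tabto23 : allFrom 0 24000 (isTab 31671 sigTabs spiderBase spiderTab) = true :=
  allFrom_add (b := 23000) (c := 1000) spider_tabto22 spider_tab23

theorem spider_tabto24 : allFrom 0 25000 (isTab 31671 sigTabs spiderBase spiderTab) = true :=
  allFrom_add (b := 24000) (c := 1000) spider_tabto23 spider_tab24

theorem spider_tabto25 : allFrom 0 26000 (isTab 31671 sigTabs spiderBase spiderTab) = true :=
  allFrom_add (b := 25000) (c := 1000) spider_tabto24 spider_tab25

theorem spider_tabto26 : allFrom 0 27000 (isTab 31671 sigTabs spiderBase spiderTab) = true :=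
  allFrom_add (b := 26000) (c := 1000) spider_tabto25 spider_tab26

theorem spider_tabto27 : allFrom 0 28000 (isTab 31671 sigTabs spiderBase spiderTab) = true :=
  allFrom_add (b := 27000) (c := 1000) spider_tabto26 spider_tab27

theorem spider_tabto28 : allFrom 0 29000 (isTab 31671 sigTabs spiderBase spiderTab) = true :=
  allFrom_add (b := 28000) (c := 1000) spider_tabto27 spider_tab28

theorem spider_tabto29 : allFrom 0 30000 (isTab 31671 sigTabs spiderBase spiderTab) = true :=
  allFrom_add (b := 29000) (c := 1000) spider_tabto28 spider_tab29

theorem spider_tabto30 : allFrom 0 31000 (isTab 31671 sigTabs spiderBase spiderTab) = true :=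
  allFrom_add (b := 30000) (c := 1000) spider_tabto29 spider_tab30

theorem spider_tab_all : allFrom 0 31671 (isTab 31671 sigTabs spiderBase spiderTab) = true :=
  allFrom_add (b := 31000) (c := 671) spider_tabto30 spider_tab31

theorem spider_pow0 : allFrom 0 1000 (iterIs 10 spiderTab id) = true := by decide +kernel

theorem spider_pow1 : allFrom 1000 1000 (iterIs 10 spiderTab id) = true := by decide +kernel

theorem spider_pow2 : allFrom 2000 1000 (iterIs 10 spiderTab id) = true := by decide +kernel

theorem spider_pow3 : allFrom 3000 1000 (iterIs 10 spiderTab id) = true := by decide +kernel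

theorem spider_pow4 : allFrom 4000 1000 (iterIs 10 spiderTab id) = true := by decide +kernel

theorem spider_pow5 : allFrom 5000 1000 (iterIs 10 spiderTab id) = true := by decide +kernel

theorem spider_pow6 : allFrom 6000 1000 (iterIs 10 spiderTab id) = true := by decide +kernel

theorem spider_pow7 : allFrom 7000 1000 (iterIs 10 spiderTab id) = true := by decide +kernel

theorem spider_pow8 : allFrom 8000 1000 (iterIs 10 spiderTab id) = true := by decide +kernel

theorem spider_pow9 : allFrom 9000 1000 (iterIs 10 spiderTab id) = true := by decide +kernel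

theorem spider_pow10 : allFrom 10000 1000 (iterIs 10 spiderTab id) = true := by decide +kernel

theorem spider_pow11 : allFrom 11000 1000 (iterIs 10 spiderTab id) = true := by decide +kernel

theorem spider_pow12 : allFrom 12000 1000 (iterIs 10 spiderTab id) = true := by decide +kernel

theorem spider_pow13 : allFrom 13000 1000 (iterIs 10 spiderTab id) = true := by decide +kernel

theorem spider_pow14 : allFrom 14000 1000 (iterIs 10 spiderTab id) = true := by decide +kernel

theorem spider_pow15 : allFrom 15000 1000 (iterIs 10 spiderTab id) = true := by decide +kernel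

theorem spider_pow16 : allFrom 16000 1000 (iterIs 10 spiderTab id) = true := by decide +kernel

theorem spider_pow17 : allFrom 17000 1000 (iterIs 10 spiderTab id) = true := by decide +kernel

theorem spider_pow18 : allFrom 18000 1000 (iterIs 10 spiderTab id) = true := by decide +kernel

theorem spider_pow19 : allFrom 19000 1000 (iterIs 10 spiderTab id) = true := by decide +kernel

theorem spider_pow20 : allFrom 20000 1000 (iterIs 10 spiderTab id) = true := by decide +kernel

theorem spider_pow21 : allFrom 21000 1000 (iterIs 10 spiderTab id) = true := by decide +kernel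

theorem spider_pow22 : allFrom 22000 1000 (iterIs 10 spiderTab id) = true := by decide +kernel

theorem spider_pow23 : allFrom 23000 1000 (iterIs 10 spiderTab id) = true := by decide +kernel

theorem spider_pow24 : allFrom 24000 1000 (iterIs 10 spiderTab id) = true := by decide +kernel

theorem spider_pow25 : allFrom 25000 1000 (iterIs 10 spiderTab id) = true := by decide +kernel

theorem spider_pow26 : allFrom 26000 1000 (iterIs 10 spiderTab id) = true := by decide +kernel

theorem spider_pow27 : allFrom 27000 1000 (iterIs 10 spiderTab id) = true := by decide +kernel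

theorem spider_pow28 : allFrom 28000 1000 (iterIs 10 spiderTab id) = true := by decide +kernel

theorem spider_pow29 : allFrom 29000 1000 (iterIs 10 spiderTab id) = true := by decide +kernel

theorem spider_pow30 : allFrom 30000 1000 (iterIs 10 spiderTab id) = true := by decide +kernel

theorem spider_pow31 : allFrom 31000 671 (iterIs 10 spiderTab id) = true := by decide +kernel

theorem spider_powto1 : allFrom 0 2000 (iterIs 10 spiderTab id) = true :=
  allFrom_add (b := 1000) (c := 1000) spider_pow0 spider_pow1

theorem spider_powto2 : allFrom 0 3000 (iterIs 10 spiderTab id) = true :=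
  allFrom_add (b := 2000) (c := 1000) spider_powto1 spider_pow2

theorem spider_powto3 : allFrom 0 4000 (iterIs 10 spiderTab id) = true :=
  allFrom_add (b := 3000) (c := 1000) spider_powto2 spider_pow3

theorem spider_powto4 : allFrom 0 5000 (iterIs 10 spiderTab id) = true :=
  allFrom_add (b := 4000) (c := 1000) spider_powto3 spider_pow4

theorem spider_powto5 : allFrom 0 6000 (iterIs 10 spiderTab id) = true :=
  allFrom_add (b := 5000) (c := 1000) spider_powto4 spider_pow5

theorem spider_powto6 : allFrom 0 7000 (iterIs 10 spiderTab id) = true :=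
  allFrom_add (b := 6000) (c := 1000) spider_powto5 spider_pow6

theorem spider_powto7 : allFrom 0 8000 (iterIs 10 spiderTab id) = true :=
  allFrom_add (b := 7000) (c := 1000) spider_powto6 spider_pow7

theorem spider_powto8 : allFrom 0 9000 (iterIs 10 spiderTab id) = true :=
  allFrom_add (b := 8000) (c := 1000) spider_powto7 spider_pow8

theorem spider_powto9 : allFrom 0 10000 (iterIs 10 spiderTab id) = true :=
  allFrom_add (b := 9000) (c := 1000) spider_powto8 spider_pow9

theorem spider_powto10 : allFrom 0 11000 (iterIs 10 spiderTab id) = true :=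
  allFrom_add (b := 10000) (c := 1000) spider_powto9 spider_pow10

theorem spider_powto11 : allFrom 0 12000 (iterIs 10 spiderTab id) = true :=
  allFrom_add (b := 11000) (c := 1000) spider_powto10 spider_pow11

theorem spider_powto12 : allFrom 0 13000 (iterIs 10 spiderTab id) = true :=
  allFrom_add (b := 12000) (c := 1000) spider_powto11 spider_pow12

theorem spider_powto13 : allFrom 0 14000 (iterIs 10 spiderTab id) = true :=
  allFrom_add (b := 13000) (c := 1000) spider_powto12 spider_pow13

theorem spider_powto14 : allFrom 0 15000 (iterIs 10 spiderTab id) = true :=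
  allFrom_add (b := 14000) (c := 1000) spider_powto13 spider_pow14

theorem spider_powto15 : allFrom 0 16000 (iterIs 10 spiderTab id) = true :=
  allFrom_add (b := 15000) (c := 1000) spider_powto14 spider_pow15

theorem spider_powto16 : allFrom 0 17000 (iterIs 10 spiderTab id) = true :=
  allFrom_add (b := 16000) (c := 1000) spider_powto15 spider_pow16

theorem spider_powto17 : allFrom 0 18000 (iterIs 10 spiderTab id) = true :=
  allFrom_add (b := 17000) (c := 1000) spider_powto16 spider_pow17

theorem spider_powto18 : allFrom 0 19000 (iterIs 10 spiderTab id) = true :=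
  allFrom_add (b := 18000) (c := 1000) spider_powto17 spider_pow18

theorem spider_powto19 : allFrom 0 20000 (iterIs 10 spiderTab id) = true :=
  allFrom_add (b := 19000) (c := 1000) spider_powto18 spider_pow19

theorem spider_powto20 : allFrom 0 21000 (iterIs 10 spiderTab id) = true :=
  allFrom_add (b := 20000) (c := 1000) spider_powto19 spider_pow20

theorem spider_powto21 : allFrom 0 22000 (iterIs 10 spiderTab id) = true :=
  allFrom_add (b := 21000) (c := 1000) spider_powto20 spider_pow21

theorem spider_powto22 : allFrom 0 23000 (iterIs 10 spiderTab id) = true :=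
  allFrom_add (b := 22000) (c := 1000) spider_powto21 spider_pow22

theorem spider_powto23 : allFrom 0 24000 (iterIs 10 spiderTab id) = true :=
  allFrom_add (b := 23000) (c := 1000) spider_powto22 spider_pow23

theorem spider_powto24 : allFrom 0 25000 (iterIs 10 spiderTab id) = true :=
  allFrom_add (b := 24000) (c := 1000) spider_powto23 spider_pow24

theorem spider_powto25 : allFrom 0 26000 (iterIs 10 spiderTab id) = true :=
  allFrom_add (b := 25000) (c := 1000) spider_powto24 spider_pow25

theorem spider_powto26 : allFrom 0 27000 (iterIs 10 spiderTab id) = true :=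
  allFrom_add (b := 26000) (c := 1000) spider_powto25 spider_pow26

theorem spider_powto27 : allFrom 0 28000 (iterIs 10 spiderTab id) = true :=
  allFrom_add (b := 27000) (c := 1000) spider_powto26 spider_pow27

theorem spider_powto28 : allFrom 0 29000 (iterIs 10 spiderTab id) = true :=
  allFrom_add (b := 28000) (c := 1000) spider_powto27 spider_pow28

theorem spider_powto29 : allFrom 0 30000 (iterIs 10 spiderTab id) = true :=
  allFrom_add (b := 29000) (c := 1000) spider_powto28 spider_pow29

theorem spider_powto30 : allFrom 0 31000 (iterIs 10 spiderTab id) = true :=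
  allFrom_add (b := 30000) (c := 1000) spider_powto29 spider_pow30

theorem spider_pow_all : allFrom 0 31671 (iterIs 10 spiderTab id) = true :=
  allFrom_add (b := 31000) (c := 671) spider_powto30 spider_pow31

theorem cox_tab0 : allFrom 0 1000 (isTab 31671 sigTabs coxBase coxTab) = true := by decide +kernel

theorem cox_tab1 : allFrom 1000 1000 (isTab 31671 sigTabs coxBase coxTab) = true := by decide +kernel

theorem cox_tab2 : allFrom 2000 1000 (isTab 31671 sigTabs coxBase coxTab) = true := by decide +kernel

theorem cox_tab3 : allFrom 3000 1000 (isTab 31671 sigTabs coxBase coxTab) = true := by decide +kernel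

theorem cox_tab4 : allFrom 4000 1000 (isTab 31671 sigTabs coxBase coxTab) = true := by decide +kernel

theorem cox_tab5 : allFrom 5000 1000 (isTab 31671 sigTabs coxBase coxTab) = true := by decide +kernel

theorem cox_tab6 : allFrom 6000 1000 (isTab 31671 sigTabs coxBase coxTab) = true := by decide +kernel

theorem cox_tab7 : allFrom 7000 1000 (isTab 31671 sigTabs coxBase coxTab) = true := by decide +kernel

theorem cox_tab8 : allFrom 8000 1000 (isTab 31671 sigTabs coxBase coxTab) = true := by decide +kernel

theorem cox_tab9 : allFrom 9000 1000 (isTab 31671 sigTabs coxBase coxTab) = true := by decide +kernel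

theorem cox_tab10 : allFrom 10000 1000 (isTab 31671 sigTabs coxBase coxTab) = true := by decide +kernel

theorem cox_tab11 : allFrom 11000 1000 (isTab 31671 sigTabs coxBase coxTab) = true := by decide +kernel

theorem cox_tab12 : allFrom 12000 1000 (isTab 31671 sigTabs coxBase coxTab) = true := by decide +kernel

theorem cox_tab13 : allFrom 13000 1000 (isTab 31671 sigTabs coxBase coxTab) = true := by decide +kernel

theorem cox_tab14 : allFrom 14000 1000 (isTab 31671 sigTabs coxBase coxTab) = true := by decide +kernel

theorem cox_tab15 : allFrom 15000 1000 (isTab 31671 sigTabs coxBase coxTab) = true := by decide +kernel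

theorem cox_tab16 : allFrom 16000 1000 (isTab 31671 sigTabs coxBase coxTab) = true := by decide +kernel

theorem cox_tab17 : allFrom 17000 1000 (isTab 31671 sigTabs coxBase coxTab) = true := by decide +kernel

theorem cox_tab18 : allFrom 18000 1000 (isTab 31671 sigTabs coxBase coxTab) = true := by decide +kernel

theorem cox_tab19 : allFrom 19000 1000 (isTab 31671 sigTabs coxBase coxTab) = true := by decide +kernel

theorem cox_tab20 : allFrom 20000 1000 (isTab 31671 sigTabs coxBase coxTab) = true := by decide +kernel

theorem cox_tab21 : allFrom 21000 1000 (isTab 31671 sigTabs coxBase coxTab) = true := by decide +kernel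

theorem cox_tab22 : allFrom 22000 1000 (isTab 31671 sigTabs coxBase coxTab) = true := by decide +kernel

theorem cox_tab23 : allFrom 23000 1000 (isTab 31671 sigTabs coxBase coxTab) = true := by decide +kernel

theorem cox_tab24 : allFrom 24000 1000 (isTab 31671 sigTabs coxBase coxTab) = true := by decide +kernel

theorem cox_tab25 : allFrom 25000 1000 (isTab 31671 sigTabs coxBase coxTab) = true := by decide +kernel

theorem cox_tab26 : allFrom 26000 1000 (isTab 31671 sigTabs coxBase coxTab) = true := by decide +kernel

theorem cox_tab27 : allFrom 27000 1000 (isTab 31671 sigTabs coxBase coxTab) = true := by decide +kernel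

theorem cox_tab28 : allFrom 28000 1000 (isTab 31671 sigTabs coxBase coxTab) = true := by decide +kernel

theorem cox_tab29 : allFrom 29000 1000 (isTab 31671 sigTabs coxBase coxTab) = true := by decide +kernel

theorem cox_tab30 : allFrom 30000 1000 (isTab 31671 sigTabs coxBase coxTab) = true := by decide +kernel

theorem cox_tab31 : allFrom 31000 671 (isTab 31671 sigTabs coxBase coxTab) = true := by decide +kernel

theorem cox_tabto1 : allFrom 0 2000 (isTab 31671 sigTabs coxBase coxTab) = true :=
  allFrom_add (b := 1000) (c := 1000) cox_tab0 cox_tab1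

theorem cox_tabto2 : allFrom 0 3000 (isTab 31671 sigTabs coxBase coxTab) = true :=
  allFrom_add (b := 2000) (c := 1000) cox_tabto1 cox_tab2

theorem cox_tabto3 : allFrom 0 4000 (isTab 31671 sigTabs coxBase coxTab) = true :=
  allFrom_add (b := 3000) (c := 1000) cox_tabto2 cox_tab3

theorem cox_tabto4 : allFrom 0 5000 (isTab 31671 sigTabs coxBase coxTab) = true :=
  allFrom_add (b := 4000) (c := 1000) cox_tabto3 cox_tab4

theorem cox_tabto5 : allFrom 0 6000 (isTab 31671 sigTabs coxBase coxTab) = true :=
  allFrom_add (b := 5000) (c := 1000) cox_tabto4 cox_tab5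

theorem cox_tabto6 : allFrom 0 7000 (isTab 31671 sigTabs coxBase coxTab) = true :=
  allFrom_add (b := 6000) (c := 1000) cox_tabto5 cox_tab6

theorem cox_tabto7 : allFrom 0 8000 (isTab 31671 sigTabs coxBase coxTab) = true :=
  allFrom_add (b := 7000) (c := 1000) cox_tabto6 cox_tab7

theorem cox_tabto8 : allFrom 0 9000 (isTab 31671 sigTabs coxBase coxTab) = true :=
  allFrom_add (b := 8000) (c := 1000) cox_tabto7 cox_tab8

theorem cox_tabto9 : allFrom 0 10000 (isTab 31671 sigTabs coxBase coxTab) = true :=
  allFrom_add (b := 9000) (c := 1000) cox_tabto8 cox_tab9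

theorem cox_tabto10 : allFrom 0 11000 (isTab 31671 sigTabs coxBase coxTab) = true :=
  allFrom_add (b := 10000) (c := 1000) cox_tabto9 cox_tab10

theorem cox_tabto11 : allFrom 0 12000 (isTab 31671 sigTabs coxBase coxTab) = true :=
  allFrom_add (b := 11000) (c := 1000) cox_tabto10 cox_tab11

theorem cox_tabto12 : allFrom 0 13000 (isTab 31671 sigTabs coxBase coxTab) = true :=
  allFrom_add (b := 12000) (c := 1000) cox_tabto11 cox_tab12

theorem cox_tabto13 : allFrom 0 14000 (isTab 31671 sigTabs coxBase coxTab) = true :=
  allFrom_add (b := 13000) (c := 1000) cox_tabto12 cox_tab13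

theorem cox_tabto14 : allFrom 0 15000 (isTab 31671 sigTabs coxBase coxTab) = true :=
  allFrom_add (b := 14000) (c := 1000) cox_tabto13 cox_tab14

theorem cox_tabto15 : allFrom 0 16000 (isTab 31671 sigTabs coxBase coxTab) = true :=
  allFrom_add (b := 15000) (c := 1000) cox_tabto14 cox_tab15

theorem cox_tabto16 : allFrom 0 17000 (isTab 31671 sigTabs coxBase coxTab) = true :=
  allFrom_add (b := 16000) (c := 1000) cox_tabto15 cox_tab16

theorem cox_tabto17 : allFrom 0 18000 (isTab 31671 sigTabs coxBase coxTab) = true :=
  allFrom_add (b := 17000) (c := 1000) cox_tabto16 cox_tab17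

theorem cox_tabto18 : allFrom 0 19000 (isTab 31671 sigTabs coxBase coxTab) = true :=
  allFrom_add (b := 18000) (c := 1000) cox_tabto17 cox_tab18

theorem cox_tabto19 : allFrom 0 20000 (isTab 31671 sigTabs coxBase coxTab) = true :=
  allFrom_add (b := 19000) (c := 1000) cox_tabto18 cox_tab19

theorem cox_tabto20 : allFrom 0 21000 (isTab 31671 sigTabs coxBase coxTab) = true :=
  allFrom_add (b := 20000) (c := 1000) cox_tabto19 cox_tab20

theorem cox_tabto21 : allFrom 0 22000 (isTab 31671 sigTabs coxBase coxTab) = true :=
  allFrom_add (b := 21000) (c := 1000) cox_tabto20 cox_tab21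

theorem cox_tabto22 : allFrom 0 23000 (isTab 31671 sigTabs coxBase coxTab) = true :=
  allFrom_add (b := 22000) (c := 1000) cox_tabto21 cox_tab22

theorem cox_tabto23 : allFrom 0 24000 (isTab 31671 sigTabs coxBase coxTab) = true :=
  allFrom_add (b := 23000) (c := 1000) cox_tabto22 cox_tab23

theorem cox_tabto24 : allFrom 0 25000 (isTab 31671 sigTabs coxBase coxTab) = true :=
  allFrom_add (b := 24000) (c := 1000) cox_tabto23 cox_tab24

theorem cox_tabto25 : allFrom 0 26000 (isTab 31671 sigTabs coxBase coxTab) = true :=
  allFrom_add (b := 25000) (c := 1000) cox_tabto24 cox_tab25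

theorem cox_tabto26 : allFrom 0 27000 (isTab 31671 sigTabs coxBase coxTab) = true :=
  allFrom_add (b := 26000) (c := 1000) cox_tabto25 cox_tab26

theorem cox_tabto27 : allFrom 0 28000 (isTab 31671 sigTabs coxBase coxTab) = true :=
  allFrom_add (b := 27000) (c := 1000) cox_tabto26 cox_tab27

theorem cox_tabto28 : allFrom 0 29000 (isTab 31671 sigTabs coxBase coxTab) = true :=
  allFrom_add (b := 28000) (c := 1000) cox_tabto27 cox_tab28

theorem cox_tabto29 : allFrom 0 30000 (isTab 31671 sigTabs coxBase coxTab) = true :=
  allFrom_add (b := 29000) (c := 1000) cox_tabto28 cox_tab29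

theorem cox_tabto30 : allFrom 0 31000 (isTab 31671 sigTabs coxBase coxTab) = true :=
  allFrom_add (b := 30000) (c := 1000) cox_tabto29 cox_tab30

theorem cox_tab_all : allFrom 0 31671 (isTab 31671 sigTabs coxBase coxTab) = true :=
  allFrom_add (b := 31000) (c := 671) cox_tabto30 cox_tab31

theorem cox_pow0 : allFrom 0 1000 (iterIs 9 coxTab id) = true := by decide +kernel

theorem cox_pow1 : allFrom 1000 1000 (iterIs 9 coxTab id) = true := by decide +kernel

theorem cox_pow2 : allFrom 2000 1000 (iterIs 9 coxTab id) = true := by decide +kernel

theorem cox_pow3 : allFrom 3000 1000 (iterIs 9 coxTab id) = true := by decide +kernel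

theorem cox_pow4 : allFrom 4000 1000 (iterIs 9 coxTab id) = true := by decide +kernel

theorem cox_pow5 : allFrom 5000 1000 (iterIs 9 coxTab id) = true := by decide +kernel

theorem cox_pow6 : allFrom 6000 1000 (iterIs 9 coxTab id) = true := by decide +kernel

theorem cox_pow7 : allFrom 7000 1000 (iterIs 9 coxTab id) = true := by decide +kernel

theorem cox_pow8 : allFrom 8000 1000 (iterIs 9 coxTab id) = true := by decide +kernel

theorem cox_pow9 : allFrom 9000 1000 (iterIs 9 coxTab id) = true := by decide +kernel

theorem cox_pow10 : allFrom 10000 1000 (iterIs 9 coxTab id) = true := by decide +kernel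

theorem cox_pow11 : allFrom 11000 1000 (iterIs 9 coxTab id) = true := by decide +kernel

theorem cox_pow12 : allFrom 12000 1000 (iterIs 9 coxTab id) = true := by decide +kernel

theorem cox_pow13 : allFrom 13000 1000 (iterIs 9 coxTab id) = true := by decide +kernel

theorem cox_pow14 : allFrom 14000 1000 (iterIs 9 coxTab id) = true := by decide +kernel

theorem cox_pow15 : allFrom 15000 1000 (iterIs 9 coxTab id) = true := by decide +kernel

theorem cox_pow16 : allFrom 16000 1000 (iterIs 9 coxTab id) = true := by decide +kernel

theorem cox_pow17 : allFrom 17000 1000 (iterIs 9 coxTab id) = true := by decide +kernel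

theorem cox_pow18 : allFrom 18000 1000 (iterIs 9 coxTab id) = true := by decide +kernel

theorem cox_pow19 : allFrom 19000 1000 (iterIs 9 coxTab id) = true := by decide +kernel

theorem cox_pow20 : allFrom 20000 1000 (iterIs 9 coxTab id) = true := by decide +kernel

theorem cox_pow21 : allFrom 21000 1000 (iterIs 9 coxTab id) = true := by decide +kernel

theorem cox_pow22 : allFrom 22000 1000 (iterIs 9 coxTab id) = true := by decide +kernel

theorem cox_pow23 : allFrom 23000 1000 (iterIs 9 coxTab id) = true := by decide +kernel

theorem cox_pow24 : allFrom 24000 1000 (iterIs 9 coxTab id) = true := by decide +kernel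

theorem cox_pow25 : allFrom 25000 1000 (iterIs 9 coxTab id) = true := by decide +kernel

theorem cox_pow26 : allFrom 26000 1000 (iterIs 9 coxTab id) = true := by decide +kernel

theorem cox_pow27 : allFrom 27000 1000 (iterIs 9 coxTab id) = true := by decide +kernel

theorem cox_pow28 : allFrom 28000 1000 (iterIs 9 coxTab id) = true := by decide +kernel

theorem cox_pow29 : allFrom 29000 1000 (iterIs 9 coxTab id) = true := by decide +kernel

theorem cox_pow30 : allFrom 30000 1000 (iterIs 9 coxTab id) = true := by decide +kernel

theorem cox_pow31 : allFrom 31000 671 (iterIs 9 coxTab id) = true := by decide +kernel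

theorem cox_powto1 : allFrom 0 2000 (iterIs 9 coxTab id) = true :=
  allFrom_add (b := 1000) (c := 1000) cox_pow0 cox_pow1

theorem cox_powto2 : allFrom 0 3000 (iterIs 9 coxTab id) = true :=
  allFrom_add (b := 2000) (c := 1000) cox_powto1 cox_pow2

theorem cox_powto3 : allFrom 0 4000 (iterIs 9 coxTab id) = true :=
  allFrom_add (b := 3000) (c := 1000) cox_powto2 cox_pow3

theorem cox_powto4 : allFrom 0 5000 (iterIs 9 coxTab id) = true :=
  allFrom_add (b := 4000) (c := 1000) cox_powto3 cox_pow4

theorem cox_powto5 : allFrom 0 6000 (iterIs 9 coxTab id) = true :=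
  allFrom_add (b := 5000) (c := 1000) cox_powto4 cox_pow5

theorem cox_powto6 : allFrom 0 7000 (iterIs 9 coxTab id) = true :=
  allFrom_add (b := 6000) (c := 1000) cox_powto5 cox_pow6

theorem cox_powto7 : allFrom 0 8000 (iterIs 9 coxTab id) = true :=
  allFrom_add (b := 7000) (c := 1000) cox_powto6 cox_pow7

theorem cox_powto8 : allFrom 0 9000 (iterIs 9 coxTab id) = true :=
  allFrom_add (b := 8000) (c := 1000) cox_powto7 cox_pow8

theorem cox_powto9 : allFrom 0 10000 (iterIs 9 coxTab id) = true :=
  allFrom_add (b := 9000) (c := 1000) cox_powto8 cox_pow9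

theorem cox_powto10 : allFrom 0 11000 (iterIs 9 coxTab id) = true :=
  allFrom_add (b := 10000) (c := 1000) cox_powto9 cox_pow10

theorem cox_powto11 : allFrom 0 12000 (iterIs 9 coxTab id) = true :=
  allFrom_add (b := 11000) (c := 1000) cox_powto10 cox_pow11

theorem cox_powto12 : allFrom 0 13000 (iterIs 9 coxTab id) = true :=
  allFrom_add (b := 12000) (c := 1000) cox_powto11 cox_pow12

theorem cox_powto13 : allFrom 0 14000 (iterIs 9 coxTab id) = true :=
  allFrom_add (b := 13000) (c := 1000) cox_powto12 cox_pow13

theorem cox_powto14 : allFrom 0 15000 (iterIs 9 coxTab id) = true :=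
  allFrom_add (b := 14000) (c := 1000) cox_powto13 cox_pow14

theorem cox_powto15 : allFrom 0 16000 (iterIs 9 coxTab id) = true :=
  allFrom_add (b := 15000) (c := 1000) cox_powto14 cox_pow15

theorem cox_powto16 : allFrom 0 17000 (iterIs 9 coxTab id) = true :=
  allFrom_add (b := 16000) (c := 1000) cox_powto15 cox_pow16

theorem cox_powto17 : allFrom 0 18000 (iterIs 9 coxTab id) = true :=
  allFrom_add (b := 17000) (c := 1000) cox_powto16 cox_pow17

theorem cox_powto18 : allFrom 0 19000 (iterIs 9 coxTab id) = true :=
  allFrom_add (b := 18000) (c := 1000) cox_powto17 cox_pow18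

theorem cox_powto19 : allFrom 0 20000 (iterIs 9 coxTab id) = true :=
  allFrom_add (b := 19000) (c := 1000) cox_powto18 cox_pow19

theorem cox_powto20 : allFrom 0 21000 (iterIs 9 coxTab id) = true :=
  allFrom_add (b := 20000) (c := 1000) cox_powto19 cox_pow20

theorem cox_powto21 : allFrom 0 22000 (iterIs 9 coxTab id) = true :=
  allFrom_add (b := 21000) (c := 1000) cox_powto20 cox_pow21

theorem cox_powto22 : allFrom 0 23000 (iterIs 9 coxTab id) = true :=
  allFrom_add (b := 22000) (c := 1000) cox_powto21 cox_pow22

theorem cox_powto23 : allFrom 0 24000 (iterIs 9 coxTab id) = true :=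
  allFrom_add (b := 23000) (c := 1000) cox_powto22 cox_pow23

theorem cox_powto24 : allFrom 0 25000 (iterIs 9 coxTab id) = true :=
  allFrom_add (b := 24000) (c := 1000) cox_powto23 cox_pow24

theorem cox_powto25 : allFrom 0 26000 (iterIs 9 coxTab id) = true :=
  allFrom_add (b := 25000) (c := 1000) cox_powto24 cox_pow25

theorem cox_powto26 : allFrom 0 27000 (iterIs 9 coxTab id) = true :=
  allFrom_add (b := 26000) (c := 1000) cox_powto25 cox_pow26

theorem cox_powto27 : allFrom 0 28000 (iterIs 9 coxTab id) = true :=
  allFrom_add (b := 27000) (c := 1000) cox_powto26 cox_pow27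

theorem cox_powto28 : allFrom 0 29000 (iterIs 9 coxTab id) = true :=
  allFrom_add (b := 28000) (c := 1000) cox_powto27 cox_pow28

theorem cox_powto29 : allFrom 0 30000 (iterIs 9 coxTab id) = true :=
  allFrom_add (b := 29000) (c := 1000) cox_powto28 cox_pow29

theorem cox_powto30 : allFrom 0 31000 (iterIs 9 coxTab id) = true :=
  allFrom_add (b := 30000) (c := 1000) cox_powto29 cox_pow30

theorem cox_pow_all : allFrom 0 31671 (iterIs 9 coxTab id) = true :=
  allFrom_add (b := 31000) (c := 671) cox_powto30 cox_pow31

end Cfsg.Lib.FiTwenty
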