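import Cfsg.Agent.FiTwenty.ActTests

/-!
A product of two joined conjugates.
-/

set_option autoImplicit false
set_option Elab.async false

namespace Cfsg.Lib.FiTwenty

open Cfsg.Lib.CosetCert Cfsg.Lib.PermCert

theorem far_0 : allFrom 0 1000 (fun p => evalP sigTabs (rpt 3 farProd) p == p) = true := by decide +kernel

theorem far_1 : allFrom 1000 1000 (fun p => evalP sigTabs (rpt 3 farProd) p == p) = true := by decide +kernel

theorem far_2 : allFrom 2000 1000 (fun p => evalP sigTabs (rpt 3 farProd) p == p) = true := by decide +kernel

theorem far_3 : allFrom 3000 1000 (fun p => evalP sigTabs (rpt 3 farProd) p == p) = true := by decide +kernel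

theorem far_4 : allFrom 4000 1000 (fun p => evalP sigTabs (rpt 3 farProd) p == p) = true := by decide +kernel

theorem far_5 : allFrom 5000 1000 (fun p => evalP sigTabs (rpt 3 farProd) p == p) = true := by decide +kernel

theorem far_6 : allFrom 6000 1000 (fun p => evalP sigTabs (rpt 3 farProd) p == p) = true := by decide +kernel

theorem far_7 : allFrom 7000 1000 (fun p => evalP sigTabs (rpt 3 farProd) p == p) = true := by decide +kernel

theorem far_8 : allFrom 8000 1000 (fun p => evalP sigTabs (rpt 3 farProd) p == p) = true := by decide +kernel

theorem far_9 : allFrom 9000 1000 (fun p => evalP sigTabs (rpt 3 farProd) p == p) = true := by decide +kernel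

theorem far_10 : allFrom 10000 1000 (fun p => evalP sigTabs (rpt 3 farProd) p == p) = true := by decide +kernel

theorem far_11 : allFrom 11000 1000 (fun p => evalP sigTabs (rpt 3 farProd) p == p) = true := by decide +kernel

theorem far_12 : allFrom 12000 1000 (fun p => evalP sigTabs (rpt 3 farProd) p == p) = true := by decide +kernel

theorem far_13 : allFrom 13000 1000 (fun p => evalP sigTabs (rpt 3 farProd) p == p) = true := by decide +kernel

theorem far_14 : allFrom 14000 1000 (fun p => evalP sigTabs (rpt 3 farProd) p == p) = true := by decide +kernel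

theorem far_15 : allFrom 15000 1000 (fun p => evalP sigTabs (rpt 3 farProd) p == p) = true := by decide +kernel

theorem far_16 : allFrom 16000 1000 (fun p => evalP sigTabs (rpt 3 farProd) p == p) = true := by decide +kernel

theorem far_17 : allFrom 17000 1000 (fun p => evalP sigTabs (rpt 3 farProd) p == p) = true := by decide +kernel

theorem far_18 : allFrom 18000 1000 (fun p => evalP sigTabs (rpt 3 farProd) p == p) = true := by decide +kernel

theorem far_19 : allFrom 19000 1000 (fun p => evalP sigTabs (rpt 3 farProd) p == p) = true := by decide +kernel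

theorem far_20 : allFrom 20000 1000 (fun p => evalP sigTabs (rpt 3 farProd) p == p) = true := by decide +kernel

theorem far_21 : allFrom 21000 1000 (fun p => evalP sigTabs (rpt 3 farProd) p == p) = true := by decide +kernel

theorem far_22 : allFrom 22000 1000 (fun p => evalP sigTabs (rpt 3 farProd) p == p) = true := by decide +kernel

theorem far_23 : allFrom 23000 1000 (fun p => evalP sigTabs (rpt 3 farProd) p == p) = true := by decide +kernel

theorem far_24 : allFrom 24000 1000 (fun p => evalP sigTabs (rpt 3 farProd) p == p) = true := by decide +kernel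

theorem far_25 : allFrom 25000 1000 (fun p => evalP sigTabs (rpt 3 farProd) p == p) = true := by decide +kernel

theorem far_26 : allFrom 26000 1000 (fun p => evalP sigTabs (rpt 3 farProd) p == p) = true := by decide +kernel

theorem far_27 : allFrom 27000 1000 (fun p => evalP sigTabs (rpt 3 farProd) p == p) = true := by decide +kernel

theorem far_28 : allFrom 28000 1000 (fun p => evalP sigTabs (rpt 3 farProd) p == p) = true := by decide +kernel

theorem far_29 : allFrom 29000 1000 (fun p => evalP sigTabs (rpt 3 farProd) p == p) = true := by decide +kernel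

theorem far_30 : allFrom 30000 1000 (fun p => evalP sigTabs (rpt 3 farProd) p == p) = true := by decide +kernel

theorem far_31 : allFrom 31000 671 (fun p => evalP sigTabs (rpt 3 farProd) p == p) = true := by decide +kernel

theorem far_to1 : allFrom 0 2000 (fun p => evalP sigTabs (rpt 3 farProd) p == p) = true :=
  allFrom_add (b := 1000) (c := 1000) far_0 far_1

theorem far_to2 : allFrom 0 3000 (fun p => evalP sigTabs (rpt 3 farProd) p == p) = true :=
  allFrom_add (b := 2000) (c := 1000) far_to1 far_2

theorem far_to3 : allFrom 0 4000 (fun p => evalP sigTabs (rpt 3 farProd) p == p) = true :=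
  allFrom_add (b := 3000) (c := 1000) far_to2 far_3

theorem far_to4 : allFrom 0 5000 (fun p => evalP sigTabs (rpt 3 farProd) p == p) = true :=
  allFrom_add (b := 4000) (c := 1000) far_to3 far_4

theorem far_to5 : allFrom 0 6000 (fun p => evalP sigTabs (rpt 3 farProd) p == p) = true :=
  allFrom_add (b := 5000) (c := 1000) far_to4 far_5

theorem far_to6 : allFrom 0 7000 (fun p => evalP sigTabs (rpt 3 farProd) p == p) = true :=
  allFrom_add (b := 6000) (c := 1000) far_to5 far_6

theorem far_to7 : allFrom 0 8000 (fun p => evalP sigTabs (rpt 3 farProd) p == p) = true :=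
  allFrom_add (b := 7000) (c := 1000) far_to6 far_7

theorem far_to8 : allFrom 0 9000 (fun p => evalP sigTabs (rpt 3 farProd) p == p) = true :=
  allFrom_add (b := 8000) (c := 1000) far_to7 far_8

theorem far_to9 : allFrom 0 10000 (fun p => evalP sigTabs (rpt 3 farProd) p == p) = true :=
  allFrom_add (b := 9000) (c := 1000) far_to8 far_9

theorem far_to10 : allFrom 0 11000 (fun p => evalP sigTabs (rpt 3 farProd) p == p) = true :=
  allFrom_add (b := 10000) (c := 1000) far_to9 far_10

theorem far_to11 : allFrom 0 12000 (fun p => evalP sigTabs (rpt 3 farProd) p == p) = true :=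
  allFrom_add (b := 11000) (c := 1000) far_to10 far_11

theorem far_to12 : allFrom 0 13000 (fun p => evalP sigTabs (rpt 3 farProd) p == p) = true :=
  allFrom_add (b := 12000) (c := 1000) far_to11 far_12

theorem far_to13 : allFrom 0 14000 (fun p => evalP sigTabs (rpt 3 farProd) p == p) = true :=
  allFrom_add (b := 13000) (c := 1000) far_to12 far_13

theorem far_to14 : allFrom 0 15000 (fun p => evalP sigTabs (rpt 3 farProd) p == p) = true :=
  allFrom_add (b := 14000) (c := 1000) far_to13 far_14

theorem far_to15 : allFrom 0 16000 (fun p => evalP sigTabs (rpt 3 farProd) p == p) = true :=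
  allFrom_add (b := 15000) (c := 1000) far_to14 far_15

theorem far_to16 : allFrom 0 17000 (fun p => evalP sigTabs (rpt 3 farProd) p == p) = true :=
  allFrom_add (b := 16000) (c := 1000) far_to15 far_16

theorem far_to17 : allFrom 0 18000 (fun p => evalP sigTabs (rpt 3 farProd) p == p) = true :=
  allFrom_add (b := 17000) (c := 1000) far_to16 far_17

theorem far_to18 : allFrom 0 19000 (fun p => evalP sigTabs (rpt 3 farProd) p == p) = true :=
  allFrom_add (b := 18000) (c := 1000) far_to17 far_18

theorem far_to19 : allFrom 0 20000 (fun p => evalP sigTabs (rpt 3 farProd) p == p) = true :=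
  allFrom_add (b := 19000) (c := 1000) far_to18 far_19

theorem far_to20 : allFrom 0 21000 (fun p => evalP sigTabs (rpt 3 farProd) p == p) = true :=
  allFrom_add (b := 20000) (c := 1000) far_to19 far_20

theorem far_to21 : allFrom 0 22000 (fun p => evalP sigTabs (rpt 3 farProd) p == p) = true :=
  allFrom_add (b := 21000) (c := 1000) far_to20 far_21

theorem far_to22 : allFrom 0 23000 (fun p => evalP sigTabs (rpt 3 farProd) p == p) = true :=
  allFrom_add (b := 22000) (c := 1000) far_to21 far_22

theorem far_to23 : allFrom 0 24000 (fun p => evalP sigTabs (rpt 3 farProd) p == p) = true :=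
  allFrom_add (b := 23000) (c := 1000) far_to22 far_23

theorem far_to24 : allFrom 0 25000 (fun p => evalP sigTabs (rpt 3 farProd) p == p) = true :=
  allFrom_add (b := 24000) (c := 1000) far_to23 far_24

theorem far_to25 : allFrom 0 26000 (fun p => evalP sigTabs (rpt 3 farProd) p == p) = true :=
  allFrom_add (b := 25000) (c := 1000) far_to24 far_25

theorem far_to26 : allFrom 0 27000 (fun p => evalP sigTabs (rpt 3 farProd) p == p) = true :=
  allFrom_add (b := 26000) (c := 1000) far_to25 far_26

theorem far_to27 : allFrom 0 28000 (fun p => evalP sigTabs (rpt 3 farProd) p == p) = true :=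
  allFrom_add (b := 27000) (c := 1000) far_to26 far_27

theorem far_to28 : allFrom 0 29000 (fun p => evalP sigTabs (rpt 3 farProd) p == p) = true :=
  allFrom_add (b := 28000) (c := 1000) far_to27 far_28

theorem far_to29 : allFrom 0 30000 (fun p => evalP sigTabs (rpt 3 farProd) p == p) = true :=
  allFrom_add (b := 29000) (c := 1000) far_to28 far_29

theorem far_to30 : allFrom 0 31000 (fun p => evalP sigTabs (rpt 3 farProd) p == p) = true :=
  allFrom_add (b := 30000) (c := 1000) far_to29 far_30

theorem far__all : allFrom 0 31671 (fun p => evalP sigTabs (rpt 3 farProd) p == p) = true :=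
  allFrom_add (b := 31000) (c := 671) far_to30 far_31

end Cfsg.Lib.FiTwenty
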