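import Cfsg.Agent.FiTwenty.ActTests

/-!
A product of two commuting conjugates.
-/

set_option autoImplicit false
set_option Elab.async false

namespace Cfsg.Lib.FiTwenty

open Cfsg.Lib.CosetCert Cfsg.Lib.PermCert

theorem near_0 : allFrom 0 1000 (fun p => evalP sigTabs (rpt 2 nearProd) p == p) = true := by decide +kernel

theorem near_1 : allFrom 1000 1000 (fun p => evalP sigTabs (rpt 2 nearProd) p == p) = true := by decide +kernel

theorem near_2 : allFrom 2000 1000 (fun p => evalP sigTabs (rpt 2 nearProd) p == p) = true := by decide +kernel

theorem near_3 : allFrom 3000 1000 (fun p => evalP sigTabs (rpt 2 nearProd) p == p) = true := by decide +kernel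

theorem near_4 : allFrom 4000 1000 (fun p => evalP sigTabs (rpt 2 nearProd) p == p) = true := by decide +kernel

theorem near_5 : allFrom 5000 1000 (fun p => evalP sigTabs (rpt 2 nearProd) p == p) = true := by decide +kernel

theorem near_6 : allFrom 6000 1000 (fun p => evalP sigTabs (rpt 2 nearProd) p == p) = true := by decide +kernel

theorem near_7 : allFrom 7000 1000 (fun p => evalP sigTabs (rpt 2 nearProd) p == p) = true := by decide +kernel

theorem near_8 : allFrom 8000 1000 (fun p => evalP sigTabs (rpt 2 nearProd) p == p) = true := by decide +kernel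

theorem near_9 : allFrom 9000 1000 (fun p => evalP sigTabs (rpt 2 nearProd) p == p) = true := by decide +kernel

theorem near_10 : allFrom 10000 1000 (fun p => evalP sigTabs (rpt 2 nearProd) p == p) = true := by decide +kernel

theorem near_11 : allFrom 11000 1000 (fun p => evalP sigTabs (rpt 2 nearProd) p == p) = true := by decide +kernel

theorem near_12 : allFrom 12000 1000 (fun p => evalP sigTabs (rpt 2 nearProd) p == p) = true := by decide +kernel

theorem near_13 : allFrom 13000 1000 (fun p => evalP sigTabs (rpt 2 nearProd) p == p) = true := by decide +kernel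

theorem near_14 : allFrom 14000 1000 (fun p => evalP sigTabs (rpt 2 nearProd) p == p) = true := by decide +kernel

theorem near_15 : allFrom 15000 1000 (fun p => evalP sigTabs (rpt 2 nearProd) p == p) = true := by decide +kernel

theorem near_16 : allFrom 16000 1000 (fun p => evalP sigTabs (rpt 2 nearProd) p == p) = true := by decide +kernel

theorem near_17 : allFrom 17000 1000 (fun p => evalP sigTabs (rpt 2 nearProd) p == p) = true := by decide +kernel

theorem near_18 : allFrom 18000 1000 (fun p => evalP sigTabs (rpt 2 nearProd) p == p) = true := by decide +kernel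

theorem near_19 : allFrom 19000 1000 (fun p => evalP sigTabs (rpt 2 nearProd) p == p) = true := by decide +kernel

theorem near_20 : allFrom 20000 1000 (fun p => evalP sigTabs (rpt 2 nearProd) p == p) = true := by decide +kernel

theorem near_21 : allFrom 21000 1000 (fun p => evalP sigTabs (rpt 2 nearProd) p == p) = true := by decide +kernel

theorem near_22 : allFrom 22000 1000 (fun p => evalP sigTabs (rpt 2 nearProd) p == p) = true := by decide +kernel

theorem near_23 : allFrom 23000 1000 (fun p => evalP sigTabs (rpt 2 nearProd) p == p) = true := by decide +kernel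

theorem near_24 : allFrom 24000 1000 (fun p => evalP sigTabs (rpt 2 nearProd) p == p) = true := by decide +kernel

theorem near_25 : allFrom 25000 1000 (fun p => evalP sigTabs (rpt 2 nearProd) p == p) = true := by decide +kernel

theorem near_26 : allFrom 26000 1000 (fun p => evalP sigTabs (rpt 2 nearProd) p == p) = true := by decide +kernel

theorem near_27 : allFrom 27000 1000 (fun p => evalP sigTabs (rpt 2 nearProd) p == p) = true := by decide +kernel

theorem near_28 : allFrom 28000 1000 (fun p => evalP sigTabs (rpt 2 nearProd) p == p) = true := by decide +kernel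

theorem near_29 : allFrom 29000 1000 (fun p => evalP sigTabs (rpt 2 nearProd) p == p) = true := by decide +kernel

theorem near_30 : allFrom 30000 1000 (fun p => evalP sigTabs (rpt 2 nearProd) p == p) = true := by decide +kernel

theorem near_31 : allFrom 31000 671 (fun p => evalP sigTabs (rpt 2 nearProd) p == p) = true := by decide +kernel

theorem near_to1 : allFrom 0 2000 (fun p => evalP sigTabs (rpt 2 nearProd) p == p) = true :=
  allFrom_add (b := 1000) (c := 1000) near_0 near_1

theorem near_to2 : allFrom 0 3000 (fun p => evalP sigTabs (rpt 2 nearProd) p == p) = true :=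
  allFrom_add (b := 2000) (c := 1000) near_to1 near_2

theorem near_to3 : allFrom 0 4000 (fun p => evalP sigTabs (rpt 2 nearProd) p == p) = true :=
  allFrom_add (b := 3000) (c := 1000) near_to2 near_3

theorem near_to4 : allFrom 0 5000 (fun p => evalP sigTabs (rpt 2 nearProd) p == p) = true :=
  allFrom_add (b := 4000) (c := 1000) near_to3 near_4

theorem near_to5 : allFrom 0 6000 (fun p => evalP sigTabs (rpt 2 nearProd) p == p) = true :=
  allFrom_add (b := 5000) (c := 1000) near_to4 near_5

theorem near_to6 : allFrom 0 7000 (fun p => evalP sigTabs (rpt 2 nearProd) p == p) = true :=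
  allFrom_add (b := 6000) (c := 1000) near_to5 near_6

theorem near_to7 : allFrom 0 8000 (fun p => evalP sigTabs (rpt 2 nearProd) p == p) = true :=
  allFrom_add (b := 7000) (c := 1000) near_to6 near_7

theorem near_to8 : allFrom 0 9000 (fun p => evalP sigTabs (rpt 2 nearProd) p == p) = true :=
  allFrom_add (b := 8000) (c := 1000) near_to7 near_8

theorem near_to9 : allFrom 0 10000 (fun p => evalP sigTabs (rpt 2 nearProd) p == p) = true :=
  allFrom_add (b := 9000) (c := 1000) near_to8 near_9

theorem near_to10 : allFrom 0 11000 (fun p => evalP sigTabs (rpt 2 nearProd) p == p) = true :=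
  allFrom_add (b := 10000) (c := 1000) near_to9 near_10

theorem near_to11 : allFrom 0 12000 (fun p => evalP sigTabs (rpt 2 nearProd) p == p) = true :=
  allFrom_add (b := 11000) (c := 1000) near_to10 near_11

theorem near_to12 : allFrom 0 13000 (fun p => evalP sigTabs (rpt 2 nearProd) p == p) = true :=
  allFrom_add (b := 12000) (c := 1000) near_to11 near_12

theorem near_to13 : allFrom 0 14000 (fun p => evalP sigTabs (rpt 2 nearProd) p == p) = true :=
  allFrom_add (b := 13000) (c := 1000) near_to12 near_13

theorem near_to14 : allFrom 0 15000 (fun p => evalP sigTabs (rpt 2 nearProd) p == p) = true :=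
  allFrom_add (b := 14000) (c := 1000) near_to13 near_14

theorem near_to15 : allFrom 0 16000 (fun p => evalP sigTabs (rpt 2 nearProd) p == p) = true :=
  allFrom_add (b := 15000) (c := 1000) near_to14 near_15

theorem near_to16 : allFrom 0 17000 (fun p => evalP sigTabs (rpt 2 nearProd) p == p) = true :=
  allFrom_add (b := 16000) (c := 1000) near_to15 near_16

theorem near_to17 : allFrom 0 18000 (fun p => evalP sigTabs (rpt 2 nearProd) p == p) = true :=
  allFrom_add (b := 17000) (c := 1000) near_to16 near_17

theorem near_to18 : allFrom 0 19000 (fun p => evalP sigTabs (rpt 2 nearProd) p == p) = true :=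
  allFrom_add (b := 18000) (c := 1000) near_to17 near_18

theorem near_to19 : allFrom 0 20000 (fun p => evalP sigTabs (rpt 2 nearProd) p == p) = true :=
  allFrom_add (b := 19000) (c := 1000) near_to18 near_19

theorem near_to20 : allFrom 0 21000 (fun p => evalP sigTabs (rpt 2 nearProd) p == p) = true :=
  allFrom_add (b := 20000) (c := 1000) near_to19 near_20

theorem near_to21 : allFrom 0 22000 (fun p => evalP sigTabs (rpt 2 nearProd) p == p) = true :=
  allFrom_add (b := 21000) (c := 1000) near_to20 near_21

theorem near_to22 : allFrom 0 23000 (fun p => evalP sigTabs (rpt 2 nearProd) p == p) = true :=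
  allFrom_add (b := 22000) (c := 1000) near_to21 near_22

theorem near_to23 : allFrom 0 24000 (fun p => evalP sigTabs (rpt 2 nearProd) p == p) = true :=
  allFrom_add (b := 23000) (c := 1000) near_to22 near_23

theorem near_to24 : allFrom 0 25000 (fun p => evalP sigTabs (rpt 2 nearProd) p == p) = true :=
  allFrom_add (b := 24000) (c := 1000) near_to23 near_24

theorem near_to25 : allFrom 0 26000 (fun p => evalP sigTabs (rpt 2 nearProd) p == p) = true :=
  allFrom_add (b := 25000) (c := 1000) near_to24 near_25

theorem near_to26 : allFrom 0 27000 (fun p => evalP sigTabs (rpt 2 nearProd) p == p) = true :=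
  allFrom_add (b := 26000) (c := 1000) near_to25 near_26

theorem near_to27 : allFrom 0 28000 (fun p => evalP sigTabs (rpt 2 nearProd) p == p) = true :=
  allFrom_add (b := 27000) (c := 1000) near_to26 near_27

theorem near_to28 : allFrom 0 29000 (fun p => evalP sigTabs (rpt 2 nearProd) p == p) = true :=
  allFrom_add (b := 28000) (c := 1000) near_to27 near_28

theorem near_to29 : allFrom 0 30000 (fun p => evalP sigTabs (rpt 2 nearProd) p == p) = true :=
  allFrom_add (b := 29000) (c := 1000) near_to28 near_29

theorem near_to30 : allFrom 0 31000 (fun p => evalP sigTabs (rpt 2 nearProd) p == p) = true :=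
  allFrom_add (b := 30000) (c := 1000) near_to29 near_30

theorem near__all : allFrom 0 31671 (fun p => evalP sigTabs (rpt 2 nearProd) p == p) = true :=
  allFrom_add (b := 31000) (c := 671) near_to30 near_31

end Cfsg.Lib.FiTwenty
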