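import Cfsg.Agent.FiTwenty.ActBase

/-!
The pair relators from letter 1 hold on the points.
-/

set_option autoImplicit false
set_option Elab.async false

namespace Cfsg.Lib.FiTwenty

open Cfsg.Lib.CosetCert Cfsg.Lib.PermCert

theorem pairs1_0 : allFrom 0 1000 (pairsAt 1) = true := by decide +kernel

theorem pairs1_1 : allFrom 1000 1000 (pairsAt 1) = true := by decide +kernel

theorem pairs1_2 : allFrom 2000 1000 (pairsAt 1) = true := by decide +kernel

theorem pairs1_3 : allFrom 3000 1000 (pairsAt 1) = true := by decide +kernel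

theorem pairs1_4 : allFrom 4000 1000 (pairsAt 1) = true := by decide +kernel

theorem pairs1_5 : allFrom 5000 1000 (pairsAt 1) = true := by decide +kernel

theorem pairs1_6 : allFrom 6000 1000 (pairsAt 1) = true := by decide +kernel

theorem pairs1_7 : allFrom 7000 1000 (pairsAt 1) = true := by decide +kernel

theorem pairs1_8 : allFrom 8000 1000 (pairsAt 1) = true := by decide +kernel

theorem pairs1_9 : allFrom 9000 1000 (pairsAt 1) = true := by decide +kernel

theorem pairs1_10 : allFrom 10000 1000 (pairsAt 1) = true := by decide +kernel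

theorem pairs1_11 : allFrom 11000 1000 (pairsAt 1) = true := by decide +kernel

theorem pairs1_12 : allFrom 12000 1000 (pairsAt 1) = true := by decide +kernel

theorem pairs1_13 : allFrom 13000 1000 (pairsAt 1) = true := by decide +kernel

theorem pairs1_14 : allFrom 14000 1000 (pairsAt 1) = true := by decide +kernel

theorem pairs1_15 : allFrom 15000 1000 (pairsAt 1) = true := by decide +kernel

theorem pairs1_16 : allFrom 16000 1000 (pairsAt 1) = true := by decide +kernel

theorem pairs1_17 : allFrom 17000 1000 (pairsAt 1) = true := by decide +kernel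

theorem pairs1_18 : allFrom 18000 1000 (pairsAt 1) = true := by decide +kernel

theorem pairs1_19 : allFrom 19000 1000 (pairsAt 1) = true := by decide +kernel

theorem pairs1_20 : allFrom 20000 1000 (pairsAt 1) = true := by decide +kernel

theorem pairs1_21 : allFrom 21000 1000 (pairsAt 1) = true := by decide +kernel

theorem pairs1_22 : allFrom 22000 1000 (pairsAt 1) = true := by decide +kernel

theorem pairs1_23 : allFrom 23000 1000 (pairsAt 1) = true := by decide +kernel

theorem pairs1_24 : allFrom 24000 1000 (pairsAt 1) = true := by decide +kernel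

theorem pairs1_25 : allFrom 25000 1000 (pairsAt 1) = true := by decide +kernel

theorem pairs1_26 : allFrom 26000 1000 (pairsAt 1) = true := by decide +kernel

theorem pairs1_27 : allFrom 27000 1000 (pairsAt 1) = true := by decide +kernel

theorem pairs1_28 : allFrom 28000 1000 (pairsAt 1) = true := by decide +kernel

theorem pairs1_29 : allFrom 29000 1000 (pairsAt 1) = true := by decide +kernel

theorem pairs1_30 : allFrom 30000 1000 (pairsAt 1) = true := by decide +kernel

theorem pairs1_31 : allFrom 31000 671 (pairsAt 1) = true := by decide +kernel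

theorem pairs1_to1 : allFrom 0 2000 (pairsAt 1) = true :=
  allFrom_add (b := 1000) (c := 1000) pairs1_0 pairs1_1

theorem pairs1_to2 : allFrom 0 3000 (pairsAt 1) = true :=
  allFrom_add (b := 2000) (c := 1000) pairs1_to1 pairs1_2

theorem pairs1_to3 : allFrom 0 4000 (pairsAt 1) = true :=
  allFrom_add (b := 3000) (c := 1000) pairs1_to2 pairs1_3

theorem pairs1_to4 : allFrom 0 5000 (pairsAt 1) = true :=
  allFrom_add (b := 4000) (c := 1000) pairs1_to3 pairs1_4

theorem pairs1_to5 : allFrom 0 6000 (pairsAt 1) = true :=
  allFrom_add (b := 5000) (c := 1000) pairs1_to4 pairs1_5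

theorem pairs1_to6 : allFrom 0 7000 (pairsAt 1) = true :=
  allFrom_add (b := 6000) (c := 1000) pairs1_to5 pairs1_6

theorem pairs1_to7 : allFrom 0 8000 (pairsAt 1) = true :=
  allFrom_add (b := 7000) (c := 1000) pairs1_to6 pairs1_7

theorem pairs1_to8 : allFrom 0 9000 (pairsAt 1) = true :=
  allFrom_add (b := 8000) (c := 1000) pairs1_to7 pairs1_8

theorem pairs1_to9 : allFrom 0 10000 (pairsAt 1) = true :=
  allFrom_add (b := 9000) (c := 1000) pairs1_to8 pairs1_9

theorem pairs1_to10 : allFrom 0 11000 (pairsAt 1) = true :=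
  allFrom_add (b := 10000) (c := 1000) pairs1_to9 pairs1_10

theorem pairs1_to11 : allFrom 0 12000 (pairsAt 1) = true :=
  allFrom_add (b := 11000) (c := 1000) pairs1_to10 pairs1_11

theorem pairs1_to12 : allFrom 0 13000 (pairsAt 1) = true :=
  allFrom_add (b := 12000) (c := 1000) pairs1_to11 pairs1_12

theorem pairs1_to13 : allFrom 0 14000 (pairsAt 1) = true :=
  allFrom_add (b := 13000) (c := 1000) pairs1_to12 pairs1_13

theorem pairs1_to14 : allFrom 0 15000 (pairsAt 1) = true :=
  allFrom_add (b := 14000) (c := 1000) pairs1_to13 pairs1_14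

theorem pairs1_to15 : allFrom 0 16000 (pairsAt 1) = true :=
  allFrom_add (b := 15000) (c := 1000) pairs1_to14 pairs1_15

theorem pairs1_to16 : allFrom 0 17000 (pairsAt 1) = true :=
  allFrom_add (b := 16000) (c := 1000) pairs1_to15 pairs1_16

theorem pairs1_to17 : allFrom 0 18000 (pairsAt 1) = true :=
  allFrom_add (b := 17000) (c := 1000) pairs1_to16 pairs1_17

theorem pairs1_to18 : allFrom 0 19000 (pairsAt 1) = true :=
  allFrom_add (b := 18000) (c := 1000) pairs1_to17 pairs1_18

theorem pairs1_to19 : allFrom 0 20000 (pairsAt 1) = true :=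
  allFrom_add (b := 19000) (c := 1000) pairs1_to18 pairs1_19

theorem pairs1_to20 : allFrom 0 21000 (pairsAt 1) = true :=
  allFrom_add (b := 20000) (c := 1000) pairs1_to19 pairs1_20

theorem pairs1_to21 : allFrom 0 22000 (pairsAt 1) = true :=
  allFrom_add (b := 21000) (c := 1000) pairs1_to20 pairs1_21

theorem pairs1_to22 : allFrom 0 23000 (pairsAt 1) = true :=
  allFrom_add (b := 22000) (c := 1000) pairs1_to21 pairs1_22

theorem pairs1_to23 : allFrom 0 24000 (pairsAt 1) = true :=
  allFrom_add (b := 23000) (c := 1000) pairs1_to22 pairs1_23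

theorem pairs1_to24 : allFrom 0 25000 (pairsAt 1) = true :=
  allFrom_add (b := 24000) (c := 1000) pairs1_to23 pairs1_24

theorem pairs1_to25 : allFrom 0 26000 (pairsAt 1) = true :=
  allFrom_add (b := 25000) (c := 1000) pairs1_to24 pairs1_25

theorem pairs1_to26 : allFrom 0 27000 (pairsAt 1) = true :=
  allFrom_add (b := 26000) (c := 1000) pairs1_to25 pairs1_26

theorem pairs1_to27 : allFrom 0 28000 (pairsAt 1) = true :=
  allFrom_add (b := 27000) (c := 1000) pairs1_to26 pairs1_27

theorem pairs1_to28 : allFrom 0 29000 (pairsAt 1) = true :=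
  allFrom_add (b := 28000) (c := 1000) pairs1_to27 pairs1_28

theorem pairs1_to29 : allFrom 0 30000 (pairsAt 1) = true :=
  allFrom_add (b := 29000) (c := 1000) pairs1_to28 pairs1_29

theorem pairs1_to30 : allFrom 0 31000 (pairsAt 1) = true :=
  allFrom_add (b := 30000) (c := 1000) pairs1_to29 pairs1_30

theorem pairs1__all : allFrom 0 31671 (pairsAt 1) = true :=
  allFrom_add (b := 31000) (c := 671) pairs1_to30 pairs1_31

end Cfsg.Lib.FiTwenty
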