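import Cfsg.Agent.FiTwenty.ActBase

/-!
The pair relators from letter 4 hold on the points.
-/

set_option autoImplicit false
set_option Elab.async false

namespace Cfsg.Lib.FiTwenty

open Cfsg.Lib.CosetCert Cfsg.Lib.PermCert

theorem pairs4_0 : allFrom 0 1000 (pairsAt 4) = true := by decide +kernel

theorem pairs4_1 : allFrom 1000 1000 (pairsAt 4) = true := by decide +kernel

theorem pairs4_2 : allFrom 2000 1000 (pairsAt 4) = true := by decide +kernel

theorem pairs4_3 : allFrom 3000 1000 (pairsAt 4) = true := by decide +kernel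

theorem pairs4_4 : allFrom 4000 1000 (pairsAt 4) = true := by decide +kernel

theorem pairs4_5 : allFrom 5000 1000 (pairsAt 4) = true := by decide +kernel

theorem pairs4_6 : allFrom 6000 1000 (pairsAt 4) = true := by decide +kernel

theorem pairs4_7 : allFrom 7000 1000 (pairsAt 4) = true := by decide +kernel

theorem pairs4_8 : allFrom 8000 1000 (pairsAt 4) = true := by decide +kernel

theorem pairs4_9 : allFrom 9000 1000 (pairsAt 4) = true := by decide +kernel

theorem pairs4_10 : allFrom 10000 1000 (pairsAt 4) = true := by decide +kernel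

theorem pairs4_11 : allFrom 11000 1000 (pairsAt 4) = true := by decide +kernel

theorem pairs4_12 : allFrom 12000 1000 (pairsAt 4) = true := by decide +kernel

theorem pairs4_13 : allFrom 13000 1000 (pairsAt 4) = true := by decide +kernel

theorem pairs4_14 : allFrom 14000 1000 (pairsAt 4) = true := by decide +kernel

theorem pairs4_15 : allFrom 15000 1000 (pairsAt 4) = true := by decide +kernel

theorem pairs4_16 : allFrom 16000 1000 (pairsAt 4) = true := by decide +kernel

theorem pairs4_17 : allFrom 17000 1000 (pairsAt 4) = true := by decide +kernel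

theorem pairs4_18 : allFrom 18000 1000 (pairsAt 4) = true := by decide +kernel

theorem pairs4_19 : allFrom 19000 1000 (pairsAt 4) = true := by decide +kernel

theorem pairs4_20 : allFrom 20000 1000 (pairsAt 4) = true := by decide +kernel

theorem pairs4_21 : allFrom 21000 1000 (pairsAt 4) = true := by decide +kernel

theorem pairs4_22 : allFrom 22000 1000 (pairsAt 4) = true := by decide +kernel

theorem pairs4_23 : allFrom 23000 1000 (pairsAt 4) = true := by decide +kernel

theorem pairs4_24 : allFrom 24000 1000 (pairsAt 4) = true := by decide +kernel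

theorem pairs4_25 : allFrom 25000 1000 (pairsAt 4) = true := by decide +kernel

theorem pairs4_26 : allFrom 26000 1000 (pairsAt 4) = true := by decide +kernel

theorem pairs4_27 : allFrom 27000 1000 (pairsAt 4) = true := by decide +kernel

theorem pairs4_28 : allFrom 28000 1000 (pairsAt 4) = true := by decide +kernel

theorem pairs4_29 : allFrom 29000 1000 (pairsAt 4) = true := by decide +kernel

theorem pairs4_30 : allFrom 30000 1000 (pairsAt 4) = true := by decide +kernel

theorem pairs4_31 : allFrom 31000 671 (pairsAt 4) = true := by decide +kernel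

theorem pairs4_to1 : allFrom 0 2000 (pairsAt 4) = true :=
  allFrom_add (b := 1000) (c := 1000) pairs4_0 pairs4_1

theorem pairs4_to2 : allFrom 0 3000 (pairsAt 4) = true :=
  allFrom_add (b := 2000) (c := 1000) pairs4_to1 pairs4_2

theorem pairs4_to3 : allFrom 0 4000 (pairsAt 4) = true :=
  allFrom_add (b := 3000) (c := 1000) pairs4_to2 pairs4_3

theorem pairs4_to4 : allFrom 0 5000 (pairsAt 4) = true :=
  allFrom_add (b := 4000) (c := 1000) pairs4_to3 pairs4_4

theorem pairs4_to5 : allFrom 0 6000 (pairsAt 4) = true :=
  allFrom_add (b := 5000) (c := 1000) pairs4_to4 pairs4_5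

theorem pairs4_to6 : allFrom 0 7000 (pairsAt 4) = true :=
  allFrom_add (b := 6000) (c := 1000) pairs4_to5 pairs4_6

theorem pairs4_to7 : allFrom 0 8000 (pairsAt 4) = true :=
  allFrom_add (b := 7000) (c := 1000) pairs4_to6 pairs4_7

theorem pairs4_to8 : allFrom 0 9000 (pairsAt 4) = true :=
  allFrom_add (b := 8000) (c := 1000) pairs4_to7 pairs4_8

theorem pairs4_to9 : allFrom 0 10000 (pairsAt 4) = true :=
  allFrom_add (b := 9000) (c := 1000) pairs4_to8 pairs4_9

theorem pairs4_to10 : allFrom 0 11000 (pairsAt 4) = true :=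
  allFrom_add (b := 10000) (c := 1000) pairs4_to9 pairs4_10

theorem pairs4_to11 : allFrom 0 12000 (pairsAt 4) = true :=
  allFrom_add (b := 11000) (c := 1000) pairs4_to10 pairs4_11

theorem pairs4_to12 : allFrom 0 13000 (pairsAt 4) = true :=
  allFrom_add (b := 12000) (c := 1000) pairs4_to11 pairs4_12

theorem pairs4_to13 : allFrom 0 14000 (pairsAt 4) = true :=
  allFrom_add (b := 13000) (c := 1000) pairs4_to12 pairs4_13

theorem pairs4_to14 : allFrom 0 15000 (pairsAt 4) = true :=
  allFrom_add (b := 14000) (c := 1000) pairs4_to13 pairs4_14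

theorem pairs4_to15 : allFrom 0 16000 (pairsAt 4) = true :=
  allFrom_add (b := 15000) (c := 1000) pairs4_to14 pairs4_15

theorem pairs4_to16 : allFrom 0 17000 (pairsAt 4) = true :=
  allFrom_add (b := 16000) (c := 1000) pairs4_to15 pairs4_16

theorem pairs4_to17 : allFrom 0 18000 (pairsAt 4) = true :=
  allFrom_add (b := 17000) (c := 1000) pairs4_to16 pairs4_17

theorem pairs4_to18 : allFrom 0 19000 (pairsAt 4) = true :=
  allFrom_add (b := 18000) (c := 1000) pairs4_to17 pairs4_18

theorem pairs4_to19 : allFrom 0 20000 (pairsAt 4) = true :=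
  allFrom_add (b := 19000) (c := 1000) pairs4_to18 pairs4_19

theorem pairs4_to20 : allFrom 0 21000 (pairsAt 4) = true :=
  allFrom_add (b := 20000) (c := 1000) pairs4_to19 pairs4_20

theorem pairs4_to21 : allFrom 0 22000 (pairsAt 4) = true :=
  allFrom_add (b := 21000) (c := 1000) pairs4_to20 pairs4_21

theorem pairs4_to22 : allFrom 0 23000 (pairsAt 4) = true :=
  allFrom_add (b := 22000) (c := 1000) pairs4_to21 pairs4_22

theorem pairs4_to23 : allFrom 0 24000 (pairsAt 4) = true :=
  allFrom_add (b := 23000) (c := 1000) pairs4_to22 pairs4_23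

theorem pairs4_to24 : allFrom 0 25000 (pairsAt 4) = true :=
  allFrom_add (b := 24000) (c := 1000) pairs4_to23 pairs4_24

theorem pairs4_to25 : allFrom 0 26000 (pairsAt 4) = true :=
  allFrom_add (b := 25000) (c := 1000) pairs4_to24 pairs4_25

theorem pairs4_to26 : allFrom 0 27000 (pairsAt 4) = true :=
  allFrom_add (b := 26000) (c := 1000) pairs4_to25 pairs4_26

theorem pairs4_to27 : allFrom 0 28000 (pairsAt 4) = true :=
  allFrom_add (b := 27000) (c := 1000) pairs4_to26 pairs4_27

theorem pairs4_to28 : allFrom 0 29000 (pairsAt 4) = true :=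
  allFrom_add (b := 28000) (c := 1000) pairs4_to27 pairs4_28

theorem pairs4_to29 : allFrom 0 30000 (pairsAt 4) = true :=
  allFrom_add (b := 29000) (c := 1000) pairs4_to28 pairs4_29

theorem pairs4_to30 : allFrom 0 31000 (pairsAt 4) = true :=
  allFrom_add (b := 30000) (c := 1000) pairs4_to29 pairs4_30

theorem pairs4__all : allFrom 0 31671 (pairsAt 4) = true :=
  allFrom_add (b := 31000) (c := 671) pairs4_to30 pairs4_31

end Cfsg.Lib.FiTwenty
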