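import Cfsg.Agent.FiTwenty.ActBase

/-!
The pair relators from letter 6 hold on the points.
-/

set_option autoImplicit false
set_option Elab.async false

namespace Cfsg.Lib.FiTwenty

open Cfsg.Lib.CosetCert Cfsg.Lib.PermCert

theorem pairs6_0 : allFrom 0 1000 (pairsAt 6) = true := by decide +kernel

theorem pairs6_1 : allFrom 1000 1000 (pairsAt 6) = true := by decide +kernel

theorem pairs6_2 : allFrom 2000 1000 (pairsAt 6) = true := by decide +kernel

theorem pairs6_3 : allFrom 3000 1000 (pairsAt 6) = true := by decide +kernel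

theorem pairs6_4 : allFrom 4000 1000 (pairsAt 6) = true := by decide +kernel

theorem pairs6_5 : allFrom 5000 1000 (pairsAt 6) = true := by decide +kernel

theorem pairs6_6 : allFrom 6000 1000 (pairsAt 6) = true := by decide +kernel

theorem pairs6_7 : allFrom 7000 1000 (pairsAt 6) = true := by decide +kernel

theorem pairs6_8 : allFrom 8000 1000 (pairsAt 6) = true := by decide +kernel

theorem pairs6_9 : allFrom 9000 1000 (pairsAt 6) = true := by decide +kernel

theorem pairs6_10 : allFrom 10000 1000 (pairsAt 6) = true := by decide +kernel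

theorem pairs6_11 : allFrom 11000 1000 (pairsAt 6) = true := by decide +kernel

theorem pairs6_12 : allFrom 12000 1000 (pairsAt 6) = true := by decide +kernel

theorem pairs6_13 : allFrom 13000 1000 (pairsAt 6) = true := by decide +kernel

theorem pairs6_14 : allFrom 14000 1000 (pairsAt 6) = true := by decide +kernel

theorem pairs6_15 : allFrom 15000 1000 (pairsAt 6) = true := by decide +kernel

theorem pairs6_16 : allFrom 16000 1000 (pairsAt 6) = true := by decide +kernel

theorem pairs6_17 : allFrom 17000 1000 (pairsAt 6) = true := by decide +kernel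

theorem pairs6_18 : allFrom 18000 1000 (pairsAt 6) = true := by decide +kernel

theorem pairs6_19 : allFrom 19000 1000 (pairsAt 6) = true := by decide +kernel

theorem pairs6_20 : allFrom 20000 1000 (pairsAt 6) = true := by decide +kernel

theorem pairs6_21 : allFrom 21000 1000 (pairsAt 6) = true := by decide +kernel

theorem pairs6_22 : allFrom 22000 1000 (pairsAt 6) = true := by decide +kernel

theorem pairs6_23 : allFrom 23000 1000 (pairsAt 6) = true := by decide +kernel

theorem pairs6_24 : allFrom 24000 1000 (pairsAt 6) = true := by decide +kernel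

theorem pairs6_25 : allFrom 25000 1000 (pairsAt 6) = true := by decide +kernel

theorem pairs6_26 : allFrom 26000 1000 (pairsAt 6) = true := by decide +kernel

theorem pairs6_27 : allFrom 27000 1000 (pairsAt 6) = true := by decide +kernel

theorem pairs6_28 : allFrom 28000 1000 (pairsAt 6) = true := by decide +kernel

theorem pairs6_29 : allFrom 29000 1000 (pairsAt 6) = true := by decide +kernel

theorem pairs6_30 : allFrom 30000 1000 (pairsAt 6) = true := by decide +kernel

theorem pairs6_31 : allFrom 31000 671 (pairsAt 6) = true := by decide +kernel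

theorem pairs6_to1 : allFrom 0 2000 (pairsAt 6) = true :=
  allFrom_add (b := 1000) (c := 1000) pairs6_0 pairs6_1

theorem pairs6_to2 : allFrom 0 3000 (pairsAt 6) = true :=
  allFrom_add (b := 2000) (c := 1000) pairs6_to1 pairs6_2

theorem pairs6_to3 : allFrom 0 4000 (pairsAt 6) = true :=
  allFrom_add (b := 3000) (c := 1000) pairs6_to2 pairs6_3

theorem pairs6_to4 : allFrom 0 5000 (pairsAt 6) = true :=
  allFrom_add (b := 4000) (c := 1000) pairs6_to3 pairs6_4

theorem pairs6_to5 : allFrom 0 6000 (pairsAt 6) = true :=
  allFrom_add (b := 5000) (c := 1000) pairs6_to4 pairs6_5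

theorem pairs6_to6 : allFrom 0 7000 (pairsAt 6) = true :=
  allFrom_add (b := 6000) (c := 1000) pairs6_to5 pairs6_6

theorem pairs6_to7 : allFrom 0 8000 (pairsAt 6) = true :=
  allFrom_add (b := 7000) (c := 1000) pairs6_to6 pairs6_7

theorem pairs6_to8 : allFrom 0 9000 (pairsAt 6) = true :=
  allFrom_add (b := 8000) (c := 1000) pairs6_to7 pairs6_8

theorem pairs6_to9 : allFrom 0 10000 (pairsAt 6) = true :=
  allFrom_add (b := 9000) (c := 1000) pairs6_to8 pairs6_9

theorem pairs6_to10 : allFrom 0 11000 (pairsAt 6) = true :=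
  allFrom_add (b := 10000) (c := 1000) pairs6_to9 pairs6_10

theorem pairs6_to11 : allFrom 0 12000 (pairsAt 6) = true :=
  allFrom_add (b := 11000) (c := 1000) pairs6_to10 pairs6_11

theorem pairs6_to12 : allFrom 0 13000 (pairsAt 6) = true :=
  allFrom_add (b := 12000) (c := 1000) pairs6_to11 pairs6_12

theorem pairs6_to13 : allFrom 0 14000 (pairsAt 6) = true :=
  allFrom_add (b := 13000) (c := 1000) pairs6_to12 pairs6_13

theorem pairs6_to14 : allFrom 0 15000 (pairsAt 6) = true :=
  allFrom_add (b := 14000) (c := 1000) pairs6_to13 pairs6_14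

theorem pairs6_to15 : allFrom 0 16000 (pairsAt 6) = true :=
  allFrom_add (b := 15000) (c := 1000) pairs6_to14 pairs6_15

theorem pairs6_to16 : allFrom 0 17000 (pairsAt 6) = true :=
  allFrom_add (b := 16000) (c := 1000) pairs6_to15 pairs6_16

theorem pairs6_to17 : allFrom 0 18000 (pairsAt 6) = true :=
  allFrom_add (b := 17000) (c := 1000) pairs6_to16 pairs6_17

theorem pairs6_to18 : allFrom 0 19000 (pairsAt 6) = true :=
  allFrom_add (b := 18000) (c := 1000) pairs6_to17 pairs6_18

theorem pairs6_to19 : allFrom 0 20000 (pairsAt 6) = true :=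
  allFrom_add (b := 19000) (c := 1000) pairs6_to18 pairs6_19

theorem pairs6_to20 : allFrom 0 21000 (pairsAt 6) = true :=
  allFrom_add (b := 20000) (c := 1000) pairs6_to19 pairs6_20

theorem pairs6_to21 : allFrom 0 22000 (pairsAt 6) = true :=
  allFrom_add (b := 21000) (c := 1000) pairs6_to20 pairs6_21

theorem pairs6_to22 : allFrom 0 23000 (pairsAt 6) = true :=
  allFrom_add (b := 22000) (c := 1000) pairs6_to21 pairs6_22

theorem pairs6_to23 : allFrom 0 24000 (pairsAt 6) = true :=
  allFrom_add (b := 23000) (c := 1000) pairs6_to22 pairs6_23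

theorem pairs6_to24 : allFrom 0 25000 (pairsAt 6) = true :=
  allFrom_add (b := 24000) (c := 1000) pairs6_to23 pairs6_24

theorem pairs6_to25 : allFrom 0 26000 (pairsAt 6) = true :=
  allFrom_add (b := 25000) (c := 1000) pairs6_to24 pairs6_25

theorem pairs6_to26 : allFrom 0 27000 (pairsAt 6) = true :=
  allFrom_add (b := 26000) (c := 1000) pairs6_to25 pairs6_26

theorem pairs6_to27 : allFrom 0 28000 (pairsAt 6) = true :=
  allFrom_add (b := 27000) (c := 1000) pairs6_to26 pairs6_27

theorem pairs6_to28 : allFrom 0 29000 (pairsAt 6) = true :=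
  allFrom_add (b := 28000) (c := 1000) pairs6_to27 pairs6_28

theorem pairs6_to29 : allFrom 0 30000 (pairsAt 6) = true :=
  allFrom_add (b := 29000) (c := 1000) pairs6_to28 pairs6_29

theorem pairs6_to30 : allFrom 0 31000 (pairsAt 6) = true :=
  allFrom_add (b := 30000) (c := 1000) pairs6_to29 pairs6_30

theorem pairs6__all : allFrom 0 31671 (pairsAt 6) = true :=
  allFrom_add (b := 31000) (c := 671) pairs6_to30 pairs6_31

end Cfsg.Lib.FiTwenty
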