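import Cfsg.Agent.FiTwenty.ActBase

/-!
Tests at a point for the eleventh letter.
-/

set_option autoImplicit false

namespace Cfsg.Lib.FiTwenty

open Cfsg.Lib.CosetCert Cfsg.Lib.PermCert

/-- The eleventh letter commutes with the first nine at a point. -/
def commAt (p : ℕ) : Bool := (List.range 9).all fun l => evalP sigTabs [l, 10] p == evalP sigTabs [10, l] p

/-- The word writing the eleventh letter as a conjugate. -/
def conjZ : List ℕ := conjWord ++ conjMid :: conjWord.reverse

/-- The products of the eleventh letter with its conjugates into the two suborbits. -/
def nearProd : List ℕ := 10 :: (nearWord.reverse ++ 10 :: nearWord)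

/-- The same for the second suborbit. -/
def farProd : List ℕ := [10, 9, 10, 9]

end Cfsg.Lib.FiTwenty
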