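import Cfsg.Agent.FiTwenty.ActPairs0
import Cfsg.Agent.FiTwenty.ActPairs1
import Cfsg.Agent.FiTwenty.ActPairs2
import Cfsg.Agent.FiTwenty.ActPairs3
import Cfsg.Agent.FiTwenty.ActPairs4
import Cfsg.Agent.FiTwenty.ActPairs5
import Cfsg.Agent.FiTwenty.ActPairs6
import Cfsg.Agent.FiTwenty.ActPairs7
import Cfsg.Agent.FiTwenty.ActPairs8
import Cfsg.Agent.FiTwenty.ActPairs9
import Cfsg.Agent.FiTwenty.ActExtra
import Cfsg.Agent.FiTwenty.ActChain

/-!
The permutations on 31671 points satisfy the relations.
-/

set_option autoImplicit false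
set_option maxRecDepth 20000
set_option Elab.async false

namespace Cfsg.Lib.FiTwenty

open Cfsg.Lib.CosetCert Cfsg.Lib.PermCert

attribute [local irreducible] sig0 sig1 sig2 sig3 sig4 sig5 sig6 sig7 sig8 sig9 sig10 subPts subIdx
/-- The permutations. -/
def act (k : ℕ) : Equiv.Perm (Fin 31671) := perm 31671 (sigTabs.getD k (0, 0))

theorem wval_act_apply {w : List ℕ} (h : ∀ l ∈ w, l < sigTabs.length) (p : Fin 31671) :
    ((wval act w p : Fin 31671) : ℕ) = evalP sigTabs w p := by
  have e : wval act w = wperm 31671 (w.map fun l => sigTabs.getD l (0, 0)) := by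
    rw [wval, wperm, List.map_map]
    exact congrArg List.prod (List.map_congr_left fun l _ => by rw [Function.comp_apply, act])
  rw [e, wperm_apply fun g hg => by
    obtain ⟨l, hl, rfl⟩ := List.mem_map.1 hg
    exact tabs_valid l (h l hl)]
  rfl

theorem wval_act_one {w : List ℕ} (h : ∀ l ∈ w, l < sigTabs.length)
    (h1 : ∀ p < 31671, evalP sigTabs w p = p) : wval act w = 1 :=
  Equiv.ext fun p => Fin.ext (by rw [wval_act_apply h, h1 _ p.isLt]; rfl)

theorem act_sq {l : ℕ} (hl : l < sigTabs.length) : act l * act l = 1 := by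
  have e : sigTabs.getD l (0, 0) = pinv (sigTabs.getD l (0, 0)) := by
    have h : l < 11 := hl
    interval_cases l <;> rfl
  rw [act]
  nth_rw 2 [e]
  rw [perm_pinv (tabs_valid l hl), mul_inv_cancel]

theorem pair_rev : ((List.range 10).all fun x => (List.range 10).all fun y =>
    (pairWord y x == (pairWord x y).reverse) && (pairWord x y).all fun l => decide (l < 10)) = true := by
  decide +kernel

theorem pair_le : ∀ x y, x ≤ y → y < 10 → wval act (pairWord x y) = 1 := by
  intro x y hxy hy
  have hl := List.all_eq_true.1 pair_rev x (List.mem_range.2 (by omega))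
  have hl' := List.all_eq_true.1 hl y (List.mem_range.2 hy)
  simp only [Bool.and_eq_true, List.all_eq_true, decide_eq_true_eq] at hl'
  refine wval_act_one (fun l h => Nat.lt_succ_of_lt (hl'.2 l h)) fun p hp => ?_
  have key : ∀ {f : ℕ → Bool}, allFrom 0 31671 f = true → f p = true := fun h => allFrom_zero h hp
  have h : pairsAt x p = true := by
    have hx : x < 10 := by omega
    interval_cases x
    exacts [key pairs0__all, key pairs1__all, key pairs2__all, key pairs3__all, key pairs4__all,
      key pairs5__all, key pairs6__all, key pairs7__all, key pairs8__all, key pairs9__all]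
  simp only [pairsAt, List.all_eq_true, List.mem_map, List.mem_range, beq_iff_eq] at h
  exact h _ ⟨y - x, by omega, by rw [Nat.add_sub_cancel' hxy]⟩

theorem good_act : Good act := by
  intro w hw
  rcases List.mem_append.1 hw with hw | hw
  · obtain ⟨x, hx, hw⟩ := List.mem_flatMap.1 hw
    obtain ⟨y, hy, rfl⟩ := List.mem_map.1 hw
    rw [List.mem_range] at hx hy
    rcases le_or_gt x y with h | h
    · exact pair_le x y h hy
    · have e := List.all_eq_true.1 (List.all_eq_true.1 pair_rev y (List.mem_range.2 hy)) x (List.mem_range.2 hx)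
      simp only [Bool.and_eq_true, List.all_eq_true, decide_eq_true_eq, beq_iff_eq] at e
      rw [e.1, wval_reverse act (fun l hl => act_sq (Nat.lt_succ_of_lt (e.2 l hl))), pair_le y x h.le hx, inv_one]
  · simp only [extraWords, List.mem_cons, List.mem_nil_iff, or_false] at hw
    rcases hw with rfl | rfl
    · exact wval_act_one (w := rpt 10 spiderBase) (by decide) fun p hp =>
        rpt_eq_tab spider_tab_all spider_pow_all p hp
    · exact wval_act_one (w := rpt 9 coxBase) (by decide) fun p hp =>
        rpt_eq_tab cox_tab_all cox_pow_all p hp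

/-- The word of the eleventh letter. -/
def zWord : List ℕ := rpt 9 chainBase

theorem zWord_lt : ∀ l ∈ zWord, l < 10 := by decide

theorem act_z : wval act zWord = act 10 := Equiv.ext fun p => Fin.ext (by
  rw [wval_act_apply (fun l hl => Nat.lt_succ_of_lt (zWord_lt l hl)), zWord, rpt,
    rpt_eq_tab chain_tab_all chain_pow_all _ p.isLt, act, perm_apply (tabs_valid 10 (by decide))]
  rfl)

/-- The word of a letter. -/
def expandL (k : ℕ) : List ℕ := if k = 10 then zWord else [k]

/-- The eleven letters. -/
def imZ (k : ℕ) : Cfsg.Spor.Fi23 := wval im (expandL k)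

theorem imZ_low {k : ℕ} (h : k < 10) : imZ k = im k := by
  simp [imZ, expandL, show k ≠ 10 by omega, wval]

theorem wval_low : ∀ {w : List ℕ}, (∀ l ∈ w, l < 10) → wval imZ w = wval im w
  | [], _ => rfl
  | l :: w, h => by
    rw [wval_cons, wval_cons, wval_low fun a ha => h a (List.mem_cons_of_mem l ha), imZ_low (h l List.mem_cons_self)]

/-- The action on the points. -/
def psi : Cfsg.Spor.Fi23 →* Equiv.Perm (Fin 31671) := toGrp good_act

theorem psi_wval : ∀ {w : List ℕ}, (∀ l ∈ w, l < 10) → psi (wval im w) = wval act w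
  | [], _ => map_one psi
  | l :: w, h => by
    rw [wval_cons, wval_cons, map_mul, psi_wval fun a ha => h a (List.mem_cons_of_mem l ha), psi,
      toGrp_im good_act (h l List.mem_cons_self)]

theorem psi_act (l : ℕ) (hl : l < sigTabs.length) :
    valid 31671 (sigTabs.getD l (0, 0)) = true ∧ psi (imZ l) = perm 31671 (sigTabs.getD l (0, 0)) := by
  refine ⟨tabs_valid l hl, ?_⟩
  have h : l < 11 := hl
  rcases Nat.lt_or_ge l 10 with h10 | h10
  · rw [imZ_low h10, psi, toGrp_im good_act h10]
    rfl
  · obtain rfl : l = 10 := by omega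
    rw [show imZ 10 = wval im zWord from rfl, psi_wval zWord_lt, act_z]
    rfl

end Cfsg.Lib.FiTwenty
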