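import Cfsg.Agent.FiTwenty.ChainData
import Cfsg.Agent.FiTwenty.TabData
import Cfsg.Agent.FiTwenty.TreeData
import Cfsg.Agent.FiTwenty.Range

/-!
The chain and the trees of the two suborbits are valid.
-/

set_option autoImplicit false
set_option Elab.async false

namespace Cfsg.Lib.FiTwenty

open Cfsg.Lib.CosetCert Cfsg.Lib.PermCert

theorem chain0_ok : chain0.ok sigTabs 31671 = true := by decide +kernel

theorem chain0_fix : (chain0.letters sigTabs.length && ([chain1, chain2, chain3, chain4, chain5, chain6] : List Lev).all (chain0.fixes sigTabs)) = true := by
  decide +kernel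

theorem chain1_ok : chain1.ok sigTabs 31671 = true := by decide +kernel

theorem chain1_fix : (chain1.letters sigTabs.length && ([chain2, chain3, chain4, chain5, chain6] : List Lev).all (chain1.fixes sigTabs)) = true := by
  decide +kernel

theorem chain2_ok : chain2.ok sigTabs 31671 = true := by decide +kernel

theorem chain2_fix : (chain2.letters sigTabs.length && ([chain3, chain4, chain5, chain6] : List Lev).all (chain2.fixes sigTabs)) = true := by
  decide +kernel

theorem chain3_ok : chain3.ok sigTabs 31671 = true := by decide +kernel

theorem chain3_fix : (chain3.letters sigTabs.length && ([chain4, chain5, chain6] : List Lev).all (chain3.fixes sigTabs)) = true := by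
  decide +kernel

theorem chain4_ok : chain4.ok sigTabs 31671 = true := by decide +kernel

theorem chain4_fix : (chain4.letters sigTabs.length && ([chain5, chain6] : List Lev).all (chain4.fixes sigTabs)) = true := by
  decide +kernel

theorem chain5_ok : chain5.ok sigTabs 31671 = true := by decide +kernel

theorem chain5_fix : (chain5.letters sigTabs.length && ([chain6] : List Lev).all (chain5.fixes sigTabs)) = true := by
  decide +kernel

theorem chain6_ok : chain6.ok sigTabs 31671 = true := by decide +kernel

theorem chain6_fix : (chain6.letters sigTabs.length && ([] : List Lev).all (chain6.fixes sigTabs)) = true := by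
  decide +kernel

theorem chainG_ok : chainOK sigTabs 31671 sigTabs.length chainG = true := by
  have h0 := chain0_fix
  rw [Bool.and_eq_true] at h0
  have h1 := chain1_fix
  rw [Bool.and_eq_true] at h1
  have h2 := chain2_fix
  rw [Bool.and_eq_true] at h2
  have h3 := chain3_fix
  rw [Bool.and_eq_true] at h3
  have h4 := chain4_fix
  rw [Bool.and_eq_true] at h4
  have h5 := chain5_fix
  rw [Bool.and_eq_true] at h5
  have h6 := chain6_fix
  rw [Bool.and_eq_true] at h6
  simp only [chainG, chainOK, chain0_ok, h0.1, h0.2, chain1_ok, h1.1, h1.2, chain2_ok, h2.1, h2.2, chain3_ok, h3.1, h3.2, chain4_ok, h4.1, h4.2, chain5_ok, h5.1, h5.2, chain6_ok, h6.1, h6.2, Bool.and_self]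

theorem chainG_size : chainSize chainG = 4089470473293004800 := by decide +kernel

theorem orb0_mask : treeMask chain0.orb (1 <<< chain0.b) = orb0Mask := by decide +kernel

theorem orb0_all : ((List.range 31671).all fun j => orb0Mask.testBit j) = true := by decide +kernel

theorem tree_zero : (chain0.ok sigTabs 31671 && chain0.gens.all (fun w => w.all fun l => decide (l < sigTabs.length)) &&
    (List.range 31671).all fun j => (treeMask chain0.orb (1 <<< chain0.b)).testBit j) = true := by
  rw [orb0_mask, orb0_all, chain0_ok]
  decide +kernel

/-- The letters of the point stabiliser. -/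
def lamH : List ℕ := [0, 1, 2, 3, 4, 5, 6, 7, 8]

theorem scan1 : (decide (subBase1 < 31671) &&
    scanOrb sigTabs 31671 (lamH.map fun l => [l]) (1 <<< subBase1) subTree1) = true := by decide +kernel

theorem mask1 : treeMask subTree1 (1 <<< subBase1) = subTree1Mask := by decide +kernel

theorem count1 : (maskCount 31671 subTree1Mask == 3510) = true := by decide +kernel

theorem closed1_0 : allFrom 0 8000 (fun x => !subTree1Mask.testBit x || lamH.all fun l => subTree1Mask.testBit (evalW sigTabs [l] x)) = true := by decide +kernel

theorem closed1_1 : allFrom 8000 8000 (fun x => !subTree1Mask.testBit x || lamH.all fun l => subTree1Mask.testBit (evalW sigTabs [l] x)) = true := by decide +kernel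

theorem closed1_2 : allFrom 16000 8000 (fun x => !subTree1Mask.testBit x || lamH.all fun l => subTree1Mask.testBit (evalW sigTabs [l] x)) = true := by decide +kernel

theorem closed1_3 : allFrom 24000 7671 (fun x => !subTree1Mask.testBit x || lamH.all fun l => subTree1Mask.testBit (evalW sigTabs [l] x)) = true := by decide +kernel

theorem tree1_ok : treeOK 31671 sigTabs lamH subBase1 subTree1 3510 = true :=
  treeOK_of scan1 mask1 count1 (by decide) (allFrom_add (b := 24000) (c := 7671) (allFrom_add (b := 16000) (c := 8000)
    (allFrom_add (b := 8000) (c := 8000) closed1_0 closed1_1) closed1_2) closed1_3)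

theorem scan2 : (decide (subBase2 < 31671) &&
    scanOrb sigTabs 31671 (lamH.map fun l => [l]) (1 <<< subBase2) subTree2) = true := by decide +kernel

theorem mask2 : treeMask subTree2 (1 <<< subBase2) = subTree2Mask := by decide +kernel

theorem count2 : (maskCount 31671 subTree2Mask == 28160) = true := by decide +kernel

theorem closed2_0 : allFrom 0 8000 (fun x => !subTree2Mask.testBit x || lamH.all fun l => subTree2Mask.testBit (evalW sigTabs [l] x)) = true := by decide +kernel

theorem closed2_1 : allFrom 8000 8000 (fun x => !subTree2Mask.testBit x || lamH.all fun l => subTree2Mask.testBit (evalW sigTabs [l] x)) = true := by decide +kernel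

theorem closed2_2 : allFrom 16000 8000 (fun x => !subTree2Mask.testBit x || lamH.all fun l => subTree2Mask.testBit (evalW sigTabs [l] x)) = true := by decide +kernel

theorem closed2_3 : allFrom 24000 7671 (fun x => !subTree2Mask.testBit x || lamH.all fun l => subTree2Mask.testBit (evalW sigTabs [l] x)) = true := by decide +kernel

theorem tree2_ok : treeOK 31671 sigTabs lamH subBase2 subTree2 28160 = true :=
  treeOK_of scan2 mask2 count2 (by decide) (allFrom_add (b := 24000) (c := 7671) (allFrom_add (b := 16000) (c := 8000)
    (allFrom_add (b := 8000) (c := 8000) closed2_0 closed2_1) closed2_2) closed2_3)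

theorem cover_sub : ((List.range 31671).all fun j => decide (j = 0) || subTree1Mask.testBit j ||
    subTree2Mask.testBit j) = true ∧ subBase1 < 31671 ∧ subBase2 < 31671 ∧
    subTree1Mask.testBit subBase1 = true ∧ subTree2Mask.testBit subBase2 = true := by decide +kernel

theorem fix_zero : lamH.all (fun l => decide (l < 10) && (evalW sigTabs [l] 0 == 0)) = true := by decide +kernel

end Cfsg.Lib.FiTwenty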