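import Cfsg.Agent.CosetCert.TabSplit
import Cfsg.Agent.FiTwenty.D4Part0
import Cfsg.Agent.FiTwenty.D4Part1

/-!
The certificate is valid.
-/

set_option autoImplicit false
set_option Elab.async false

namespace Cfsg.Lib.FiTwenty.D4

open Cfsg.Lib.CosetCert

theorem cat0x5_0_len : cat0x5_0.length = 16384 := by decide +kernel

theorem cat1x5_0_len : cat1x5_0.length = 15129 := by decide +kernel

def top0_0 : List (ℕ × ℕ) := cat0x5_0 ++ cat1x5_0

theorem top0_0_len : top0_0.length = 31513 := by
  rw [top0_0, List.length_append, cat0x5_0_len, cat1x5_0_len]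

theorem top0_0_ok : cert.stepsOK 0 top0_0 = true ∧ ruleBound spec.length top0_0 = true :=
  stepsOK_cat cat0x5_0_ok cat1x5_0_ok (by rw [cat0x5_0_len])

theorem spec_ok : cert.rotsOK rels spec = true := by decide +kernel

theorem top_length : top0_0.length = 31513 := top0_0_len

theorem tab0_ok : cert.tabPart 31513 0 400 = true := by decide +kernel

theorem tab1_ok : cert.tabPart 31513 400 400 = true := by decide +kernel

theorem tab2_ok : cert.tabPart 31513 800 400 = true := by decide +kernel

theorem tab3_ok : cert.tabPart 31513 1200 400 = true := by decide +kernel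

theorem tab4_ok : cert.tabPart 31513 1600 400 = true := by decide +kernel

theorem tab5_ok : cert.tabPart 31513 2000 400 = true := by decide +kernel

theorem tab6_ok : cert.tabPart 31513 2400 400 = true := by decide +kernel

theorem tab7_ok : cert.tabPart 31513 2800 359 = true := by decide +kernel

theorem tabTo1_ok : cert.tabPart 31513 0 800 = true :=
  Cert.tabPart_add (b := 400) (c := 400) tab0_ok (by rw [Nat.zero_add]; exact tab1_ok)

theorem tabTo2_ok : cert.tabPart 31513 0 1200 = true :=
  Cert.tabPart_add (b := 800) (c := 400) tabTo1_ok (by rw [Nat.zero_add]; exact tab2_ok)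

theorem tabTo3_ok : cert.tabPart 31513 0 1600 = true :=
  Cert.tabPart_add (b := 1200) (c := 400) tabTo2_ok (by rw [Nat.zero_add]; exact tab3_ok)

theorem tabTo4_ok : cert.tabPart 31513 0 2000 = true :=
  Cert.tabPart_add (b := 1600) (c := 400) tabTo3_ok (by rw [Nat.zero_add]; exact tab4_ok)

theorem tabTo5_ok : cert.tabPart 31513 0 2400 = true :=
  Cert.tabPart_add (b := 2000) (c := 400) tabTo4_ok (by rw [Nat.zero_add]; exact tab5_ok)

theorem tabTo6_ok : cert.tabPart 31513 0 2800 = true :=
  Cert.tabPart_add (b := 2400) (c := 400) tabTo5_ok (by rw [Nat.zero_add]; exact tab6_ok)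

theorem tabTo7_ok : cert.tabPart 31513 0 3159 = true :=
  Cert.tabPart_add (b := 2800) (c := 359) tabTo6_ok (by rw [Nat.zero_add]; exact tab7_ok)

theorem tab_ok : cert.tabOK top0_0.length = true := by
  rw [top_length]
  exact Cert.tabOK_of_part (by decide +kernel) tabTo7_ok

theorem valid : cert.Valid rels :=
  ⟨by decide, spec, top0_0, spec_ok, top0_0_ok.1, top0_0_ok.2, tab_ok⟩

theorem fins_length : cert.fin.length = 3159 := by rw [Cert.fin, List.length_map, List.length_range]; rfl

end Cfsg.Lib.FiTwenty.D4
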