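import Cfsg.Agent.FiTwenty.D4Edges
import Cfsg.Agent.FiTwenty.D4Table

/-!
Generated coset enumeration certificate: index 3159, letters bcdefghi, subgroup bcdefgh.
-/

set_option autoImplicit false

namespace Cfsg.Lib.FiTwenty.D4

open Cfsg.Lib.CosetCert

def cert : Cert where
  ng := 8
  depth := 7
  edges := edgeT
  pars := parT
  subs := [0,1,2,3,4,5,6]
  rots := rotT
  m := 3159
  finT := finsT
  tab := tabT

def rels : List (List ℕ) :=
  [[],
   [0,0],
   [1,1],
   [2,2],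
   [3,3],
   [4,4],
   [5,5],
   [6,6],
   [7,7],
   [0,1,0,1,0,1],
   [0,2,0,2],
   [0,3,0,3],
   [0,4,0,4],
   [0,5,0,5],
   [0,6,0,6],
   [0,7,0,7],
   [1,2,1,2,1,2],
   [1,3,1,3],
   [1,4,1,4],
   [1,5,1,5],
   [1,6,1,6],
   [1,7,1,7],
   [2,3,2,3,2,3],
   [2,4,2,4],
   [2,5,2,5],
   [2,6,2,6,2,6],
   [2,7,2,7],
   [3,4,3,4,3,4],
   [3,5,3,5],
   [3,6,3,6],
   [3,7,3,7],
   [4,5,4,5,4,5],
   [4,6,4,6],
   [4,7,4,7],
   [5,6,5,6],
   [5,7,5,7],
   [6,7,6,7,6,7],
   [2,1,0,2,3,4,2,6,7,2,1,0,2,3,4,2,6,7,2,1,0,2,3,4,2,6,7,2,1,0,2,3,4,2,6,7,2,1,0,2,3,4,2,6,7,2,1,0,2,3,4,2,6,7,2,1,0,2,3,4,2,6,7,2,1,0,2,3,4,2,6,7,2,1,0,2,3,4,2,6,7,2,1,0,2,3,4,2,6,7]]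

def spec : List (ℕ × ℕ × Bool) :=
  [(15,1,false), (21,1,false), (26,1,false), (30,1,false), (33,1,false), (35,1,false), (14,1,false), (20,1,false), (29,1,false), (32,1,false), (34,1,false), (36,0,false), (10,1,false), (23,0,false), (24,0,false), (25,0,false), (26,0,false), (16,0,false), (18,0,false), (19,0,false), (20,0,false), (21,0,false), (11,1,false), (22,1,false), (28,0,false), (29,0,false), (30,0,false), (9,0,false), (10,0,false), (12,0,false), (13,0,false), (14,0,false), (15,0,false), (17,1,false), (12,1,false), (23,1,false), (27,1,false), (32,0,false), (33,0,false), (16,1,false), (22,0,false), (18,1,false), (13,1,false), (24,1,false), (28,1,false), (31,1,false), (34,0,false), (35,0,false), (25,1,false), (19,1,false), (9,1,false), (17,0,false), (27,0,false), (36,1,false), (31,0,false), (11,0,false), (37,7,false), (37,3,true), (1,0,false), (2,0,false), (5,0,false), (8,0,false), (0,0,false), (3,0,false), (7,0,false), (4,0,false), (6,0,false),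 (37,5,false), (37,4,false), (37,5,true), (37,3,false), (37,2,true)]

end Cfsg.Lib.FiTwenty.D4
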