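import Cfsg.Agent.CosetCert.TabSplit
import Cfsg.Agent.FiTwenty.D5Part0
import Cfsg.Agent.FiTwenty.D5Part1
import Cfsg.Agent.FiTwenty.D5Part2
import Cfsg.Agent.FiTwenty.D5Part3
import Cfsg.Agent.FiTwenty.D5Part4

/-!
The certificate is valid.
-/

set_option autoImplicit false
set_option Elab.async false

namespace Cfsg.Lib.FiTwenty.D5

open Cfsg.Lib.CosetCert

theorem cat0x5_0_len : cat0x5_0.length = 16384 := by decide +kernel

theorem cat1x5_0_len : cat1x5_0.length = 16384 := by decide +kernel

theorem cat2x5_0_len : cat2x5_0.length = 16384 := by decide +kernel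

theorem cat3x5_0_len : cat3x5_0.length = 16384 := by decide +kernel

theorem cat4x5_0_len : cat4x5_0.length = 13713 := by decide +kernel

def top0_0 : List (ℕ × ℕ) := cat0x5_0 ++ cat1x5_0

theorem top0_0_len : top0_0.length = 32768 := by
  rw [top0_0, List.length_append, cat0x5_0_len, cat1x5_0_len]

theorem top0_0_ok : cert.stepsOK 0 top0_0 = true ∧ ruleBound spec.length top0_0 = true :=
  stepsOK_cat cat0x5_0_ok cat1x5_0_ok (by rw [cat0x5_0_len])

def top0_1 : List (ℕ × ℕ) := cat2x5_0 ++ cat3x5_0

theorem top0_1_len : top0_1.length = 32768 := by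
  rw [top0_1, List.length_append, cat2x5_0_len, cat3x5_0_len]

theorem top0_1_ok : cert.stepsOK 32768 top0_1 = true ∧ ruleBound spec.length top0_1 = true :=
  stepsOK_cat cat2x5_0_ok cat3x5_0_ok (by rw [cat2x5_0_len])

def top1_0 : List (ℕ × ℕ) := top0_0 ++ top0_1

theorem top1_0_len : top1_0.length = 65536 := by
  rw [top1_0, List.length_append, top0_0_len, top0_1_len]

theorem top1_0_ok : cert.stepsOK 0 top1_0 = true ∧ ruleBound spec.length top1_0 = true :=
  stepsOK_cat top0_0_ok top0_1_ok (by rw [top0_0_len])

def top2_0 : List (ℕ × ℕ) := top1_0 ++ cat4x5_0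

theorem top2_0_len : top2_0.length = 79249 := by
  rw [top2_0, List.length_append, top1_0_len, cat4x5_0_len]

theorem top2_0_ok : cert.stepsOK 0 top2_0 = true ∧ ruleBound spec.length top2_0 = true :=
  stepsOK_cat top1_0_ok cat4x5_0_ok (by rw [top1_0_len])

theorem spec_ok : cert.rotsOK rels spec = true := by decide +kernel

theorem top_length : top2_0.length = 79249 := top2_0_len

theorem tab0_ok : cert.tabPart 79249 0 400 = true := by decide +kernel

theorem tab1_ok : cert.tabPart 79249 400 400 = true := by decide +kernel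

theorem tab2_ok : cert.tabPart 79249 800 400 = true := by decide +kernel

theorem tab3_ok : cert.tabPart 79249 1200 400 = true := by decide +kernel

theorem tab4_ok : cert.tabPart 79249 1600 400 = true := by decide +kernel

theorem tab5_ok : cert.tabPart 79249 2000 400 = true := by decide +kernel

theorem tab6_ok : cert.tabPart 79249 2400 400 = true := by decide +kernel

theorem tab7_ok : cert.tabPart 79249 2800 400 = true := by decide +kernel

theorem tab8_ok : cert.tabPart 79249 3200 400 = true := by decide +kernel

theorem tab9_ok : cert.tabPart 79249 3600 400 = true := by decide +kernel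

theorem tab10_ok : cert.tabPart 79249 4000 400 = true := by decide +kernel

theorem tab11_ok : cert.tabPart 79249 4400 400 = true := by decide +kernel

theorem tab12_ok : cert.tabPart 79249 4800 400 = true := by decide +kernel

theorem tab13_ok : cert.tabPart 79249 5200 400 = true := by decide +kernel

theorem tab14_ok : cert.tabPart 79249 5600 400 = true := by decide +kernel

theorem tab15_ok : cert.tabPart 79249 6000 400 = true := by decide +kernel

theorem tab16_ok : cert.tabPart 79249 6400 400 = true := by decide +kernel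

theorem tab17_ok : cert.tabPart 79249 6800 400 = true := by decide +kernel

theorem tab18_ok : cert.tabPart 79249 7200 400 = true := by decide +kernel

theorem tab19_ok : cert.tabPart 79249 7600 400 = true := by decide +kernel

theorem tab20_ok : cert.tabPart 79249 8000 400 = true := by decide +kernel

theorem tab21_ok : cert.tabPart 79249 8400 400 = true := by decide +kernel

theorem tab22_ok : cert.tabPart 79249 8800 400 = true := by decide +kernel

theorem tab23_ok : cert.tabPart 79249 9200 400 = true := by decide +kernel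

theorem tab24_ok : cert.tabPart 79249 9600 400 = true := by decide +kernel

theorem tab25_ok : cert.tabPart 79249 10000 400 = true := by decide +kernel

theorem tab26_ok : cert.tabPart 79249 10400 400 = true := by decide +kernel

theorem tab27_ok : cert.tabPart 79249 10800 400 = true := by decide +kernel

theorem tab28_ok : cert.tabPart 79249 11200 400 = true := by decide +kernel

theorem tab29_ok : cert.tabPart 79249 11600 400 = true := by decide +kernel

theorem tab30_ok : cert.tabPart 79249 12000 400 = true := by decide +kernel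

theorem tab31_ok : cert.tabPart 79249 12400 400 = true := by decide +kernel

theorem tab32_ok : cert.tabPart 79249 12800 400 = true := by decide +kernel

theorem tab33_ok : cert.tabPart 79249 13200 400 = true := by decide +kernel

theorem tab34_ok : cert.tabPart 79249 13600 400 = true := by decide +kernel

theorem tab35_ok : cert.tabPart 79249 14000 80 = true := by decide +kernel

theorem tabTo1_ok : cert.tabPart 79249 0 800 = true :=
  Cert.tabPart_add (b := 400) (c := 400) tab0_ok (by rw [Nat.zero_add]; exact tab1_ok)

theorem tabTo2_ok : cert.tabPart 79249 0 1200 = true :=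
  Cert.tabPart_add (b := 800) (c := 400) tabTo1_ok (by rw [Nat.zero_add]; exact tab2_ok)

theorem tabTo3_ok : cert.tabPart 79249 0 1600 = true :=
  Cert.tabPart_add (b := 1200) (c := 400) tabTo2_ok (by rw [Nat.zero_add]; exact tab3_ok)

theorem tabTo4_ok : cert.tabPart 79249 0 2000 = true :=
  Cert.tabPart_add (b := 1600) (c := 400) tabTo3_ok (by rw [Nat.zero_add]; exact tab4_ok)

theorem tabTo5_ok : cert.tabPart 79249 0 2400 = true :=
  Cert.tabPart_add (b := 2000) (c := 400) tabTo4_ok (by rw [Nat.zero_add]; exact tab5_ok)

theorem tabTo6_ok : cert.tabPart 79249 0 2800 = true :=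
  Cert.tabPart_add (b := 2400) (c := 400) tabTo5_ok (by rw [Nat.zero_add]; exact tab6_ok)

theorem tabTo7_ok : cert.tabPart 79249 0 3200 = true :=
  Cert.tabPart_add (b := 2800) (c := 400) tabTo6_ok (by rw [Nat.zero_add]; exact tab7_ok)

theorem tabTo8_ok : cert.tabPart 79249 0 3600 = true :=
  Cert.tabPart_add (b := 3200) (c := 400) tabTo7_ok (by rw [Nat.zero_add]; exact tab8_ok)

theorem tabTo9_ok : cert.tabPart 79249 0 4000 = true :=
  Cert.tabPart_add (b := 3600) (c := 400) tabTo8_ok (by rw [Nat.zero_add]; exact tab9_ok)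

theorem tabTo10_ok : cert.tabPart 79249 0 4400 = true :=
  Cert.tabPart_add (b := 4000) (c := 400) tabTo9_ok (by rw [Nat.zero_add]; exact tab10_ok)

theorem tabTo11_ok : cert.tabPart 79249 0 4800 = true :=
  Cert.tabPart_add (b := 4400) (c := 400) tabTo10_ok (by rw [Nat.zero_add]; exact tab11_ok)

theorem tabTo12_ok : cert.tabPart 79249 0 5200 = true :=
  Cert.tabPart_add (b := 4800) (c := 400) tabTo11_ok (by rw [Nat.zero_add]; exact tab12_ok)

theorem tabTo13_ok : cert.tabPart 79249 0 5600 = true :=
  Cert.tabPart_add (b := 5200) (c := 400) tabTo12_ok (by rw [Nat.zero_add]; exact tab13_ok)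

theorem tabTo14_ok : cert.tabPart 79249 0 6000 = true :=
  Cert.tabPart_add (b := 5600) (c := 400) tabTo13_ok (by rw [Nat.zero_add]; exact tab14_ok)

theorem tabTo15_ok : cert.tabPart 79249 0 6400 = true :=
  Cert.tabPart_add (b := 6000) (c := 400) tabTo14_ok (by rw [Nat.zero_add]; exact tab15_ok)

theorem tabTo16_ok : cert.tabPart 79249 0 6800 = true :=
  Cert.tabPart_add (b := 6400) (c := 400) tabTo15_ok (by rw [Nat.zero_add]; exact tab16_ok)

theorem tabTo17_ok : cert.tabPart 79249 0 7200 = true :=
  Cert.tabPart_add (b := 6800) (c := 400) tabTo16_ok (by rw [Nat.zero_add]; exact tab17_ok)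

theorem tabTo18_ok : cert.tabPart 79249 0 7600 = true :=
  Cert.tabPart_add (b := 7200) (c := 400) tabTo17_ok (by rw [Nat.zero_add]; exact tab18_ok)

theorem tabTo19_ok : cert.tabPart 79249 0 8000 = true :=
  Cert.tabPart_add (b := 7600) (c := 400) tabTo18_ok (by rw [Nat.zero_add]; exact tab19_ok)

theorem tabTo20_ok : cert.tabPart 79249 0 8400 = true :=
  Cert.tabPart_add (b := 8000) (c := 400) tabTo19_ok (by rw [Nat.zero_add]; exact tab20_ok)

theorem tabTo21_ok : cert.tabPart 79249 0 8800 = true :=
  Cert.tabPart_add (b := 8400) (c := 400) tabTo20_ok (by rw [Nat.zero_add]; exact tab21_ok)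

theorem tabTo22_ok : cert.tabPart 79249 0 9200 = true :=
  Cert.tabPart_add (b := 8800) (c := 400) tabTo21_ok (by rw [Nat.zero_add]; exact tab22_ok)

theorem tabTo23_ok : cert.tabPart 79249 0 9600 = true :=
  Cert.tabPart_add (b := 9200) (c := 400) tabTo22_ok (by rw [Nat.zero_add]; exact tab23_ok)

theorem tabTo24_ok : cert.tabPart 79249 0 10000 = true :=
  Cert.tabPart_add (b := 9600) (c := 400) tabTo23_ok (by rw [Nat.zero_add]; exact tab24_ok)

theorem tabTo25_ok : cert.tabPart 79249 0 10400 = true :=
  Cert.tabPart_add (b := 10000) (c := 400) tabTo24_ok (by rw [Nat.zero_add]; exact tab25_ok)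

theorem tabTo26_ok : cert.tabPart 79249 0 10800 = true :=
  Cert.tabPart_add (b := 10400) (c := 400) tabTo25_ok (by rw [Nat.zero_add]; exact tab26_ok)

theorem tabTo27_ok : cert.tabPart 79249 0 11200 = true :=
  Cert.tabPart_add (b := 10800) (c := 400) tabTo26_ok (by rw [Nat.zero_add]; exact tab27_ok)

theorem tabTo28_ok : cert.tabPart 79249 0 11600 = true :=
  Cert.tabPart_add (b := 11200) (c := 400) tabTo27_ok (by rw [Nat.zero_add]; exact tab28_ok)

theorem tabTo29_ok : cert.tabPart 79249 0 12000 = true :=
  Cert.tabPart_add (b := 11600) (c := 400) tabTo28_ok (by rw [Nat.zero_add]; exact tab29_ok)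

theorem tabTo30_ok : cert.tabPart 79249 0 12400 = true :=
  Cert.tabPart_add (b := 12000) (c := 400) tabTo29_ok (by rw [Nat.zero_add]; exact tab30_ok)

theorem tabTo31_ok : cert.tabPart 79249 0 12800 = true :=
  Cert.tabPart_add (b := 12400) (c := 400) tabTo30_ok (by rw [Nat.zero_add]; exact tab31_ok)

theorem tabTo32_ok : cert.tabPart 79249 0 13200 = true :=
  Cert.tabPart_add (b := 12800) (c := 400) tabTo31_ok (by rw [Nat.zero_add]; exact tab32_ok)

theorem tabTo33_ok : cert.tabPart 79249 0 13600 = true :=
  Cert.tabPart_add (b := 13200) (c := 400) tabTo32_ok (by rw [Nat.zero_add]; exact tab33_ok)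

theorem tabTo34_ok : cert.tabPart 79249 0 14000 = true :=
  Cert.tabPart_add (b := 13600) (c := 400) tabTo33_ok (by rw [Nat.zero_add]; exact tab34_ok)

theorem tabTo35_ok : cert.tabPart 79249 0 14080 = true :=
  Cert.tabPart_add (b := 14000) (c := 80) tabTo34_ok (by rw [Nat.zero_add]; exact tab35_ok)

theorem tab_ok : cert.tabOK top2_0.length = true := by
  rw [top_length]
  exact Cert.tabOK_of_part (by decide +kernel) tabTo35_ok

theorem valid : cert.Valid rels :=
  ⟨by decide, spec, top2_0, spec_ok, top2_0_ok.1, top2_0_ok.2, tab_ok⟩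

theorem fins_length : cert.fin.length = 14080 := by rw [Cert.fin, List.length_map, List.length_range]; rfl

end Cfsg.Lib.FiTwenty.D5
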