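import Cfsg.Agent.CosetCert.TabSplit
import Cfsg.Agent.FiTwenty.D6Part0
import Cfsg.Agent.FiTwenty.D6Part1
import Cfsg.Agent.FiTwenty.D6Part2
import Cfsg.Agent.FiTwenty.D6Part3
import Cfsg.Agent.FiTwenty.D6Part4
import Cfsg.Agent.FiTwenty.D6Part5
import Cfsg.Agent.FiTwenty.D6Part6
import Cfsg.Agent.FiTwenty.D6Part7
import Cfsg.Agent.FiTwenty.D6Part8
import Cfsg.Agent.FiTwenty.D6Part9
import Cfsg.Agent.FiTwenty.D6Part10
import Cfsg.Agent.FiTwenty.D6Part11
import Cfsg.Agent.FiTwenty.D6Part12
import Cfsg.Agent.FiTwenty.D6Part13

/-!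
The certificate is valid.
-/

set_option autoImplicit false
set_option Elab.async false

namespace Cfsg.Lib.FiTwenty.D6

open Cfsg.Lib.CosetCert

theorem cat0x5_0_len : cat0x5_0.length = 16384 := by decide +kernel

theorem cat1x5_0_len : cat1x5_0.length = 16384 := by decide +kernel

theorem cat2x5_0_len : cat2x5_0.length = 16384 := by decide +kernel

theorem cat3x5_0_len : cat3x5_0.length = 16384 := by decide +kernel

theorem cat4x5_0_len : cat4x5_0.length = 16384 := by decide +kernel

theorem cat5x5_0_len : cat5x5_0.length = 16384 := by decide +kernel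

theorem cat6x5_0_len : cat6x5_0.length = 16384 := by decide +kernel

theorem cat7x5_0_len : cat7x5_0.length = 16384 := by decide +kernel

theorem cat8x5_0_len : cat8x5_0.length = 16384 := by decide +kernel

theorem cat9x5_0_len : cat9x5_0.length = 16384 := by decide +kernel

theorem cat10x5_0_len : cat10x5_0.length = 16384 := by decide +kernel

theorem cat11x5_0_len : cat11x5_0.length = 16384 := by decide +kernel

theorem cat12x5_0_len : cat12x5_0.length = 16384 := by decide +kernel

theorem cat13x5_0_len : cat13x5_0.length = 10104 := by decide +kernel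

def top0_0 : List (ℕ × ℕ) := cat0x5_0 ++ cat1x5_0

theorem top0_0_len : top0_0.length = 32768 := by
  rw [top0_0, List.length_append, cat0x5_0_len, cat1x5_0_len]

theorem top0_0_ok : cert.stepsOK 0 top0_0 = true ∧ ruleBound spec.length top0_0 = true :=
  stepsOK_cat cat0x5_0_ok cat1x5_0_ok (by rw [cat0x5_0_len])

def top0_1 : List (ℕ × ℕ) := cat2x5_0 ++ cat3x5_0

theorem top0_1_len : top0_1.length = 32768 := by
  rw [top0_1, List.length_append, cat2x5_0_len, cat3x5_0_len]

theorem top0_1_ok : cert.stepsOK 32768 top0_1 = true ∧ ruleBound spec.length top0_1 = true :=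
  stepsOK_cat cat2x5_0_ok cat3x5_0_ok (by rw [cat2x5_0_len])

def top0_2 : List (ℕ × ℕ) := cat4x5_0 ++ cat5x5_0

theorem top0_2_len : top0_2.length = 32768 := by
  rw [top0_2, List.length_append, cat4x5_0_len, cat5x5_0_len]

theorem top0_2_ok : cert.stepsOK 65536 top0_2 = true ∧ ruleBound spec.length top0_2 = true :=
  stepsOK_cat cat4x5_0_ok cat5x5_0_ok (by rw [cat4x5_0_len])

def top0_3 : List (ℕ × ℕ) := cat6x5_0 ++ cat7x5_0

theorem top0_3_len : top0_3.length = 32768 := by
  rw [top0_3, List.length_append, cat6x5_0_len, cat7x5_0_len]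

theorem top0_3_ok : cert.stepsOK 98304 top0_3 = true ∧ ruleBound spec.length top0_3 = true :=
  stepsOK_cat cat6x5_0_ok cat7x5_0_ok (by rw [cat6x5_0_len])

def top0_4 : List (ℕ × ℕ) := cat8x5_0 ++ cat9x5_0

theorem top0_4_len : top0_4.length = 32768 := by
  rw [top0_4, List.length_append, cat8x5_0_len, cat9x5_0_len]

theorem top0_4_ok : cert.stepsOK 131072 top0_4 = true ∧ ruleBound spec.length top0_4 = true :=
  stepsOK_cat cat8x5_0_ok cat9x5_0_ok (by rw [cat8x5_0_len])

def top0_5 : List (ℕ × ℕ) := cat10x5_0 ++ cat11x5_0

theorem top0_5_len : top0_5.length = 32768 := by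
  rw [top0_5, List.length_append, cat10x5_0_len, cat11x5_0_len]

theorem top0_5_ok : cert.stepsOK 163840 top0_5 = true ∧ ruleBound spec.length top0_5 = true :=
  stepsOK_cat cat10x5_0_ok cat11x5_0_ok (by rw [cat10x5_0_len])

def top0_6 : List (ℕ × ℕ) := cat12x5_0 ++ cat13x5_0

theorem top0_6_len : top0_6.length = 26488 := by
  rw [top0_6, List.length_append, cat12x5_0_len, cat13x5_0_len]

theorem top0_6_ok : cert.stepsOK 196608 top0_6 = true ∧ ruleBound spec.length top0_6 = true :=
  stepsOK_cat cat12x5_0_ok cat13x5_0_ok (by rw [cat12x5_0_len])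

def top1_0 : List (ℕ × ℕ) := top0_0 ++ top0_1

theorem top1_0_len : top1_0.length = 65536 := by
  rw [top1_0, List.length_append, top0_0_len, top0_1_len]

theorem top1_0_ok : cert.stepsOK 0 top1_0 = true ∧ ruleBound spec.length top1_0 = true :=
  stepsOK_cat top0_0_ok top0_1_ok (by rw [top0_0_len])

def top1_1 : List (ℕ × ℕ) := top0_2 ++ top0_3

theorem top1_1_len : top1_1.length = 65536 := by
  rw [top1_1, List.length_append, top0_2_len, top0_3_len]

theorem top1_1_ok : cert.stepsOK 65536 top1_1 = true ∧ ruleBound spec.length top1_1 = true :=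
  stepsOK_cat top0_2_ok top0_3_ok (by rw [top0_2_len])

def top1_2 : List (ℕ × ℕ) := top0_4 ++ top0_5

theorem top1_2_len : top1_2.length = 65536 := by
  rw [top1_2, List.length_append, top0_4_len, top0_5_len]

theorem top1_2_ok : cert.stepsOK 131072 top1_2 = true ∧ ruleBound spec.length top1_2 = true :=
  stepsOK_cat top0_4_ok top0_5_ok (by rw [top0_4_len])

def top2_0 : List (ℕ × ℕ) := top1_0 ++ top1_1

theorem top2_0_len : top2_0.length = 131072 := by
  rw [top2_0, List.length_append, top1_0_len, top1_1_len]

theorem top2_0_ok : cert.stepsOK 0 top2_0 = true ∧ ruleBound spec.length top2_0 = true :=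
  stepsOK_cat top1_0_ok top1_1_ok (by rw [top1_0_len])

def top2_1 : List (ℕ × ℕ) := top1_2 ++ top0_6

theorem top2_1_len : top2_1.length = 92024 := by
  rw [top2_1, List.length_append, top1_2_len, top0_6_len]

theorem top2_1_ok : cert.stepsOK 131072 top2_1 = true ∧ ruleBound spec.length top2_1 = true :=
  stepsOK_cat top1_2_ok top0_6_ok (by rw [top1_2_len])

def top3_0 : List (ℕ × ℕ) := top2_0 ++ top2_1

theorem top3_0_len : top3_0.length = 223096 := by
  rw [top3_0, List.length_append, top2_0_len, top2_1_len]

theorem top3_0_ok : cert.stepsOK 0 top3_0 = true ∧ ruleBound spec.length top3_0 = true :=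
  stepsOK_cat top2_0_ok top2_1_ok (by rw [top2_0_len])

theorem spec_ok : cert.rotsOK rels spec = true := by decide +kernel

theorem top_length : top3_0.length = 223096 := top3_0_len

theorem tab0_ok : cert.tabPart 223096 0 400 = true := by decide +kernel

theorem tab1_ok : cert.tabPart 223096 400 400 = true := by decide +kernel

theorem tab2_ok : cert.tabPart 223096 800 400 = true := by decide +kernel

theorem tab3_ok : cert.tabPart 223096 1200 400 = true := by decide +kernel

theorem tab4_ok : cert.tabPart 223096 1600 400 = true := by decide +kernel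

theorem tab5_ok : cert.tabPart 223096 2000 400 = true := by decide +kernel

theorem tab6_ok : cert.tabPart 223096 2400 400 = true := by decide +kernel

theorem tab7_ok : cert.tabPart 223096 2800 400 = true := by decide +kernel

theorem tab8_ok : cert.tabPart 223096 3200 400 = true := by decide +kernel

theorem tab9_ok : cert.tabPart 223096 3600 400 = true := by decide +kernel

theorem tab10_ok : cert.tabPart 223096 4000 400 = true := by decide +kernel

theorem tab11_ok : cert.tabPart 223096 4400 400 = true := by decide +kernel

theorem tab12_ok : cert.tabPart 223096 4800 400 = true := by decide +kernel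

theorem tab13_ok : cert.tabPart 223096 5200 400 = true := by decide +kernel

theorem tab14_ok : cert.tabPart 223096 5600 400 = true := by decide +kernel

theorem tab15_ok : cert.tabPart 223096 6000 400 = true := by decide +kernel

theorem tab16_ok : cert.tabPart 223096 6400 400 = true := by decide +kernel

theorem tab17_ok : cert.tabPart 223096 6800 400 = true := by decide +kernel

theorem tab18_ok : cert.tabPart 223096 7200 400 = true := by decide +kernel

theorem tab19_ok : cert.tabPart 223096 7600 400 = true := by decide +kernel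

theorem tab20_ok : cert.tabPart 223096 8000 400 = true := by decide +kernel

theorem tab21_ok : cert.tabPart 223096 8400 400 = true := by decide +kernel

theorem tab22_ok : cert.tabPart 223096 8800 400 = true := by decide +kernel

theorem tab23_ok : cert.tabPart 223096 9200 400 = true := by decide +kernel

theorem tab24_ok : cert.tabPart 223096 9600 400 = true := by decide +kernel

theorem tab25_ok : cert.tabPart 223096 10000 400 = true := by decide +kernel

theorem tab26_ok : cert.tabPart 223096 10400 400 = true := by decide +kernel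

theorem tab27_ok : cert.tabPart 223096 10800 400 = true := by decide +kernel

theorem tab28_ok : cert.tabPart 223096 11200 400 = true := by decide +kernel

theorem tab29_ok : cert.tabPart 223096 11600 400 = true := by decide +kernel

theorem tab30_ok : cert.tabPart 223096 12000 400 = true := by decide +kernel

theorem tab31_ok : cert.tabPart 223096 12400 400 = true := by decide +kernel

theorem tab32_ok : cert.tabPart 223096 12800 400 = true := by decide +kernel

theorem tab33_ok : cert.tabPart 223096 13200 400 = true := by decide +kernel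

theorem tab34_ok : cert.tabPart 223096 13600 400 = true := by decide +kernel

theorem tab35_ok : cert.tabPart 223096 14000 400 = true := by decide +kernel

theorem tab36_ok : cert.tabPart 223096 14400 400 = true := by decide +kernel

theorem tab37_ok : cert.tabPart 223096 14800 400 = true := by decide +kernel

theorem tab38_ok : cert.tabPart 223096 15200 400 = true := by decide +kernel

theorem tab39_ok : cert.tabPart 223096 15600 400 = true := by decide +kernel

theorem tab40_ok : cert.tabPart 223096 16000 400 = true := by decide +kernel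

theorem tab41_ok : cert.tabPart 223096 16400 400 = true := by decide +kernel

theorem tab42_ok : cert.tabPart 223096 16800 400 = true := by decide +kernel

theorem tab43_ok : cert.tabPart 223096 17200 400 = true := by decide +kernel

theorem tab44_ok : cert.tabPart 223096 17600 400 = true := by decide +kernel

theorem tab45_ok : cert.tabPart 223096 18000 400 = true := by decide +kernel

theorem tab46_ok : cert.tabPart 223096 18400 400 = true := by decide +kernel

theorem tab47_ok : cert.tabPart 223096 18800 400 = true := by decide +kernel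

theorem tab48_ok : cert.tabPart 223096 19200 400 = true := by decide +kernel

theorem tab49_ok : cert.tabPart 223096 19600 400 = true := by decide +kernel

theorem tab50_ok : cert.tabPart 223096 20000 400 = true := by decide +kernel

theorem tab51_ok : cert.tabPart 223096 20400 400 = true := by decide +kernel

theorem tab52_ok : cert.tabPart 223096 20800 400 = true := by decide +kernel

theorem tab53_ok : cert.tabPart 223096 21200 400 = true := by decide +kernel

theorem tab54_ok : cert.tabPart 223096 21600 400 = true := by decide +kernel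

theorem tab55_ok : cert.tabPart 223096 22000 400 = true := by decide +kernel

theorem tab56_ok : cert.tabPart 223096 22400 400 = true := by decide +kernel

theorem tab57_ok : cert.tabPart 223096 22800 400 = true := by decide +kernel

theorem tab58_ok : cert.tabPart 223096 23200 400 = true := by decide +kernel

theorem tab59_ok : cert.tabPart 223096 23600 400 = true := by decide +kernel

theorem tab60_ok : cert.tabPart 223096 24000 400 = true := by decide +kernel

theorem tab61_ok : cert.tabPart 223096 24400 400 = true := by decide +kernel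

theorem tab62_ok : cert.tabPart 223096 24800 400 = true := by decide +kernel

theorem tab63_ok : cert.tabPart 223096 25200 400 = true := by decide +kernel

theorem tab64_ok : cert.tabPart 223096 25600 400 = true := by decide +kernel

theorem tab65_ok : cert.tabPart 223096 26000 400 = true := by decide +kernel

theorem tab66_ok : cert.tabPart 223096 26400 400 = true := by decide +kernel

theorem tab67_ok : cert.tabPart 223096 26800 400 = true := by decide +kernel

theorem tab68_ok : cert.tabPart 223096 27200 400 = true := by decide +kernel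

theorem tab69_ok : cert.tabPart 223096 27600 400 = true := by decide +kernel

theorem tab70_ok : cert.tabPart 223096 28000 400 = true := by decide +kernel

theorem tab71_ok : cert.tabPart 223096 28400 400 = true := by decide +kernel

theorem tab72_ok : cert.tabPart 223096 28800 400 = true := by decide +kernel

theorem tab73_ok : cert.tabPart 223096 29200 400 = true := by decide +kernel

theorem tab74_ok : cert.tabPart 223096 29600 400 = true := by decide +kernel

theorem tab75_ok : cert.tabPart 223096 30000 400 = true := by decide +kernel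

theorem tab76_ok : cert.tabPart 223096 30400 400 = true := by decide +kernel

theorem tab77_ok : cert.tabPart 223096 30800 400 = true := by decide +kernel

theorem tab78_ok : cert.tabPart 223096 31200 400 = true := by decide +kernel

theorem tab79_ok : cert.tabPart 223096 31600 71 = true := by decide +kernel

theorem tabTo1_ok : cert.tabPart 223096 0 800 = true :=
  Cert.tabPart_add (b := 400) (c := 400) tab0_ok (by rw [Nat.zero_add]; exact tab1_ok)

theorem tabTo2_ok : cert.tabPart 223096 0 1200 = true :=
  Cert.tabPart_add (b := 800) (c := 400) tabTo1_ok (by rw [Nat.zero_add]; exact tab2_ok)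

theorem tabTo3_ok : cert.tabPart 223096 0 1600 = true :=
  Cert.tabPart_add (b := 1200) (c := 400) tabTo2_ok (by rw [Nat.zero_add]; exact tab3_ok)

theorem tabTo4_ok : cert.tabPart 223096 0 2000 = true :=
  Cert.tabPart_add (b := 1600) (c := 400) tabTo3_ok (by rw [Nat.zero_add]; exact tab4_ok)

theorem tabTo5_ok : cert.tabPart 223096 0 2400 = true :=
  Cert.tabPart_add (b := 2000) (c := 400) tabTo4_ok (by rw [Nat.zero_add]; exact tab5_ok)

theorem tabTo6_ok : cert.tabPart 223096 0 2800 = true :=
  Cert.tabPart_add (b := 2400) (c := 400) tabTo5_ok (by rw [Nat.zero_add]; exact tab6_ok)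

theorem tabTo7_ok : cert.tabPart 223096 0 3200 = true :=
  Cert.tabPart_add (b := 2800) (c := 400) tabTo6_ok (by rw [Nat.zero_add]; exact tab7_ok)

theorem tabTo8_ok : cert.tabPart 223096 0 3600 = true :=
  Cert.tabPart_add (b := 3200) (c := 400) tabTo7_ok (by rw [Nat.zero_add]; exact tab8_ok)

theorem tabTo9_ok : cert.tabPart 223096 0 4000 = true :=
  Cert.tabPart_add (b := 3600) (c := 400) tabTo8_ok (by rw [Nat.zero_add]; exact tab9_ok)

theorem tabTo10_ok : cert.tabPart 223096 0 4400 = true :=
  Cert.tabPart_add (b := 4000) (c := 400) tabTo9_ok (by rw [Nat.zero_add]; exact tab10_ok)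

theorem tabTo11_ok : cert.tabPart 223096 0 4800 = true :=
  Cert.tabPart_add (b := 4400) (c := 400) tabTo10_ok (by rw [Nat.zero_add]; exact tab11_ok)

theorem tabTo12_ok : cert.tabPart 223096 0 5200 = true :=
  Cert.tabPart_add (b := 4800) (c := 400) tabTo11_ok (by rw [Nat.zero_add]; exact tab12_ok)

theorem tabTo13_ok : cert.tabPart 223096 0 5600 = true :=
  Cert.tabPart_add (b := 5200) (c := 400) tabTo12_ok (by rw [Nat.zero_add]; exact tab13_ok)

theorem tabTo14_ok : cert.tabPart 223096 0 6000 = true :=
  Cert.tabPart_add (b := 5600) (c := 400) tabTo13_ok (by rw [Nat.zero_add]; exact tab14_ok)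

theorem tabTo15_ok : cert.tabPart 223096 0 6400 = true :=
  Cert.tabPart_add (b := 6000) (c := 400) tabTo14_ok (by rw [Nat.zero_add]; exact tab15_ok)

theorem tabTo16_ok : cert.tabPart 223096 0 6800 = true :=
  Cert.tabPart_add (b := 6400) (c := 400) tabTo15_ok (by rw [Nat.zero_add]; exact tab16_ok)

theorem tabTo17_ok : cert.tabPart 223096 0 7200 = true :=
  Cert.tabPart_add (b := 6800) (c := 400) tabTo16_ok (by rw [Nat.zero_add]; exact tab17_ok)

theorem tabTo18_ok : cert.tabPart 223096 0 7600 = true :=
  Cert.tabPart_add (b := 7200) (c := 400) tabTo17_ok (by rw [Nat.zero_add]; exact tab18_ok)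

theorem tabTo19_ok : cert.tabPart 223096 0 8000 = true :=
  Cert.tabPart_add (b := 7600) (c := 400) tabTo18_ok (by rw [Nat.zero_add]; exact tab19_ok)

theorem tabTo20_ok : cert.tabPart 223096 0 8400 = true :=
  Cert.tabPart_add (b := 8000) (c := 400) tabTo19_ok (by rw [Nat.zero_add]; exact tab20_ok)

theorem tabTo21_ok : cert.tabPart 223096 0 8800 = true :=
  Cert.tabPart_add (b := 8400) (c := 400) tabTo20_ok (by rw [Nat.zero_add]; exact tab21_ok)

theorem tabTo22_ok : cert.tabPart 223096 0 9200 = true :=
  Cert.tabPart_add (b := 8800) (c := 400) tabTo21_ok (by rw [Nat.zero_add]; exact tab22_ok)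

theorem tabTo23_ok : cert.tabPart 223096 0 9600 = true :=
  Cert.tabPart_add (b := 9200) (c := 400) tabTo22_ok (by rw [Nat.zero_add]; exact tab23_ok)

theorem tabTo24_ok : cert.tabPart 223096 0 10000 = true :=
  Cert.tabPart_add (b := 9600) (c := 400) tabTo23_ok (by rw [Nat.zero_add]; exact tab24_ok)

theorem tabTo25_ok : cert.tabPart 223096 0 10400 = true :=
  Cert.tabPart_add (b := 10000) (c := 400) tabTo24_ok (by rw [Nat.zero_add]; exact tab25_ok)

theorem tabTo26_ok : cert.tabPart 223096 0 10800 = true :=
  Cert.tabPart_add (b := 10400) (c := 400) tabTo25_ok (by rw [Nat.zero_add]; exact tab26_ok)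

theorem tabTo27_ok : cert.tabPart 223096 0 11200 = true :=
  Cert.tabPart_add (b := 10800) (c := 400) tabTo26_ok (by rw [Nat.zero_add]; exact tab27_ok)

theorem tabTo28_ok : cert.tabPart 223096 0 11600 = true :=
  Cert.tabPart_add (b := 11200) (c := 400) tabTo27_ok (by rw [Nat.zero_add]; exact tab28_ok)

theorem tabTo29_ok : cert.tabPart 223096 0 12000 = true :=
  Cert.tabPart_add (b := 11600) (c := 400) tabTo28_ok (by rw [Nat.zero_add]; exact tab29_ok)

theorem tabTo30_ok : cert.tabPart 223096 0 12400 = true :=
  Cert.tabPart_add (b := 12000) (c := 400) tabTo29_ok (by rw [Nat.zero_add]; exact tab30_ok)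

theorem tabTo31_ok : cert.tabPart 223096 0 12800 = true :=
  Cert.tabPart_add (b := 12400) (c := 400) tabTo30_ok (by rw [Nat.zero_add]; exact tab31_ok)

theorem tabTo32_ok : cert.tabPart 223096 0 13200 = true :=
  Cert.tabPart_add (b := 12800) (c := 400) tabTo31_ok (by rw [Nat.zero_add]; exact tab32_ok)

theorem tabTo33_ok : cert.tabPart 223096 0 13600 = true :=
  Cert.tabPart_add (b := 13200) (c := 400) tabTo32_ok (by rw [Nat.zero_add]; exact tab33_ok)

theorem tabTo34_ok : cert.tabPart 223096 0 14000 = true :=
  Cert.tabPart_add (b := 13600) (c := 400) tabTo33_ok (by rw [Nat.zero_add]; exact tab34_ok)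

theorem tabTo35_ok : cert.tabPart 223096 0 14400 = true :=
  Cert.tabPart_add (b := 14000) (c := 400) tabTo34_ok (by rw [Nat.zero_add]; exact tab35_ok)

theorem tabTo36_ok : cert.tabPart 223096 0 14800 = true :=
  Cert.tabPart_add (b := 14400) (c := 400) tabTo35_ok (by rw [Nat.zero_add]; exact tab36_ok)

theorem tabTo37_ok : cert.tabPart 223096 0 15200 = true :=
  Cert.tabPart_add (b := 14800) (c := 400) tabTo36_ok (by rw [Nat.zero_add]; exact tab37_ok)

theorem tabTo38_ok : cert.tabPart 223096 0 15600 = true :=
  Cert.tabPart_add (b := 15200) (c := 400) tabTo37_ok (by rw [Nat.zero_add]; exact tab38_ok)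

theorem tabTo39_ok : cert.tabPart 223096 0 16000 = true :=
  Cert.tabPart_add (b := 15600) (c := 400) tabTo38_ok (by rw [Nat.zero_add]; exact tab39_ok)

theorem tabTo40_ok : cert.tabPart 223096 0 16400 = true :=
  Cert.tabPart_add (b := 16000) (c := 400) tabTo39_ok (by rw [Nat.zero_add]; exact tab40_ok)

theorem tabTo41_ok : cert.tabPart 223096 0 16800 = true :=
  Cert.tabPart_add (b := 16400) (c := 400) tabTo40_ok (by rw [Nat.zero_add]; exact tab41_ok)

theorem tabTo42_ok : cert.tabPart 223096 0 17200 = true :=
  Cert.tabPart_add (b := 16800) (c := 400) tabTo41_ok (by rw [Nat.zero_add]; exact tab42_ok)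

theorem tabTo43_ok : cert.tabPart 223096 0 17600 = true :=
  Cert.tabPart_add (b := 17200) (c := 400) tabTo42_ok (by rw [Nat.zero_add]; exact tab43_ok)

theorem tabTo44_ok : cert.tabPart 223096 0 18000 = true :=
  Cert.tabPart_add (b := 17600) (c := 400) tabTo43_ok (by rw [Nat.zero_add]; exact tab44_ok)

theorem tabTo45_ok : cert.tabPart 223096 0 18400 = true :=
  Cert.tabPart_add (b := 18000) (c := 400) tabTo44_ok (by rw [Nat.zero_add]; exact tab45_ok)

theorem tabTo46_ok : cert.tabPart 223096 0 18800 = true :=
  Cert.tabPart_add (b := 18400) (c := 400) tabTo45_ok (by rw [Nat.zero_add]; exact tab46_ok)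

theorem tabTo47_ok : cert.tabPart 223096 0 19200 = true :=
  Cert.tabPart_add (b := 18800) (c := 400) tabTo46_ok (by rw [Nat.zero_add]; exact tab47_ok)

theorem tabTo48_ok : cert.tabPart 223096 0 19600 = true :=
  Cert.tabPart_add (b := 19200) (c := 400) tabTo47_ok (by rw [Nat.zero_add]; exact tab48_ok)

theorem tabTo49_ok : cert.tabPart 223096 0 20000 = true :=
  Cert.tabPart_add (b := 19600) (c := 400) tabTo48_ok (by rw [Nat.zero_add]; exact tab49_ok)

theorem tabTo50_ok : cert.tabPart 223096 0 20400 = true :=
  Cert.tabPart_add (b := 20000) (c := 400) tabTo49_ok (by rw [Nat.zero_add]; exact tab50_ok)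

theorem tabTo51_ok : cert.tabPart 223096 0 20800 = true :=
  Cert.tabPart_add (b := 20400) (c := 400) tabTo50_ok (by rw [Nat.zero_add]; exact tab51_ok)

theorem tabTo52_ok : cert.tabPart 223096 0 21200 = true :=
  Cert.tabPart_add (b := 20800) (c := 400) tabTo51_ok (by rw [Nat.zero_add]; exact tab52_ok)

theorem tabTo53_ok : cert.tabPart 223096 0 21600 = true :=
  Cert.tabPart_add (b := 21200) (c := 400) tabTo52_ok (by rw [Nat.zero_add]; exact tab53_ok)

theorem tabTo54_ok : cert.tabPart 223096 0 22000 = true :=
  Cert.tabPart_add (b := 21600) (c := 400) tabTo53_ok (by rw [Nat.zero_add]; exact tab54_ok)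

theorem tabTo55_ok : cert.tabPart 223096 0 22400 = true :=
  Cert.tabPart_add (b := 22000) (c := 400) tabTo54_ok (by rw [Nat.zero_add]; exact tab55_ok)

theorem tabTo56_ok : cert.tabPart 223096 0 22800 = true :=
  Cert.tabPart_add (b := 22400) (c := 400) tabTo55_ok (by rw [Nat.zero_add]; exact tab56_ok)

theorem tabTo57_ok : cert.tabPart 223096 0 23200 = true :=
  Cert.tabPart_add (b := 22800) (c := 400) tabTo56_ok (by rw [Nat.zero_add]; exact tab57_ok)

theorem tabTo58_ok : cert.tabPart 223096 0 23600 = true :=
  Cert.tabPart_add (b := 23200) (c := 400) tabTo57_ok (by rw [Nat.zero_add]; exact tab58_ok)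

theorem tabTo59_ok : cert.tabPart 223096 0 24000 = true :=
  Cert.tabPart_add (b := 23600) (c := 400) tabTo58_ok (by rw [Nat.zero_add]; exact tab59_ok)

theorem tabTo60_ok : cert.tabPart 223096 0 24400 = true :=
  Cert.tabPart_add (b := 24000) (c := 400) tabTo59_ok (by rw [Nat.zero_add]; exact tab60_ok)

theorem tabTo61_ok : cert.tabPart 223096 0 24800 = true :=
  Cert.tabPart_add (b := 24400) (c := 400) tabTo60_ok (by rw [Nat.zero_add]; exact tab61_ok)

theorem tabTo62_ok : cert.tabPart 223096 0 25200 = true :=
  Cert.tabPart_add (b := 24800) (c := 400) tabTo61_ok (by rw [Nat.zero_add]; exact tab62_ok)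

theorem tabTo63_ok : cert.tabPart 223096 0 25600 = true :=
  Cert.tabPart_add (b := 25200) (c := 400) tabTo62_ok (by rw [Nat.zero_add]; exact tab63_ok)

theorem tabTo64_ok : cert.tabPart 223096 0 26000 = true :=
  Cert.tabPart_add (b := 25600) (c := 400) tabTo63_ok (by rw [Nat.zero_add]; exact tab64_ok)

theorem tabTo65_ok : cert.tabPart 223096 0 26400 = true :=
  Cert.tabPart_add (b := 26000) (c := 400) tabTo64_ok (by rw [Nat.zero_add]; exact tab65_ok)

theorem tabTo66_ok : cert.tabPart 223096 0 26800 = true :=
  Cert.tabPart_add (b := 26400) (c := 400) tabTo65_ok (by rw [Nat.zero_add]; exact tab66_ok)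

theorem tabTo67_ok : cert.tabPart 223096 0 27200 = true :=
  Cert.tabPart_add (b := 26800) (c := 400) tabTo66_ok (by rw [Nat.zero_add]; exact tab67_ok)

theorem tabTo68_ok : cert.tabPart 223096 0 27600 = true :=
  Cert.tabPart_add (b := 27200) (c := 400) tabTo67_ok (by rw [Nat.zero_add]; exact tab68_ok)

theorem tabTo69_ok : cert.tabPart 223096 0 28000 = true :=
  Cert.tabPart_add (b := 27600) (c := 400) tabTo68_ok (by rw [Nat.zero_add]; exact tab69_ok)

theorem tabTo70_ok : cert.tabPart 223096 0 28400 = true :=
  Cert.tabPart_add (b := 28000) (c := 400) tabTo69_ok (by rw [Nat.zero_add]; exact tab70_ok)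

theorem tabTo71_ok : cert.tabPart 223096 0 28800 = true :=
  Cert.tabPart_add (b := 28400) (c := 400) tabTo70_ok (by rw [Nat.zero_add]; exact tab71_ok)

theorem tabTo72_ok : cert.tabPart 223096 0 29200 = true :=
  Cert.tabPart_add (b := 28800) (c := 400) tabTo71_ok (by rw [Nat.zero_add]; exact tab72_ok)

theorem tabTo73_ok : cert.tabPart 223096 0 29600 = true :=
  Cert.tabPart_add (b := 29200) (c := 400) tabTo72_ok (by rw [Nat.zero_add]; exact tab73_ok)

theorem tabTo74_ok : cert.tabPart 223096 0 30000 = true :=
  Cert.tabPart_add (b := 29600) (c := 400) tabTo73_ok (by rw [Nat.zero_add]; exact tab74_ok)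

theorem tabTo75_ok : cert.tabPart 223096 0 30400 = true :=
  Cert.tabPart_add (b := 30000) (c := 400) tabTo74_ok (by rw [Nat.zero_add]; exact tab75_ok)

theorem tabTo76_ok : cert.tabPart 223096 0 30800 = true :=
  Cert.tabPart_add (b := 30400) (c := 400) tabTo75_ok (by rw [Nat.zero_add]; exact tab76_ok)

theorem tabTo77_ok : cert.tabPart 223096 0 31200 = true :=
  Cert.tabPart_add (b := 30800) (c := 400) tabTo76_ok (by rw [Nat.zero_add]; exact tab77_ok)

theorem tabTo78_ok : cert.tabPart 223096 0 31600 = true :=
  Cert.tabPart_add (b := 31200) (c := 400) tabTo77_ok (by rw [Nat.zero_add]; exact tab78_ok)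

theorem tabTo79_ok : cert.tabPart 223096 0 31671 = true :=
  Cert.tabPart_add (b := 31600) (c := 71) tabTo78_ok (by rw [Nat.zero_add]; exact tab79_ok)

theorem tab_ok : cert.tabOK top3_0.length = true := by
  rw [top_length]
  exact Cert.tabOK_of_part (by decide +kernel) tabTo79_ok

theorem valid : cert.Valid rels :=
  ⟨by decide, spec, top3_0, spec_ok, top3_0_ok.1, top3_0_ok.2, tab_ok⟩

theorem fins_length : cert.fin.length = 31671 := by rw [Cert.fin, List.length_map, List.length_range]; rfl

end Cfsg.Lib.FiTwenty.D6
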