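import Cfsg.Agent.FiPres.AutPoints
import Cfsg.Agent.FiTwenty.ThirteenData

/-!
An element of order thirteen of the presented group on nine letters commutes only with its powers.
-/

set_option autoImplicit false
set_option Elab.async false
set_option maxRecDepth 20000

namespace Cfsg.Lib.FiTwenty

open Cfsg.Lib.CosetCert Cfsg.Lib.PermCert
open Cfsg.Lib.FiPres (sigTabs psi im10 tr tr_orbit tr_smul tr_fix p0 tabled smul_eq factG transp mem_transp)

/-- The word of a transposition through a point. -/
def trW (u : List ℕ) : List ℕ := u.reverse ++ 0 :: u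

/-- The word of a power. -/
def powW (k : ℕ) : List ℕ := (List.replicate k word13).flatten

/-- The word of the conjugate of a transposition by a power. -/
def shiftW (u : List ℕ) (j : ℕ) : List ℕ := (powW j).reverse ++ (trW u ++ powW j)

/-- The distinguishing relation at a representative. -/
def relTest (u : List ℕ) (k j : ℕ) : Bool :=
  let c := evalW sigTabs (powW k ++ trW u) (evalW sigTabs u 0)
  evalW sigTabs (shiftW u j) c == c

theorem others_ok : (otherPts.all fun e => (e.1.all fun l => decide (l < 9)) && decide (e.2.1 < 13) &&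
    decide (e.2.2 < 13) && (relTest topPt e.2.1 e.2.2 != relTest e.1 e.2.1 e.2.2)) = true := by decide +kernel

/-- All points near the representatives. -/
def coverMask : ℕ :=
  ((topPt :: otherPts.map Prod.fst).flatMap fun u => (List.range 13).map fun k =>
    evalW sigTabs (powW k) (evalW sigTabs u 0)).foldl (fun s q => s ||| 1 <<< q) 0

theorem cover13 : ((List.range 3510).all fun j => coverMask.testBit j) = true := by decide +kernel

/-- The transpositions at the top orbit, as generators. -/
def closeLev : Lev where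
  b := evalW sigTabs topPt 0
  gens := (List.range 13).map (shiftW topPt)
  orb := closeTree

theorem close_ok : (closeLev.ok sigTabs 3510 &&
    closeLev.gens.all (fun w => w.all fun l => decide (l < sigTabs.length)) &&
    (List.range 3510).all fun j => (treeMask closeLev.orb (1 <<< closeLev.b)).testBit j) = true := by decide +kernel

theorem word13_small : (word13.all fun l => decide (l < 9)) = true ∧ (topPt.all fun l => decide (l < 9)) = true ∧
    trivWord 3510 sigTabs (powW 13) = true := by decide +kernel

/-- The inverse of the element of order thirteen. -/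
noncomputable def x13 : Cfsg.Spor.Fi22 := (wval im10 word13)⁻¹

theorem x13_pow : x13 ^ 13 = 1 := by
  rw [x13, inv_pow, inv_eq_one, ← Cfsg.Lib.FiPres.wval_rpt]
  exact factG.2 ((tabled.trivWord_sound word13_small.2.2).trans (map_one psi).symm)

theorem w13_lt {l : ℕ} (h : l ∈ word13) : l < sigTabs.length :=
  Nat.lt_trans (decide_eq_true_eq.mp (List.all_eq_true.1 word13_small.1 l h)) (by decide)

theorem powW_lt (k : ℕ) {l : ℕ} (h : l ∈ powW k) : l < sigTabs.length := by
  obtain ⟨v, hv, hl⟩ := List.mem_flatten.1 h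
  rw [List.eq_of_mem_replicate hv] at hl
  exact w13_lt hl

theorem eval_smul {w : List ℕ} (h : ∀ l ∈ w, l < sigTabs.length) (z : Fin 3510) :
    (((wval im10 w)⁻¹ • z : Fin 3510) : ℕ) = evalW sigTabs w z := by
  rw [smul_eq, map_inv]
  exact evalW_apply im10 psi sigTabs tabled.act w h z

theorem powW_smul (k : ℕ) (z : Fin 3510) : ((x13 ^ k • z : Fin 3510) : ℕ) = evalW sigTabs (powW k) z := by
  rw [← eval_smul (fun l => powW_lt k) z, x13, inv_pow]
  rw [show wval im10 (powW k) = wval im10 word13 ^ k from Cfsg.Lib.FiPres.wval_rpt im10 k word13]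

/-- The point of a word. -/
noncomputable def ptW (u : List ℕ) : Fin 3510 := (wval im10 u)⁻¹ • p0

theorem ptW_val {u : List ℕ} (hu : ∀ l ∈ u, l < 9) : ((ptW u : Fin 3510) : ℕ) = evalW sigTabs u 0 :=
  eval_smul (fun l hl => Nat.lt_trans (hu l hl) (by decide)) p0

theorem sq10 {l : ℕ} (hl : l < sigTabs.length) : im10 l * im10 l = 1 := tabled.sq l hl

theorem trW_val {u : List ℕ} (hu : ∀ l ∈ u, l < 9) : wval im10 (trW u) = tr (ptW u) ∧
    (wval im10 (trW u))⁻¹ = tr (ptW u) := by
  have h : ∀ l ∈ u, l < sigTabs.length := fun l hl => Nat.lt_trans (hu l hl) (by decide)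
  have e : wval im10 (trW u) = tr (ptW u) := by
    rw [trW, ptW, tr_orbit, Cfsg.Lib.FiPres.wval_append, Cfsg.Lib.FiPres.wval_cons,
      wval_reverse im10 fun l hl => sq10 (h l hl), inv_inv]
    group
  refine ⟨e, ?_⟩
  rw [e, ptW, tr_orbit, mul_inv_rev, mul_inv_rev, inv_inv,
    inv_eq_of_mul_eq_one_left Cfsg.Lib.FiPres.im10_zero_sq, mul_assoc]

theorem trW_lt {u : List ℕ} (hu : ∀ l ∈ u, l < 9) : ∀ l ∈ trW u, l < sigTabs.length := by
  intro l hl
  have h0 : 0 < sigTabs.length := by decide
  rcases List.mem_append.1 hl with h | h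
  · exact Nat.lt_trans (hu l (List.mem_reverse.1 h)) (by decide)
  · rcases List.mem_cons.1 h with rfl | h
    · exact h0
    · exact Nat.lt_trans (hu l h) (by decide)

theorem shiftW_lt {u : List ℕ} (hu : ∀ l ∈ u, l < 9) (j : ℕ) : ∀ l ∈ shiftW u j, l < sigTabs.length := by
  intro l hl
  rcases List.mem_append.1 hl with h | h
  · exact powW_lt j (List.mem_reverse.1 h)
  · rcases List.mem_append.1 h with h | h
    · exact trW_lt hu l h
    · exact powW_lt j h

theorem shiftW_val {u : List ℕ} (hu : ∀ l ∈ u, l < 9) (j : ℕ) :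
    (wval im10 (shiftW u j))⁻¹ = tr (x13 ^ j • ptW u) := by
  rw [shiftW, Cfsg.Lib.FiPres.wval_append, Cfsg.Lib.FiPres.wval_append,
    wval_reverse im10 fun l hl => sq10 (powW_lt j hl), (trW_val hu).1, tr_smul, x13, inv_pow,
    show wval im10 (powW j) = wval im10 word13 ^ j from Cfsg.Lib.FiPres.wval_rpt im10 j word13,
    mul_inv_rev, mul_inv_rev, inv_inv, ← (trW_val hu).1, (trW_val hu).2, (trW_val hu).1]

/-- The relation at a point. -/
def RelAt (q : Fin 3510) (k j : ℕ) : Prop :=
  tr (x13 ^ j • q) • (tr q • (x13 ^ k • q)) = tr q • (x13 ^ k • q)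

theorem relTest_iff {u : List ℕ} (hu : ∀ l ∈ u, l < 9) (k j : ℕ) :
    relTest u k j = true ↔ RelAt (ptW u) k j := by
  have h1 : ((tr (ptW u) • (x13 ^ k • ptW u) : Fin 3510) : ℕ) =
      evalW sigTabs (powW k ++ trW u) (evalW sigTabs u 0) := by
    rw [← (trW_val hu).2, eval_smul (trW_lt hu), powW_smul, ptW_val hu]
    simp [evalW, List.foldl_append]
  rw [relTest, beq_iff_eq, RelAt, ← Fin.val_inj, ← h1, ← shiftW_val hu j, eval_smul (shiftW_lt hu j)]

theorem RelAt.smul {q : Fin 3510} {k j : ℕ} {g : Cfsg.Spor.Fi22} (hg : Commute g x13) :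
    RelAt (g • q) k j ↔ RelAt q k j := by
  have e : ∀ i : ℕ, x13 ^ i • g • q = g • x13 ^ i • q := fun i => by
    rw [← mul_smul, ← mul_smul, (hg.pow_right i).eq]
  have e2 : ∀ y z : Fin 3510, tr (g • y) • g • z = g • tr y • z := fun y z => by
    rw [tr_smul, mul_smul, mul_smul, inv_smul_smul]
  rw [RelAt, RelAt, e, e, e2, e2, smul_left_cancel_iff]

/-- Only powers commute. -/
theorem comm_x13 {g : Cfsg.Spor.Fi22} (hg : Commute g x13) : g ∈ Subgroup.zpowers x13 := by
  haveI := Cfsg.Lib.FiPres.transitive
  have htop : ∀ l ∈ topPt, l < 9 := fun l hl => decide_eq_true_eq.mp (List.all_eq_true.1 word13_small.2.1 l hl)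
  set P := ptW topPt with hP
  -- the image is a shift of a representative
  have hc := List.all_eq_true.1 cover13 (g • P).val (List.mem_range.2 (g • P).isLt)
  have key : ∀ (L : List ℕ) (s j : ℕ), (L.foldl (fun s q => s ||| 1 <<< q) s).testBit j = true →
      s.testBit j = true ∨ j ∈ L := by
    intro L
    induction L with
    | nil => intro s j h; exact Or.inl h
    | cons a L ih =>
      intro s j h
      rcases ih _ j h with h' | h'
      · rw [Nat.testBit_or, Bool.or_eq_true, Nat.one_shiftLeft, Nat.testBit_two_pow, decide_eq_true_eq] at h'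
        rcases h' with h' | rfl
        · exact Or.inl h'
        · exact Or.inr List.mem_cons_self
      · exact Or.inr (List.mem_cons_of_mem a h')
  rcases key _ _ _ hc with h | h
  · simp at h
  obtain ⟨u, hu, h⟩ := List.mem_flatMap.1 h
  obtain ⟨k, hk, h⟩ := List.mem_map.1 h
  rcases List.mem_cons.1 hu with rfl | hu
  · -- the top orbit itself
    have e : g • P = x13 ^ k • P := Fin.ext (by rw [powW_smul, hP, ptW_val htop, h])
    set g' := (x13 ^ k)⁻¹ * g with hg'
    have hc' : Commute g' x13 := ((Commute.refl x13).pow_left k).inv_left.mul_left hg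
    have hfix : g' • P = P := by rw [hg', mul_smul, e, inv_smul_smul]
    have hgens : ∀ w ∈ closeLev.gens, wval im10 w ∈ Subgroup.centralizer {g'} := by
      intro w hw
      obtain ⟨i, -, rfl⟩ := List.mem_map.1 hw
      rw [Subgroup.mem_centralizer_singleton_iff]
      have hf : g' • (x13 ^ i • P) = x13 ^ i • P := by rw [← mul_smul, (hc'.pow_right i).eq, mul_smul, hfix]
      have hs := tr_smul g' (x13 ^ i • P)
      rw [hf, eq_mul_inv_iff_mul_eq, hP, ← shiftW_val htop i] at hs
      exact (Commute.inv_left (show Commute (wval im10 (shiftW topPt i))⁻¹ g' from hs)).eq.trans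
        (by rfl) |> fun h => by simpa using h
    have hall := close_ok
    simp only [Bool.and_eq_true, List.all_eq_true, List.mem_range, decide_eq_true_eq, Lev.ok] at hall
    have hone : g' = 1 := by
      refine factG.2 ?_
      rw [map_one]
      refine Equiv.ext fun y => ?_
      obtain ⟨h', hh', e'⟩ := tabled.reach smul_eq (H := Subgroup.centralizer {g'}) hall.1.2 hgens
        (p := P) closeLev.orb _ hall.1.1.2 (fun j hj => ⟨1, Subgroup.one_mem _, by
          rw [Nat.one_shiftLeft, Nat.testBit_two_pow, decide_eq_true_eq] at hj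
          rw [one_smul, hP, ptW_val htop]
          exact hj⟩) y.val (hall.2 y.val y.isLt)
      have hy : h' • P = y := Fin.ext e'
      show g' • y = y
      rw [← hy, ← mul_smul, ← Subgroup.mem_centralizer_singleton_iff.1 hh', mul_smul, hfix]
    rw [hg', inv_mul_eq_one] at hone
    rw [← hone]
    exact Subgroup.pow_mem _ (Subgroup.mem_zpowers x13) k
  · exfalso
    obtain ⟨⟨u', a, b⟩, hmem, rfl⟩ := List.mem_map.1 hu
    have ho := List.all_eq_true.1 others_ok _ hmem
    simp only [Bool.and_eq_true, List.all_eq_true, decide_eq_true_eq, bne_iff_ne] at ho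
    have e : g • P = x13 ^ k • ptW u' := Fin.ext (by rw [powW_smul, ptW_val ho.1.1.1, h])
    have hc' : Commute ((x13 ^ k)⁻¹ * g) x13 := ((Commute.refl x13).pow_left k).inv_left.mul_left hg
    have e' : ((x13 ^ k)⁻¹ * g) • P = ptW u' := by rw [mul_smul, e, inv_smul_smul]
    refine ho.2 ?_
    rw [Bool.eq_iff_iff, relTest_iff htop, relTest_iff ho.1.1.1, ← e', RelAt.smul hc']

end Cfsg.Lib.FiTwenty
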