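import Cfsg.Agent.FiTwenty.Transp
import Cfsg.Agent.FiTwenty.Thirteen

/-!
An element of order thirteen of the presented group on ten letters commutes with no involutions but transpositions,
so automorphisms keep the class of transpositions.
-/

set_option autoImplicit false
set_option Elab.async false
set_option maxRecDepth 20000

namespace Cfsg.Lib.FiTwenty

open Cfsg.Lib.CosetCert Cfsg.Lib.PermCert

attribute [local irreducible] sig0 sig1 sig2 sig3 sig4 sig5 sig6 sig7 sig8 sig9 sig10 subPts subIdx subTree1Mask subTree2Mask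
/-- The test of the fixed points of the element of order thirteen. -/
def fixAt (p : ℕ) : Bool := (evalW sigTabs word13 p == p) == (p == 0 || p == 1 || p == 7999)

theorem fix13_0 : allFrom 0 4000 fixAt = true := by decide +kernel
theorem fix13_1 : allFrom 4000 4000 fixAt = true := by decide +kernel
theorem fix13_2 : allFrom 8000 4000 fixAt = true := by decide +kernel
theorem fix13_3 : allFrom 12000 4000 fixAt = true := by decide +kernel
theorem fix13_4 : allFrom 16000 4000 fixAt = true := by decide +kernel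
theorem fix13_5 : allFrom 20000 4000 fixAt = true := by decide +kernel
theorem fix13_6 : allFrom 24000 4000 fixAt = true := by decide +kernel
theorem fix13_7 : allFrom 28000 3671 fixAt = true := by decide +kernel

theorem fix13 : allFrom 0 31671 fixAt = true :=
  allFrom_add (b := 28000) (c := 3671) (allFrom_add (b := 24000) (c := 4000) (allFrom_add (b := 20000) (c := 4000)
    (allFrom_add (b := 16000) (c := 4000) (allFrom_add (b := 12000) (c := 4000) (allFrom_add (b := 8000) (c := 4000)
      (allFrom_add (b := 4000) (c := 4000) fix13_0 fix13_1) fix13_2) fix13_3) fix13_4) fix13_5) fix13_6) fix13_7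

theorem marks13 : (evalW sigTabs (powW 13) 1 == 1) = true ∧ (evalW sigTabs [10] 1 != 1) = true ∧
    (word13.all fun l => lamH.contains l) = true ∧ decide (0 < word13.length) = true := by decide +kernel

theorem w13_lam {l : ℕ} (h : l ∈ word13) : l ∈ lamH :=
  List.contains_iff_mem.1 (List.all_eq_true.1 marks13.2.2.1 l h)

theorem lam_lt {l : ℕ} (h : l ∈ lamH) : l < 9 := (show ∀ l ∈ lamH, l < 9 by decide) l h

/-- The element of order thirteen in the point stabiliser. -/
noncomputable def u13 : lgp imZ lamH :=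
  ⟨wval imZ word13, lgp_wval imZ (List.all_eq_true.2 fun _ hl => List.contains_iff_mem.2 (w13_lam hl))⟩

theorem down_word : ∀ {w : List ℕ} (h : wval imZ w ∈ lgp imZ lamH), (∀ l ∈ w, l ∈ lamH) →
    down ⟨wval imZ w, h⟩ = wval Cfsg.Lib.FiPres.im10 w
  | [], _, _ => map_one down
  | l :: w, h, hl => by
    have hw : wval imZ w ∈ lgp imZ lamH := lgp_wval imZ
      (List.all_eq_true.2 fun a ha => List.contains_iff_mem.2 (hl a (List.mem_cons_of_mem l ha)))
    have e : (⟨wval imZ (l :: w), h⟩ : lgp imZ lamH) =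
        ⟨imZ l, lgp_mem imZ (hl l List.mem_cons_self)⟩ * ⟨wval imZ w, hw⟩ := Subtype.ext (wval_cons imZ l w)
    rw [e, map_mul, down_eq (agrees_gen (hl l List.mem_cons_self)),
      down_word hw fun a ha => hl a (List.mem_cons_of_mem l ha), Cfsg.Lib.FiPres.wval_cons]

theorem down_u13 : down u13 = x13⁻¹ := by
  rw [x13, inv_inv]
  exact down_word _ fun _ h => w13_lam h

theorem ker_cases {h : lgp imZ lamH} (e : down h = 1) : h.1 = 1 ∨ h.1 = imZ 10 := by
  have hz : zH ∈ down.ker := down_z
  have hne : zH ≠ 1 := fun h => z_ne (congrArg Subtype.val h)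
  obtain ⟨y, hy, hu⟩ := (Nat.card_eq_two_iff' (1 : down.ker)).1 card_ker
  by_cases h1 : h = 1
  · exact Or.inl (congrArg Subtype.val h1)
  · right
    have e1 := hu ⟨h, e⟩ fun c => h1 (congrArg Subtype.val c)
    have e2 := hu ⟨zH, hz⟩ fun c => hne (congrArg Subtype.val c)
    exact congrArg Subtype.val (congrArg Subtype.val (e1.trans e2.symm))

theorem eval_u13 (k : ℕ) (p : Fin 31671) :
    (((wval imZ word13 ^ k)⁻¹ • p : Fin 31671) : ℕ) = evalW sigTabs (powW k) p := by
  rw [smul_eq, map_inv, ← wval_rpt]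
  exact evalW_apply imZ psi sigTabs psi_act _ (fun l hl => by
    obtain ⟨v, hv, hl⟩ := List.mem_flatten.1 hl
    rw [List.eq_of_mem_replicate hv] at hl
    exact Nat.lt_trans (lam_lt (w13_lam hl)) (by decide)) p

theorem u13_pow : u13 ^ 13 = 1 := by
  refine Subtype.ext ?_
  rcases ker_cases (h := u13 ^ 13) (by rw [map_pow, down_u13, inv_pow, x13_pow, inv_one]) with e | e
  · exact e
  · exfalso
    have h1 := marks13.1
    have h2 := marks13.2.1
    rw [beq_iff_eq] at h1
    rw [bne_iff_ne] at h2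
    have e' : wval imZ word13 ^ 13 = imZ 10 := e
    have h := eval_u13 13 ⟨1, by norm_num⟩
    rw [e', h1] at h
    refine h2 ?_
    have h3 := evalW_apply imZ psi sigTabs psi_act [10] (fun l hl => by
      rw [List.mem_singleton] at hl; subst hl; decide) ⟨1, by norm_num⟩
    rw [show wval imZ [10] = imZ 10 by simp [wval]] at h3
    rw [smul_eq, map_inv] at h
    exact h3.symm.trans h

theorem u13_order : orderOf u13.1 = 13 := by
  haveI : Fact (Nat.Prime 13) := ⟨by norm_num⟩
  refine orderOf_eq_prime ?_ fun h => ?_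
  · exact congrArg Subtype.val u13_pow
  · have h1 := allFrom_zero fix13 (show 2 < 31671 by norm_num)
    have h2 := eval_u13 1 ⟨2, by norm_num⟩
    rw [show wval imZ word13 = 1 from h, one_pow, inv_one, one_smul] at h2
    have e : evalW sigTabs word13 2 = 2 := by
      simpa [powW] using h2.symm
    simp [fixAt, e] at h1

/-- In the point stabiliser only the central involution commutes with the element of order thirteen. -/
theorem invol_u13 {t : Cfsg.Spor.Fi23} (hm : t ∈ lgp imZ lamH) (ht : t * t = 1) (h1 : t ≠ 1)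
    (hc : Commute t u13.1) : t = imZ 10 := by
  have hd : Commute (down ⟨t, hm⟩) x13 := by
    have : Commute (⟨t, hm⟩ : lgp imZ lamH) u13 := Subtype.ext hc
    have h := this.map down
    rw [down_u13] at h
    simpa using h.inv_right
  have ho : orderOf (down ⟨t, hm⟩) ∣ 1 := by
    have h2 : orderOf (down ⟨t, hm⟩) ∣ 2 := orderOf_dvd_of_pow_eq_one (by
      rw [← map_pow, sq, show (⟨t, hm⟩ * ⟨t, hm⟩ : lgp imZ lamH) = 1 from Subtype.ext ht, map_one])
    obtain ⟨k, hk⟩ := Subgroup.mem_zpowers_iff.1 (comm_x13 hd)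
    have h13 : orderOf (down ⟨t, hm⟩) ∣ 13 := orderOf_dvd_of_pow_eq_one (by
      rw [← hk, ← zpow_natCast, zpow_comm, zpow_natCast, x13_pow, one_zpow])
    exact (show Nat.gcd 2 13 = 1 by norm_num) ▸ Nat.dvd_gcd h2 h13
  rcases ker_cases (orderOf_eq_one_iff.1 (Nat.dvd_one.1 ho)) with e | e
  · exact absurd e h1
  · exact e

/-- Commuting with one element of order thirteen is carried to another. -/
theorem transfer13 {K : Type*} [Group K] [Finite K] (hK : (Nat.card K).factorization 13 = 1) {u v : K}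
    (hu : orderOf u = 13) (hv : orderOf v = 13) : ∃ g : K, ∀ t, Commute t v → Commute (g * t * g⁻¹) u := by
  haveI : Fact (Nat.Prime 13) := ⟨by norm_num⟩
  have hS : ∀ x : K, orderOf x = 13 → Nat.card (Subgroup.zpowers x) = 13 ^ (Nat.card K).factorization 13 :=
    fun x hx => by rw [Nat.card_zpowers, hx, hK, pow_one]
  let P : Sylow 13 K := Sylow.ofCard _ (hS u hu)
  let Q : Sylow 13 K := Sylow.ofCard _ (hS v hv)
  obtain ⟨g, hg⟩ := MulAction.exists_smul_eq K Q P
  have hmem : g⁻¹ * u * g ∈ Subgroup.zpowers v := by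
    have h : u ∈ (g • Q : Sylow 13 K).toSubgroup := hg ▸ Subgroup.mem_zpowers u
    rw [Sylow.coe_subgroup_smul, Subgroup.mem_pointwise_smul_iff_inv_smul_mem] at h
    have hQ : (Q : Subgroup K) = Subgroup.zpowers v := Sylow.coe_ofCard _ _
    simpa [hQ, MulAut.smul_def] using h
  obtain ⟨k, hk⟩ := Subgroup.mem_zpowers_iff.1 hmem
  refine ⟨g, fun t ht => ?_⟩
  have h := (ht.zpow_right k).eq
  rw [hk] at h
  show g * t * g⁻¹ * u = u * (g * t * g⁻¹)
  calc g * t * g⁻¹ * u = g * (t * (g⁻¹ * u * g)) * g⁻¹ := by group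
    _ = g * ((g⁻¹ * u * g) * t) * g⁻¹ := by rw [h]
    _ = u * (g * t * g⁻¹) := by group

theorem fact13 (m : ℕ) (hm : ¬ 13 ∣ m) (h0 : m ≠ 0) : (13 * m).factorization 13 = 1 := by
  rw [Nat.factorization_mul (by norm_num) h0, Finsupp.add_apply, Nat.Prime.factorization_self (by norm_num),
    Nat.factorization_eq_zero_of_not_dvd hm]

theorem conj_sq {t g : Cfsg.Spor.Fi23} (ht : t * t = 1) : g * t * g⁻¹ * (g * t * g⁻¹) = 1 := by
  rw [show g * t * g⁻¹ * (g * t * g⁻¹) = g * (t * t) * g⁻¹ by group, ht, mul_one, mul_inv_cancel]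

theorem conj_ne {t g : Cfsg.Spor.Fi23} (h1 : t ≠ 1) : g * t * g⁻¹ ≠ 1 := fun h => h1 (by
  rwa [mul_inv_eq_one, mul_eq_left] at h)

/-- An involution commuting with the element of order thirteen is a transposition. -/
theorem invol_transp {t : Cfsg.Spor.Fi23} (ht : t * t = 1) (h1 : t ≠ 1) (hc : Commute t u13.1) : t ∈ transp := by
  haveI := transitive
  have hF : ∀ p : Fin 31671, u13.1 • p = p ↔ p.val = 0 ∨ p.val = 1 ∨ p.val = 7999 := fun p => by
    have h := allFrom_zero fix13 p.isLt
    have e := eval_u13 1 p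
    rw [pow_one, show powW 1 = word13 by simp [powW]] at e
    rw [fixAt, beq_iff_eq, ← e] at h
    show wval imZ word13 • p = p ↔ _
    constructor
    · intro hp
      have hp' : (wval imZ word13)⁻¹ • p = p := by
        conv_lhs => rw [← hp]
        rw [inv_smul_smul]
      rw [hp', beq_self_eq_true] at h
      simpa [or_assoc] using h.symm
    · intro hp
      have h' : ((((wval imZ word13)⁻¹ • p : Fin 31671) : ℕ) == (p : ℕ)) = true := by
        rw [h]; simpa [or_assoc] using hp
      rw [beq_iff_eq] at h'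
      have h'' : (wval imZ word13)⁻¹ • p = p := Fin.ext h'
      conv_lhs => rw [← h'']
      rw [smul_inv_smul]
  have hperm : ∀ p : Fin 31671, u13.1 • p = p → u13.1 • (t • p) = t • p := fun p hp => by
    rw [← mul_smul, ← hc.eq, mul_smul, hp]
  have htt : ∀ p : Fin 31671, t • t • p = p := fun p => by rw [← mul_smul, ht, one_smul]
  obtain ⟨q, hq, htq⟩ : ∃ q : Fin 31671, u13.1 • q = q ∧ t • q = q := by
    let a : Fin 31671 := ⟨0, by norm_num⟩
    let b : Fin 31671 := ⟨1, by norm_num⟩
    let c : Fin 31671 := ⟨7999, by norm_num⟩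
    have hm : ∀ p : Fin 31671, u13.1 • p = p ↔ p = a ∨ p = b ∨ p = c := fun p => by
      rw [hF]
      exact or_congr (Fin.ext_iff (a := p) (b := a)).symm
        (or_congr (Fin.ext_iff (a := p) (b := b)).symm (Fin.ext_iff (a := p) (b := c)).symm)
    have ha := (hm a).2 (Or.inl rfl)
    have hb := (hm b).2 (Or.inr (Or.inl rfl))
    have hc' := (hm c).2 (Or.inr (Or.inr rfl))
    have hab : a ≠ b := fun e => absurd (congrArg Fin.val e : (0 : ℕ) = 1) (by decide)
    have hac : a ≠ c := fun e => absurd (congrArg Fin.val e : (0 : ℕ) = 7999) (by decide)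
    have hbc : b ≠ c := fun e => absurd (congrArg Fin.val e : (1 : ℕ) = 7999) (by decide)
    rcases (hm _).1 (hperm a ha) with e | e | e
    · exact ⟨a, ha, e⟩
    · refine ⟨c, hc', ?_⟩
      rcases (hm _).1 (hperm c hc') with e' | e' | e'
      · exact absurd ((htt c).symm.trans (by rw [e', e])).symm hbc
      · exact absurd (MulAction.injective t (e'.trans e.symm)).symm hac
      · exact e'
    · refine ⟨b, hb, ?_⟩
      rcases (hm _).1 (hperm b hb) with e' | e' | e'
      · exact absurd ((htt b).symm.trans (by rw [e', e])) hbc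
      · exact e'
      · exact absurd (MulAction.injective t (e'.trans e.symm)).symm hab
  obtain ⟨h, rfl⟩ := MulAction.exists_smul_eq Cfsg.Spor.Fi23 p0 q
  have hmem : ∀ x : Cfsg.Spor.Fi23, x • h • p0 = h • p0 → h⁻¹ * x * h ∈ lgp imZ lamH := fun x hx => by
    rw [← stab_eq, MulAction.mem_stabilizer_iff, mul_smul, mul_smul, hx, inv_smul_smul]
  have hu' : orderOf (⟨_, hmem _ hq⟩ : lgp imZ lamH) = 13 := by
    rw [← Subgroup.orderOf_coe]
    show orderOf (h⁻¹ * u13.1 * h) = 13
    rw [show h⁻¹ * u13.1 * h = MulAut.conj h⁻¹ u13.1 by rw [MulAut.conj_apply, inv_inv], MulEquiv.orderOf_eq,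
      u13_order]
  obtain ⟨g, hg⟩ := transfer13 (K := lgp imZ lamH) (by
      rw [card_h, show (129123503308800 : ℕ) = 13 * 9932577177600 by norm_num]
      exact fact13 _ (by norm_num) (by norm_num))
    (show orderOf u13 = 13 by rw [← Subgroup.orderOf_coe]; exact u13_order) hu'
  have e := hg ⟨_, hmem _ htq⟩ (Subtype.ext (by
    show h⁻¹ * t * h * (h⁻¹ * u13.1 * h) = h⁻¹ * u13.1 * h * (h⁻¹ * t * h)
    rw [show h⁻¹ * t * h * (h⁻¹ * u13.1 * h) = h⁻¹ * (t * u13.1) * h by group, hc.eq]
    group))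
  have e' : (g.1 * h⁻¹) * t * (g.1 * h⁻¹)⁻¹ = imZ 10 := by
    refine invol_u13 ?_ (conj_sq ht) (conj_ne h1) ?_
    · rw [show g.1 * h⁻¹ * t * (g.1 * h⁻¹)⁻¹ = g.1 * (h⁻¹ * t * h) * g.1⁻¹ by group]
      exact mul_mem (mul_mem g.2 (hmem _ htq)) (inv_mem g.2)
    · rw [show g.1 * h⁻¹ * t * (g.1 * h⁻¹)⁻¹ = g.1 * (h⁻¹ * t * h) * g.1⁻¹ by group]
      exact congrArg Subtype.val e
  exact mem_transp.2 ⟨(g.1 * h⁻¹)⁻¹, by rw [← e']; group⟩

/-- Automorphisms keep the class. -/
theorem aut_transp (φ : MulAut Cfsg.Spor.Fi23) {d : Cfsg.Spor.Fi23} (hd : d ∈ transp) : φ d ∈ transp := by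
  have hz : φ (imZ 10) ∈ transp := by
    obtain ⟨g, hg⟩ := transfer13 (K := Cfsg.Spor.Fi23) (by
        rw [faithful_all.1, show (4089470473293004800 : ℕ) = 13 * 314574651791769600 by norm_num]
        exact fact13 _ (by norm_num) (by norm_num))
      u13_order ((MulEquiv.orderOf_eq φ u13.1).trans u13_order)
    have hcz : Commute (imZ 10) u13.1 := (z_comm u13.2).symm
    obtain ⟨k, hk⟩ := mem_transp.1 (invol_transp (conj_sq (by rw [← map_mul, z_sq, map_one]))
      (conj_ne fun e => z_ne (φ.injective (e.trans (map_one φ).symm))) (hg _ (hcz.map φ)))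
    exact mem_transp.2 ⟨g⁻¹ * k, by
      calc g⁻¹ * k * imZ 10 * (g⁻¹ * k)⁻¹ = g⁻¹ * (k * imZ 10 * k⁻¹) * g := by group
        _ = g⁻¹ * (g * φ (imZ 10) * g⁻¹) * g := by rw [hk]
        _ = φ (imZ 10) := by group⟩
  obtain ⟨g, rfl⟩ := mem_transp.1 hd
  obtain ⟨k, hk⟩ := mem_transp.1 hz
  refine mem_transp.2 ⟨φ g * k, ?_⟩
  rw [map_mul, map_mul, map_inv, ← hk]
  group

end Cfsg.Lib.FiTwenty
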