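import Cfsg.Agent.FiTwenty.Action
import Cfsg.Agent.FiTwenty.ChainCheck
import Cfsg.Agent.FiTwenty.D3Check
import Cfsg.Agent.FiTwenty.D4Check
import Cfsg.Agent.FiTwenty.D5Check
import Cfsg.Agent.FiTwenty.D6Check
import Cfsg.Agent.FiPres.D0Check
import Cfsg.Agent.FiPres.D1Check
import Cfsg.Agent.FiPres.D2Check

/-!
The order of the presented Fischer group on ten letters and the index of the point stabiliser.
-/

set_option autoImplicit false
set_option maxRecDepth 20000

namespace Cfsg.Lib.FiTwenty

open Cfsg.Lib.CosetCert Cfsg.Lib.PermCert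

attribute [local irreducible] sig0 sig1 sig2 sig3 sig4 sig5 sig6 sig7 sig8 sig9 sig10 subPts subIdx subTree1Mask subTree2Mask
/-- The list of relators of a level maps into the relators. -/
def relsIn (R : List (List ℕ)) (Λ : List ℕ) : Bool :=
  R.all fun r => words.contains (r.map (pickL Λ)) && r.all fun l => decide (l < Λ.length)

/-- The subgroup letters of a level are among given letters. -/
def subsIn (subs Λ S : List ℕ) : Bool := subs.all fun s => S.contains (pickL Λ s)

theorem words_low : (words.all fun w => w.all fun l => decide (l < 10)) = true := by decide +kernel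

theorem step {C : Cert} {R : List (List ℕ)} (hC : C.Valid R) (Λ S : List ℕ) (hng : C.ng = Λ.length)
    (hrel : relsIn R Λ = true) (hΛ : Λ.all (fun l => decide (l < 10)) = true) (hsub : subsIn C.subs Λ S = true)
    (hK : Finite (lgp imZ S)) :
    Finite (lgp imZ Λ) ∧ Nat.card (lgp imZ Λ) ≤ C.fin.length * Nat.card (lgp imZ S) := by
  haveI := hK
  simp only [relsIn, List.all_eq_true, Bool.and_eq_true, decide_eq_true_eq, List.contains_iff_mem] at hrel
  refine lgp_bound imZ hC Λ hng (fun r hr => ?_) (List.all_eq_true.2 fun r hr => List.all_eq_true.2 fun l hl =>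
    decide_eq_true ((hrel r hr).2 l hl)) (fun l hl => ?_) (fun s hs => ?_)
  · have hl : ∀ l ∈ r.map (pickL Λ), l < 10 := fun l hl =>
      decide_eq_true_eq.mp (List.all_eq_true.1 (List.all_eq_true.1 words_low _ (hrel r hr).1) l hl)
    rw [wval_low hl]
    rcases List.mem_cons.1 (hrel r hr).1 with e | h
    · rw [e]; rfl
    · exact good_im _ h
  · have h : l < 10 := decide_eq_true_eq.mp (List.all_eq_true.1 hΛ l hl)
    rw [imZ_low h]
    exact good_im.inv h
  · exact lgp_mem imZ (List.contains_iff_mem.1 (List.all_eq_true.1 hsub s hs))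

theorem fin_nil : Finite (lgp imZ []) ∧ Nat.card (lgp imZ []) = 1 := by
  have : lgp imZ [] = ⊥ := by simp [lgp]
  rw [this]
  exact ⟨inferInstance, Subgroup.card_bot⟩

open Cfsg.Lib.FiPres in
theorem bound_cdefgh : Finite (lgp imZ [2, 3, 4, 5, 6, 7]) ∧ Nat.card (lgp imZ [2, 3, 4, 5, 6, 7]) ≤ 23040 := by
  have h0 := step D0.valid [2, 3, 4, 7] [] rfl (by decide +kernel) (by decide) (by decide +kernel) fin_nil.1
  rw [D0.fins_length, fin_nil.2] at h0
  have h1 := step D1.valid [2, 3, 4, 5, 7] [2, 3, 4, 7] rfl (by decide +kernel) (by decide) (by decide +kernel) h0.1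
  rw [D1.fins_length] at h1
  have h2 := step D2.valid [2, 3, 4, 5, 6, 7] [2, 3, 4, 5, 7] rfl (by decide +kernel) (by decide) (by decide +kernel)
    h1.1
  rw [D2.fins_length] at h2
  have := h0.2
  have := h1.2
  exact ⟨h2.1, h2.2.trans (by omega)⟩

theorem bound_h : Finite (lgp imZ lamH) ∧ Nat.card (lgp imZ lamH) ≤ 129123503308800 := by
  have h1 := step D3.valid [1, 2, 3, 4, 5, 6, 7] [2, 3, 4, 5, 6, 7] rfl (by decide +kernel) (by decide)
    (by decide +kernel) bound_cdefgh.1
  rw [D3.fins_length] at h1
  have h2 := step D4.valid [1, 2, 3, 4, 5, 6, 7, 8] [1, 2, 3, 4, 5, 6, 7] rfl (by decide +kernel) (by decide)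
    (by decide +kernel) h1.1
  rw [D4.fins_length] at h2
  have h3 := step D5.valid lamH [1, 2, 3, 4, 5, 6, 7, 8] rfl (by decide +kernel) (by decide) (by decide +kernel) h2.1
  rw [D5.fins_length] at h3
  have := bound_cdefgh.2
  have := h1.2
  have := h2.2
  exact ⟨h3.1, h3.2.trans (by omega)⟩

theorem lgp_top : lgp imZ (List.range 10) = ⊤ := by
  refine top_le_iff.1 (closure_im ▸ (Subgroup.closure_le _).2 ?_)
  rintro _ ⟨k, hk, rfl⟩
  have h : k < 10 := hk
  rw [SetLike.mem_coe, ← imZ_low h]
  exact lgp_mem imZ (List.mem_range.2 h)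

theorem bound_all : Finite Cfsg.Spor.Fi23 ∧ Nat.card Cfsg.Spor.Fi23 ≤ 31671 * Nat.card (lgp imZ lamH) := by
  have h := step D6.valid (List.range 10) lamH rfl (by decide +kernel) (by decide) (by decide +kernel) bound_h.1
  rw [D6.fins_length, lgp_top, Subgroup.card_top] at h
  haveI := h.1
  exact ⟨Finite.of_equiv _ Subgroup.topEquiv.toEquiv, h.2⟩

instance finite_fi : Finite Cfsg.Spor.Fi23 := bound_all.1

theorem imZ_sq {l : ℕ} (h : l < 10) : imZ l * imZ l = 1 := by
  rw [imZ_low h]
  exact good_im.inv h

/-- The ten letters with their tables. -/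
theorem tabled10 : Tabled imZ psi (sigTabs.take 10) where
  act l hl := by
    have h : l < 10 := hl
    rw [show (sigTabs.take 10).getD l (0, 0) = sigTabs.getD l (0, 0) by interval_cases l <;> rfl]
    exact psi_act l (show l < 11 by omega)
  sq _ hl := imZ_sq hl

theorem faithful_all : Nat.card Cfsg.Spor.Fi23 = 4089470473293004800 ∧ Function.Injective psi := by
  have hb : Nat.card Cfsg.Spor.Fi23 ≤ 4089470473293004800 := by
    have := bound_all.2
    have := bound_h.2
    omega
  have h1 := chain_bound imZ psi sigTabs psi_act chainG ⊤ chainG_ok inferInstance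
    fun _ _ w _ => Subgroup.mem_top (wval imZ w)
  let f : Cfsg.Spor.Fi23 →* psi.range := psi.rangeRestrict
  have hf : Function.Surjective f := psi.rangeRestrict_surjective
  have h2 : 4089470473293004800 ≤ Nat.card psi.range := by
    have := chain_bound (fun k => psi (imZ k)) (MonoidHom.id _) sigTabs psi_act chainG psi.range chainG_ok
      inferInstance fun _ _ w _ => ⟨wval imZ w, map_wval imZ psi w⟩
    rwa [chainG_size] at this
  rw [chainG_size, Subgroup.card_top] at h1
  have hbij : Function.Bijective f :=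
    (Nat.bijective_iff_surjective_and_card f).2 ⟨hf, by
      have := Nat.card_le_card_of_surjective f hf
      omega⟩
  refine ⟨by omega, fun x y e => hbij.1 (Subtype.ext e)⟩

/-- All eleven letters with their tables. -/
theorem tabled : Tabled imZ psi sigTabs where
  act := psi_act
  sq l hl := faithful_all.2 (by
    rw [map_mul, map_one, (psi_act l hl).2]
    exact act_sq hl)

theorem card_h : Nat.card (lgp imZ lamH) = 129123503308800 := by
  have h1 := bound_all.2
  have h2 := bound_h.2
  rw [faithful_all.1] at h1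
  omega

theorem index_h : (lgp imZ lamH).index = 31671 := by
  have h3 := Subgroup.card_mul_index (lgp imZ lamH)
  rw [faithful_all.1, card_h] at h3
  omega

end Cfsg.Lib.FiTwenty
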