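import Cfsg.Prelude.Def_Spor_Fi23
import Cfsg.Agent.CosetCert.Basic

/-!
The relators of the presented Fischer group on ten letters as words in numbered letters.
-/

set_option autoImplicit false

namespace Cfsg.Lib.FiTwenty

open Cfsg.Lib.CosetCert
open Cfsg.Spor.Fi23 (Gen)

/-- The numbering of the generators. -/
def genList : List Gen := [.a, .b, .c, .d, .e, .f, .g, .h, .i, .j]

/-- A generator by number. -/
def genOf (n : ℕ) : Gen := genList.getD n .a

/-- The number of a generator. -/
def idxOf : Gen → ℕ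
  | .a => 0
  | .b => 1
  | .c => 2
  | .d => 3
  | .e => 4
  | .f => 5
  | .g => 6
  | .h => 7
  | .i => 8
  | .j => 9

theorem genOf_idxOf : ∀ x : Gen, genOf (idxOf x) = x
  | .a => rfl
  | .b => rfl
  | .c => rfl
  | .d => rfl
  | .e => rfl
  | .f => rfl
  | .g => rfl
  | .h => rfl
  | .i => rfl
  | .j => rfl

/-- Repeat a word. -/
def rpt (k : ℕ) (w : List ℕ) : List ℕ := (List.replicate k w).flatten

/-- The relator of a pair. -/
def pairWord (x y : ℕ) : List ℕ := rpt (Cfsg.Spor.coxLabel Cfsg.Spor.Fi23.edges (genOf x) (genOf y)) [x, y]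

/-- The further relators, as words. -/
def extraWords : List (List ℕ) :=
  [rpt 10 [3, 2, 1, 3, 4, 5, 3, 7, 8], rpt 9 [0, 1, 2, 3, 4, 5, 7]]

/-- All relators, as words. -/
def allWords : List (List ℕ) :=
  ((List.range 10).flatMap fun x => (List.range 10).map (pairWord x)) ++ extraWords

/-- Nothing at all, and all relators. -/
def words : List (List ℕ) := [] :: allWords

variable {G : Type*} [Group G]

theorem wval_append (im : ℕ → G) (v w : List ℕ) : wval im (v ++ w) = wval im v * wval im w := by
  simp [wval]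

theorem wval_rpt (im : ℕ → G) (k : ℕ) (w : List ℕ) : wval im (rpt k w) = wval im w ^ k := by
  induction k with
  | zero => simp [rpt, wval]
  | succ k ih => rw [rpt, List.replicate_succ, List.flatten_cons, wval_append, ← rpt, ih, pow_succ']

theorem wval_cons (im : ℕ → G) (x : ℕ) (w : List ℕ) : wval im (x :: w) = im x * wval im w := by simp [wval]

theorem wval_nil (im : ℕ → G) : wval im [] = 1 := rfl

/-- The relations hold for the images of the letters. -/
def Good (im : ℕ → G) : Prop := ∀ w ∈ allWords, wval im w = 1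

theorem Good.pair {im : ℕ → G} (h : Good im) {x y : ℕ} (hx : x < 10) (hy : y < 10) :
    (im x * im y) ^ Cfsg.Spor.coxLabel Cfsg.Spor.Fi23.edges (genOf x) (genOf y) = 1 := by
  have := h (pairWord x y) (List.mem_append_left _ (List.mem_flatMap.2 ⟨x, List.mem_range.2 hx,
    List.mem_map.2 ⟨y, List.mem_range.2 hy, rfl⟩⟩))
  simpa only [pairWord, wval_rpt, wval_cons, wval_nil, mul_one] using this

theorem idxOf_lt : ∀ x : Gen, idxOf x < 10
  | .a => by decide
  | .b => by decide
  | .c => by decide
  | .d => by decide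
  | .e => by decide
  | .f => by decide
  | .g => by decide
  | .h => by decide
  | .i => by decide
  | .j => by decide

theorem label_self (x : ℕ) : Cfsg.Spor.coxLabel Cfsg.Spor.Fi23.edges (genOf x) (genOf x) = 1 := by
  simp [Cfsg.Spor.coxLabel]

theorem Good.inv {im : ℕ → G} (h : Good im) {x : ℕ} (hx : x < 10) : im x * im x = 1 := by
  have := h.pair hx hx
  rwa [label_self, pow_one] at this

theorem Good.relators {im : ℕ → G} (h : Good im) :
    ∀ r ∈ Cfsg.Spor.coxRelators Cfsg.Spor.Fi23.edges ∪ {r | r ∈ Cfsg.Spor.Fi23.extra},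
      FreeGroup.lift (fun x => im (idxOf x)) r = 1 := by
  have he : ∀ w ∈ extraWords, wval im w = 1 := fun w hw => h w (List.mem_append_right _ hw)
  rintro r (⟨x, -, y, -, rfl⟩ | hr)
  · rw [map_pow, map_mul, FreeGroup.lift_apply_of, FreeGroup.lift_apply_of]
    have := h.pair (idxOf_lt x) (idxOf_lt y)
    rwa [genOf_idxOf, genOf_idxOf] at this
  · simp only [extraWords, List.forall_mem_cons, List.forall_mem_nil, and_true, wval_rpt, wval_cons, wval_nil,
      mul_one, ← mul_assoc] at he
    obtain ⟨e1, e2⟩ := he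
    simp only [Cfsg.Spor.Fi23.extra, Set.mem_ofPred_eq, List.mem_cons, List.mem_nil_iff, or_false] at hr
    rcases hr with rfl | rfl <;> simp only [map_mul, map_pow, FreeGroup.lift_apply_of, idxOf]
    · exact e1
    · exact e2.1

/-- The letters in the presented group. -/
def im (n : ℕ) : Cfsg.Spor.Fi23 := PresentedGroup.of (genOf n)

theorem good_im : Good im := by
  have hpair : ∀ x y : ℕ, wval im (pairWord x y) = 1 := by
    intro x y
    have hnode : ∀ z : Gen, z ∈ Cfsg.Spor.coxNodes Cfsg.Spor.Fi23.edges := by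
      intro z; cases z <;> decide
    have := PresentedGroup.one_of_mem (rels := Cfsg.Spor.coxRelators Cfsg.Spor.Fi23.edges ∪ {r | r ∈ Cfsg.Spor.Fi23.extra})
      (Or.inl ⟨genOf x, hnode _, genOf y, hnode _, rfl⟩)
    rw [map_pow, map_mul] at this
    rw [pairWord, wval_rpt, wval_cons, wval_cons, wval_nil, mul_one]
    exact this
  have hex : ∀ r ∈ Cfsg.Spor.Fi23.extra,
      PresentedGroup.mk (Cfsg.Spor.coxRelators Cfsg.Spor.Fi23.edges ∪ {r | r ∈ Cfsg.Spor.Fi23.extra}) r = 1 :=
    fun r hr => PresentedGroup.one_of_mem (Or.inr hr)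
  intro w hw
  rcases List.mem_append.1 hw with hw | hw
  · obtain ⟨x, -, hw⟩ := List.mem_flatMap.1 hw
    obtain ⟨y, -, rfl⟩ := List.mem_map.1 hw
    exact hpair x y
  · simp only [Cfsg.Spor.Fi23.extra, List.forall_mem_cons, map_mul, map_pow] at hex
    obtain ⟨e1, e2, -⟩ := hex
    simp only [extraWords, List.mem_cons, List.mem_nil_iff, or_false] at hw
    rcases hw with rfl | rfl <;> simp only [wval_cons, wval_nil, wval_rpt, mul_one, ← mul_assoc]
    · exact e1
    · exact e2

theorem im_idxOf (x : Gen) : im (idxOf x) = PresentedGroup.of x := by rw [im, genOf_idxOf]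

theorem closure_im : Subgroup.closure (im '' Set.Iio 10) = ⊤ := by
  refine top_le_iff.1 ?_
  rw [← PresentedGroup.closure_range_of]
  refine Subgroup.closure_mono ?_
  rintro _ ⟨x, rfl⟩
  exact ⟨idxOf x, idxOf_lt x, im_idxOf x⟩

/-- The map out of the presented group. -/
def toGrp {H : Type*} [Group H] {f : ℕ → H} (h : Good f) : Cfsg.Spor.Fi23 →* H :=
  PresentedGroup.toGroup (f := fun x => f (idxOf x)) h.relators

theorem toGrp_im {H : Type*} [Group H] {f : ℕ → H} (h : Good f) {n : ℕ} (hn : n < 10) : toGrp h (im n) = f n := by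
  have e : idxOf (genOf n) = n := by interval_cases n <;> rfl
  rw [toGrp, im, PresentedGroup.toGroup.of, e]

end Cfsg.Lib.FiTwenty
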