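import Cfsg.Agent.FiTwenty.SylTwoBase
import Cfsg.Prelude.Def_Transfer

/-!
A subgroup of order 2^18 of the presented Fischer group on ten letters and its elementary abelian subgroups.
-/

set_option autoImplicit false
set_option maxRecDepth 20000

namespace Cfsg.Lib.FiTwenty.SylTwo

open Cfsg.Lib.CosetCert Cfsg.Lib.PermCert

attribute [local irreducible] sig0 sig1 sig2 sig3 sig4 sig5 sig6 sig7 sig8 sig9 sig10 subPts subIdx subTree1Mask subTree2Mask permT colT mulT

/-- The spanning transpositions. -/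
def tv (j : ℕ) : Cfsg.Spor.Fi23 := wval imZ (tW.getD j [])

/-- The normalising elements. -/
def sv (i : ℕ) : Cfsg.Spor.Fi23 := wval imZ (sW.getD i [])

/-- The span. -/
def vv (m : ℕ) : Cfsg.Spor.Fi23 := bitProd tv 11 m

/-- The representatives. -/
def rep (k : ℕ) : Cfsg.Spor.Fi23 := bitProd sv 7 k

theorem tW_lt (j : ℕ) : ∀ a ∈ tW.getD j [], a < 11 := by
  intro a ha
  rcases lt_or_ge j tW.length with h | h
  · have := List.all_eq_true.1 words_lt (tW.getD j [])
      (List.mem_append_left _ (List.mem_append_right _ (by rw [List.getD_eq_getElem _ _ h]; exact List.getElem_mem h)))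
    exact decide_eq_true_eq.mp (List.all_eq_true.1 this a ha)
  · rw [List.getD_eq_default _ _ h] at ha
    simp at ha

theorem sW_lt (j : ℕ) : ∀ a ∈ sW.getD j [], a < 11 := by
  intro a ha
  rcases lt_or_ge j sW.length with h | h
  · have := List.all_eq_true.1 words_lt (sW.getD j [])
      (List.mem_append_right _ (by rw [List.getD_eq_getElem _ _ h]; exact List.getElem_mem h))
    exact decide_eq_true_eq.mp (List.all_eq_true.1 this a ha)
  · rw [List.getD_eq_default _ _ h] at ha
    simp at ha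

theorem vW_lt (m : ℕ) : ∀ a ∈ vW m, a < 11 := by
  intro a ha
  obtain ⟨j, -, hj⟩ := List.mem_flatMap.1 ha
  split_ifs at hj
  · exact tW_lt j a hj
  · simp at hj

theorem repW_lt (m : ℕ) : ∀ a ∈ repW m, a < 11 := by
  intro a ha
  obtain ⟨j, -, hj⟩ := List.mem_flatMap.1 ha
  split_ifs at hj
  · exact sW_lt j a hj
  · simp at hj

theorem app_lt {u w : List ℕ} (hu : ∀ a ∈ u, a < 11) (hw : ∀ a ∈ w, a < 11) : ∀ a ∈ u ++ w, a < 11 := fun a ha =>
  (List.mem_append.1 ha).elim (hu a) (hw a)

theorem wval_vW (m : ℕ) : wval imZ (vW m) = vv m := wval_flatMap 11 m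

theorem wval_repW (k : ℕ) : wval imZ (repW k) = rep k := wval_flatMap 7 k

theorem sq_t {i : ℕ} (hi : i < 11) : tv i * tv i = 1 := by
  have h := List.all_eq_true.1 t_rel i (List.mem_range.2 hi)
  rw [Bool.and_eq_true] at h
  have := (sameQ_iff (app_lt (tW_lt i) (tW_lt i)) (by simp)).1 h.1
  rwa [wval_append, wval_nil] at this

theorem comm_t {i j : ℕ} (hi : i < 11) (hj : j < 11) : tv i * tv j = tv j * tv i := by
  have h := List.all_eq_true.1 t_rel i (List.mem_range.2 hi)
  rw [Bool.and_eq_true] at h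
  have := (sameQ_iff (app_lt (tW_lt i) (tW_lt j)) (app_lt (tW_lt j) (tW_lt i))).1
    (List.all_eq_true.1 h.2 j (List.mem_range.2 hj))
  rwa [wval_append, wval_append] at this

theorem vv_xor (a b : ℕ) : vv (a ^^^ b) = vv a * vv b :=
  bitProd_xor tv (fun _ hi _ hj => comm_t hi hj) (fun _ hi => sq_t hi) a b

theorem vv_zero : vv 0 = 1 := bitProd_zero tv 11

theorem vv_sq (a : ℕ) : vv a * vv a = 1 := by rw [← vv_xor, Nat.xor_self, vv_zero]

theorem vv_inv (a : ℕ) : (vv a)⁻¹ = vv a := inv_eq_of_mul_eq_one_left (vv_sq a)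

theorem vv_mod (m : ℕ) : vv (m % 2048) = vv m := bitProd_mod tv (n := 11) m

/-- The span as a subgroup. -/
def V : Subgroup Cfsg.Spor.Fi23 where
  carrier := {x | ∃ m < 2048, vv m = x}
  one_mem' := ⟨0, by norm_num, vv_zero⟩
  mul_mem' := by
    rintro _ _ ⟨a, ha, rfl⟩ ⟨b, hb, rfl⟩
    exact ⟨a ^^^ b, Nat.xor_lt_two_pow (n := 11) ha hb, vv_xor a b⟩
  inv_mem' := by
    rintro _ ⟨a, ha, rfl⟩
    exact ⟨a, ha, (vv_inv a).symm⟩

theorem vv_mem (m : ℕ) : vv m ∈ V := ⟨m % 2048, Nat.mod_lt _ (by norm_num), vv_mod m⟩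

theorem tv_mem {j : ℕ} (hj : j < 11) : tv j ∈ V := by
  rw [← bitProd_pow tv hj]
  exact vv_mem _

theorem vv_inj {a b : ℕ} (ha : a < 2048) (hb : b < 2048) (h : vv a = vv b) : a = b := by
  have h0 : vv (a ^^^ b) = 1 := by rw [vv_xor, h, vv_sq]
  have := v_ne (m := a ^^^ b) (Nat.xor_lt_two_pow (n := 11) ha hb)
  rw [Bool.or_eq_true, beq_iff_eq, Bool.not_eq_true'] at this
  rcases this with e | e
  · exact Nat.xor_eq_zero_iff.1 e
  · have := (sameQ_iff (vW_lt _) (w := []) (by simp)).2 (by rw [wval_vW, h0, wval_nil])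
    rw [this] at e
    cases e

theorem card_V : Nat.card V = 2 ^ 11 := by
  let f : Fin 2048 → V := fun m => ⟨vv m, vv_mem m⟩
  have hf : Function.Bijective f :=
    ⟨fun a b h => Fin.ext (vv_inj a.2 b.2 (Subtype.ext_iff.1 h)),
      fun ⟨x, hx⟩ => by obtain ⟨m, hm, rfl⟩ := hx; exact ⟨⟨m, hm⟩, rfl⟩⟩
  rw [← Nat.card_eq_of_bijective f hf, Nat.card_fin]
  norm_num

theorem V_elem : Cfsg.IsElementaryAbelian 2 V := by
  refine ⟨⟨⟨?_⟩⟩, ?_⟩
  · rintro ⟨_, a, ha, rfl⟩ ⟨_, b, hb, rfl⟩
    exact Subtype.ext (show vv a * vv b = vv b * vv a by rw [← vv_xor, Nat.xor_comm, vv_xor])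
  · rintro _ ⟨a, -, rfl⟩
    rw [sq, vv_sq]

/-- The columns of a normalising element. -/
def cS (i j : ℕ) : ℕ := (colS.getD i []).getD j 0

theorem sconj {i j : ℕ} (hi : i < 7) (hj : j < 11) : sv i * tv j * (sv i)⁻¹ = vv (cS i j) := by
  have h := List.all_eq_true.1 (List.all_eq_true.1 s_conj i (List.mem_range.2 hi)) j (List.mem_range.2 hj)
  rw [Bool.and_eq_true] at h
  have := (sameQ_iff (app_lt (sW_lt i) (tW_lt j)) (app_lt (vW_lt _) (sW_lt i))).1 h.2
  rw [wval_append, wval_append, wval_vW] at this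
  exact mul_inv_eq_iff_eq_mul.2 this

theorem ssq {i : ℕ} (hi : i < 7) : ∃ m k, k < 2 ^ i ∧ sv i * sv i = vv m * rep k := by
  have h := List.all_eq_true.1 s_sq i (List.mem_range.2 hi)
  rw [Bool.and_eq_true, decide_eq_true_eq] at h
  refine ⟨(sqD.getD i (0, 0)).1, _, h.1, ?_⟩
  have := (sameQ_iff (app_lt (sW_lt i) (sW_lt i)) (app_lt (vW_lt _) (repW_lt _))).1 h.2
  rwa [wval_append, wval_append, wval_vW, wval_repW] at this

theorem sss {i j : ℕ} (hi : i < 7) (hj : j < i) : ∃ m k, k < 2 ^ i ∧ sv i * sv j * (sv i)⁻¹ = vv m * rep k := by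
  have h := List.all_eq_true.1 (List.all_eq_true.1 s_s i (List.mem_range.2 hi)) j (List.mem_range.2 hj)
  rw [Bool.and_eq_true, decide_eq_true_eq] at h
  refine ⟨((cjD.getD i []).getD j (0, 0)).1, _, h.1, ?_⟩
  have := (sameQ_iff (app_lt (sW_lt i) (sW_lt j)) (app_lt (app_lt (vW_lt _) (repW_lt _)) (sW_lt i))).1 h.2
  rw [wval_append, wval_append, wval_append, wval_vW, wval_repW] at this
  exact mul_inv_eq_iff_eq_mul.2 this

/-- The extension of a subgroup by an element normalising it, with square inside. -/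
def ext2 (H : Subgroup Cfsg.Spor.Fi23) (s : Cfsg.Spor.Fi23) (hc : ∀ x ∈ H, s * x * s⁻¹ ∈ H) (hs : s * s ∈ H) :
    Subgroup Cfsg.Spor.Fi23 where
  carrier := {x | x ∈ H ∨ x * s⁻¹ ∈ H}
  one_mem' := Or.inl (one_mem H)
  mul_mem' := by
    rintro x y (hx | hx) (hy | hy)
    · exact Or.inl (mul_mem hx hy)
    · exact Or.inr (by rw [mul_assoc]; exact mul_mem hx hy)
    · refine Or.inr ?_
      rw [show x * y * s⁻¹ = x * s⁻¹ * (s * y * s⁻¹) by group]
      exact mul_mem hx (hc y hy)
    · refine Or.inl ?_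
      rw [show x * y = x * s⁻¹ * (s * (y * s⁻¹) * s⁻¹) * (s * s) by group]
      exact mul_mem (mul_mem hx (hc _ hy)) hs
  inv_mem' := by
    rintro x (hx | hx)
    · exact Or.inl (inv_mem hx)
    · refine Or.inr ?_
      rw [show x⁻¹ * s⁻¹ = (s * s)⁻¹ * (s * (x * s⁻¹)⁻¹ * s⁻¹) by group]
      exact mul_mem (inv_mem hs) (hc _ (inv_mem hx))

/-- The subgroup generated by the span and the first normalising elements. -/
def T (i : ℕ) : Subgroup Cfsg.Spor.Fi23 := V ⊔ Subgroup.closure (sv '' Set.Iio i)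

theorem rep_mem {i k : ℕ} (hk : k < 2 ^ i) : rep k ∈ T i := by
  rw [rep]
  suffices ∀ n ≤ 7, bitProd sv n k ∈ T i from this 7 le_rfl
  intro n hn
  induction n with
  | zero => exact one_mem _
  | succ n ih =>
    rw [bitProd]
    refine mul_mem (ih (by omega)) ?_
    split_ifs with h
    · refine Subgroup.mem_sup_right (Subgroup.subset_closure ⟨n, ?_, rfl⟩)
      by_contra hle
      rw [Set.mem_Iio, not_lt] at hle
      rw [Nat.testBit_lt_two_pow (hk.trans_le (Nat.pow_le_pow_right (by norm_num) hle))] at h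
      cases h
    · exact one_mem _

theorem rep_add {i k : ℕ} (hi : i < 7) (hk : k < 2 ^ i) : rep (k + 2 ^ i) = rep k * sv i := by
  have hz : ∀ n, bitProd sv (i + n) k = bitProd sv i k := by
    intro n
    induction n with
    | zero => rfl
    | succ n ih => rw [← add_assoc, bitProd, ih, Nat.testBit_lt_two_pow (hk.trans_le
        (Nat.pow_le_pow_right (by norm_num) (by omega)))]; simp
  have ho : ∀ n, bitProd sv (i + 1 + n) (k + 2 ^ i) = bitProd sv i k * sv i := by
    intro n
    induction n with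
    | zero =>
      rw [add_zero, bitProd, ← bitProd_mod sv (n := i) (k + 2 ^ i), Nat.add_mod_right, bitProd_mod,
        Nat.add_comm, Nat.testBit_two_pow_add_eq, Nat.testBit_lt_two_pow hk]
      simp
    | succ n ih =>
      rw [← add_assoc (i + 1), bitProd, ih, Nat.testBit_lt_two_pow]
      · simp
      · calc k + 2 ^ i < 2 ^ i + 2 ^ i := by omega
          _ = 2 ^ (i + 1) := by ring
          _ ≤ _ := Nat.pow_le_pow_right (by norm_num) (by omega)
  have h1 := hz (7 - i)
  have h2 := ho (6 - i)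
  rw [show i + (7 - i) = 7 by omega] at h1
  rw [show i + 1 + (6 - i) = 7 by omega] at h2
  rw [rep, rep, h1, h2]

/-- Every element is a product of one from the span and a representative. -/
theorem forms : ∀ i ≤ 7, ∀ x ∈ T i, ∃ m k, k < 2 ^ i ∧ x = vv m * rep k := by
  intro i
  induction i with
  | zero =>
    intro _ x hx
    rw [T, show Set.Iio 0 = (∅ : Set ℕ) by ext; simp, Set.image_empty, Subgroup.closure_empty, sup_bot_eq] at hx
    obtain ⟨m, -, rfl⟩ := hx
    exact ⟨m, 0, by norm_num, by rw [rep, bitProd_zero, mul_one]⟩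
  | succ i ih =>
    intro hi x hx
    have hi' : i < 7 := hi
    have hgen : ∀ y, (y ∈ V → y ∈ (T i).comap (MulAut.conj (sv i)).toMonoidHom) := by
      rintro _ ⟨m, -, rfl⟩
      refine bitProd_mem tv (fun j hj => ?_) m
      show sv i * tv j * (sv i)⁻¹ ∈ T i
      rw [sconj hi' hj]
      exact Subgroup.mem_sup_left (vv_mem _)
    have hle : T i ≤ (T i).comap (MulAut.conj (sv i)).toMonoidHom := by
      refine sup_le (fun y hy => hgen y hy) ((Subgroup.closure_le _).2 ?_)
      rintro _ ⟨j, hj, rfl⟩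
      show sv i * sv j * (sv i)⁻¹ ∈ T i
      obtain ⟨m, k, hk, e⟩ := sss hi' hj
      rw [e]
      exact mul_mem (Subgroup.mem_sup_left (vv_mem _)) (rep_mem hk)
    have hs : sv i * sv i ∈ T i := by
      obtain ⟨m, k, hk, e⟩ := ssq hi'
      rw [e]
      exact mul_mem (Subgroup.mem_sup_left (vv_mem _)) (rep_mem hk)
    have hsub : T (i + 1) ≤ ext2 (T i) (sv i) (fun y hy => hle hy) hs := by
      refine sup_le (fun y hy => Or.inl (Subgroup.mem_sup_left hy)) ((Subgroup.closure_le _).2 ?_)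
      rintro _ ⟨j, hj, rfl⟩
      rcases Nat.lt_succ_iff_lt_or_eq.1 hj with h | h
      · exact Or.inl (Subgroup.mem_sup_right (Subgroup.subset_closure ⟨j, h, rfl⟩))
      · subst h
        exact Or.inr (by rw [mul_inv_cancel]; exact one_mem _)
    rcases hsub hx with h | h
    · obtain ⟨m, k, hk, e⟩ := ih (by omega) x h
      exact ⟨m, k, hk.trans_le (Nat.pow_le_pow_right (by norm_num) (Nat.le_succ i)), e⟩
    · obtain ⟨m, k, hk, e⟩ := ih (by omega) _ h
      refine ⟨m, k + 2 ^ i, by rw [pow_succ]; omega, ?_⟩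
      rw [rep_add hi' hk, ← mul_assoc, ← e, inv_mul_cancel_right]

/-- A point of the clique. -/
def cpt (j : Fin 23) : Fin 31671 := ⟨clPts.getD j.val 0, by
  have := List.all_eq_true.1 cl_ok j.val (List.mem_range.2 j.2)
  rw [Bool.and_eq_true, decide_eq_true_eq] at this
  exact this.1⟩

theorem cpt_inj : Function.Injective cpt := by
  intro a b h
  by_contra hne
  have := List.all_eq_true.1 cl_ok b.val (List.mem_range.2 b.2)
  rw [Bool.and_eq_true] at this
  have h2 := List.all_eq_true.1 this.2 a.val (List.mem_range.2 a.2)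
  rw [Bool.or_eq_true, beq_iff_eq, bne_iff_ne] at h2
  rcases h2 with e | e
  · exact hne (Fin.ext e)
  · exact e (congrArg Fin.val h)

theorem V_fix {x : Cfsg.Spor.Fi23} (hx : x ∈ V) (j : Fin 23) : x • cpt j = cpt j := by
  obtain ⟨m, -, rfl⟩ := hx
  exact bitProd_mem tv (H := MulAction.stabilizer Cfsg.Spor.Fi23 (cpt j)) (fun i hi => by
    rw [MulAction.mem_stabilizer_iff]
    refine Fin.ext ((smul_word (tW_lt i) _).trans ?_)
    exact beq_iff_eq.1 (List.all_eq_true.1 (List.all_eq_true.1 t_fix i (List.mem_range.2 hi)) j.val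
      (List.mem_range.2 j.2))) m

theorem sv_cl {i : ℕ} (hi : i < 7) (j : Fin 23) :
    ∃ h : (sigs.getD i []).getD j.val 0 < 23, sv i • cpt j = cpt ⟨_, h⟩ := by
  have := List.all_eq_true.1 (List.all_eq_true.1 s_perm i (List.mem_range.2 hi)) j.val (List.mem_range.2 j.2)
  rw [Bool.and_eq_true, decide_eq_true_eq, beq_iff_eq] at this
  exact ⟨this.1, Fin.ext ((smul_word (sW_lt i) _).trans this.2)⟩

/-- The image of a clique point under a product of the first normalising elements. -/
theorem bit_cl (k : ℕ) : ∀ n ≤ 7, ∀ j : Fin 23, ∃ h : (List.range n).foldr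
    (fun i x => if k.testBit i then (sigs.getD i []).getD x 0 else x) j.val < 23,
    bitProd sv n k • cpt j = cpt ⟨_, h⟩ := by
  intro n hn
  induction n with
  | zero => intro j; exact ⟨j.2, by simp [bitProd]⟩
  | succ n ih =>
    intro j
    simp only [List.range_succ, List.foldr_append, List.foldr_cons, List.foldr_nil, bitProd]
    by_cases hb : k.testBit n = true
    · simp only [hb, if_true]
      obtain ⟨h, e⟩ := sv_cl (show n < 7 by omega) j
      obtain ⟨h', e'⟩ := ih (by omega) ⟨_, h⟩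
      exact ⟨h', by rw [mul_smul, e, e']⟩
    · simp only [Bool.not_eq_true] at hb
      simp only [hb, Bool.false_eq_true, if_false, mul_one]
      exact ih (by omega) j

theorem rep_cl {k : ℕ} (hk : k < 128) (j : Fin 23) : ∃ h : pim k j.val < 23, rep k • cpt j = cpt ⟨_, h⟩ := by
  have e := beq_iff_eq.1 (List.all_eq_true.1 (List.all_eq_true.1 perm_rec k (List.mem_range.2 hk)) j.val
    (List.mem_range.2 j.2))
  obtain ⟨h, h'⟩ := bit_cl k 7 le_rfl j
  exact ⟨e ▸ h, h'.trans (congrArg cpt (Fin.ext e.symm))⟩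

theorem form_cl {m k : ℕ} (hk : k < 128) (j : Fin 23) :
    ∃ h : pim k j.val < 23, (vv m * rep k) • cpt j = cpt ⟨_, h⟩ := by
  obtain ⟨h, e⟩ := rep_cl hk j
  exact ⟨h, by rw [mul_smul, e, V_fix (vv_mem m)]⟩

theorem k_unique {a b m n : ℕ} (ha : a < 128) (hb : b < 128) (h : vv m * rep a = vv n * rep b) : a = b := by
  by_contra hne
  have key : ∀ j < 23, pim a j = pim b j := fun j hj => by
    obtain ⟨h1, e1⟩ := form_cl (m := m) ha ⟨j, hj⟩
    obtain ⟨h2, e2⟩ := form_cl (m := n) hb ⟨j, hj⟩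
    rw [h] at e1
    exact congrArg Fin.val (cpt_inj (e1.symm.trans e2))
  rcases Nat.lt_or_gt_of_ne hne with hlt | hlt
  · have := List.all_eq_true.1 (List.all_eq_true.1 perm_inj b (List.mem_range.2 hb)) a (List.mem_range.2 hlt)
    obtain ⟨j, hj, e⟩ := List.any_eq_true.1 this
    exact bne_iff_ne.1 e (key j (List.mem_range.1 hj)).symm
  · have := List.all_eq_true.1 (List.all_eq_true.1 perm_inj a (List.mem_range.2 ha)) b (List.mem_range.2 hlt)
    obtain ⟨j, hj, e⟩ := List.any_eq_true.1 this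
    exact bne_iff_ne.1 e (key j (List.mem_range.1 hj))

theorem card_T : Nat.card (T 7) = 2 ^ 18 := by
  let f : Fin 2048 × Fin 128 → T 7 := fun p => ⟨vv p.1 * rep p.2,
    mul_mem (Subgroup.mem_sup_left (vv_mem _)) (rep_mem (i := 7) p.2.2)⟩
  have hf : Function.Bijective f := by
    refine ⟨fun p q h => ?_, fun ⟨x, hx⟩ => ?_⟩
    · have h' : vv p.1 * rep p.2 = vv q.1 * rep q.2 := Subtype.ext_iff.1 h
      have hk := k_unique p.2.2 q.2.2 h'
      rw [hk, mul_left_inj] at h'
      exact Prod.ext (Fin.ext (vv_inj p.1.2 q.1.2 h')) (Fin.ext hk)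
    · obtain ⟨m, k, hk, e⟩ := forms 7 le_rfl x hx
      exact ⟨(⟨m % 2048, Nat.mod_lt _ (by norm_num)⟩, ⟨k, hk⟩), Subtype.ext
        ((congrArg (· * rep k) (vv_mod m)).trans e.symm)⟩
  rw [← Nat.card_eq_of_bijective f hf, Nat.card_prod, Nat.card_fin, Nat.card_fin]
  norm_num

theorem V_normal : (V.subgroupOf (T 7)).Normal := by
  have hle : T 7 ≤ Subgroup.normalizer (V : Set Cfsg.Spor.Fi23) := by
    refine sup_le Subgroup.le_normalizer ((Subgroup.closure_le _).2 ?_)
    rintro _ ⟨i, hi, rfl⟩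
    have hmap : V.map (MulAut.conj (sv i)).toMonoidHom ≤ V := by
      rintro _ ⟨_, ⟨m, -, rfl⟩, rfl⟩
      exact bitProd_mem tv (H := V.comap (MulAut.conj (sv i)).toMonoidHom)
        (fun j hj => by show sv i * tv j * (sv i)⁻¹ ∈ V; rw [sconj hi hj]; exact vv_mem _) m
    have heq : V.map (MulAut.conj (sv i)).toMonoidHom = V := Subgroup.eq_of_le_of_card_ge hmap
      (by rw [Subgroup.card_map_of_injective (MulAut.conj (sv i)).injective])
    rw [SetLike.mem_coe, Subgroup.mem_normalizer_iff]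
    intro x
    constructor
    · intro hx
      exact hmap ⟨x, hx, rfl⟩
    · intro hx
      rw [← SetLike.mem_coe, ← heq] at hx
      obtain ⟨y, hy, e⟩ := hx
      have e' : sv i * y * (sv i)⁻¹ = sv i * x * (sv i)⁻¹ := e
      rw [mul_left_inj, mul_right_inj] at e'
      exact e' ▸ hy
  exact ⟨fun n hn g => (Subgroup.mem_normalizer_iff.1 (hle g.2) n).1 hn⟩

/-- The representatives act linearly on the span. -/
theorem rep_conj {k : ℕ} (hk : k < 128) (m : ℕ) : rep k * vv m * (rep k)⁻¹ = vv (lin (col k) 11 m) := by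
  have step : ∀ i < 7, ∀ m, sv i * vv m * (sv i)⁻¹ = vv (lin (cS i) 11 m) := fun i hi m =>
    lin_conj tv (fun _ ha _ hb => comm_t ha hb) (fun _ ha => sq_t ha) (fun j hj => sconj hi hj) 11 le_rfl m
  have hb : ∀ n ≤ 7, ∀ m, bitProd sv n k * vv m * (bitProd sv n k)⁻¹ = vv ((List.range n).foldr
      (fun i x => if k.testBit i then lin (cS i) 11 x else x) m) := by
    intro n hn
    induction n with
    | zero => intro m; simp [bitProd]
    | succ n ih =>
      intro m
      simp only [List.range_succ, List.foldr_append, List.foldr_cons, List.foldr_nil, bitProd]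
      by_cases hb : k.testBit n = true
      · simp only [hb, if_true]
        rw [← ih (by omega), ← step n (by omega)]
        group
      · simp only [Bool.not_eq_true] at hb
        simp only [hb, Bool.false_eq_true, if_false, mul_one]
        exact ih (by omega) m
  refine lin_conj tv (fun _ ha _ hb => comm_t ha hb) (fun _ ha => sq_t ha) (fun j hj => ?_) 11 le_rfl m
  rw [← bitProd_pow tv hj]
  refine (hb 7 le_rfl _).trans ?_
  have := beq_iff_eq.1 (List.all_eq_true.1 (List.all_eq_true.1 col_rec k (List.mem_range.2 hk)) j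
    (List.mem_range.2 hj))
  exact congrArg vv this.symm

theorem mulI_lt {a b : ℕ} (ha : a < 128) (hb : b < 128) : mulI a b < 128 := by
  have := List.all_eq_true.1 (List.all_eq_true.1 mul_perm a (List.mem_range.2 ha)) b (List.mem_range.2 hb)
  rw [Bool.and_eq_true, decide_eq_true_eq] at this
  exact this.1

theorem mul_form {a b m n p c : ℕ} (ha : a < 128) (hb : b < 128) (hc : c < 128)
    (h : vv m * rep a * (vv n * rep b) = vv p * rep c) : c = mulI a b := by
  have key : ∀ j < 23, pim c j = pim (mulI a b) j := fun j hj => by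
    obtain ⟨h1, e1⟩ := form_cl (m := p) hc ⟨j, hj⟩
    obtain ⟨h2, e2⟩ := form_cl (m := n) hb ⟨j, hj⟩
    obtain ⟨h3, e3⟩ := form_cl (m := m) ha ⟨_, h2⟩
    have := List.all_eq_true.1 (List.all_eq_true.1 mul_perm a (List.mem_range.2 ha)) b (List.mem_range.2 hb)
    rw [Bool.and_eq_true] at this
    rw [← h, mul_smul, e2, e3] at e1
    rw [beq_iff_eq.1 (List.all_eq_true.1 this.2 j (List.mem_range.2 hj))]
    exact (congrArg Fin.val (cpt_inj e1)).symm
  by_contra hne
  have hm := mulI_lt ha hb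
  rcases Nat.lt_or_gt_of_ne hne with hlt | hlt
  · have := List.all_eq_true.1 (List.all_eq_true.1 perm_inj _ (List.mem_range.2 hm)) c (List.mem_range.2 hlt)
    obtain ⟨j, hj, e⟩ := List.any_eq_true.1 this
    exact bne_iff_ne.1 e (key j (List.mem_range.1 hj)).symm
  · have := List.all_eq_true.1 (List.all_eq_true.1 perm_inj c (List.mem_range.2 hc)) _ (List.mem_range.2 hlt)
    obtain ⟨j, hj, e⟩ := List.any_eq_true.1 this
    exact bne_iff_ne.1 e (key j (List.mem_range.1 hj))

theorem testBit_fold {f : ℕ → ℕ} : ∀ (l : List ℕ) (A x : ℕ),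
    (l.foldl (fun B a => B ||| (1 <<< f a)) A).testBit x = true ↔ A.testBit x = true ∨ ∃ a ∈ l, f a = x
  | [], A, x => by simp
  | a :: l, A, x => by
    rw [List.foldl_cons, testBit_fold l, Nat.testBit_lor, Bool.or_eq_true, Nat.one_shiftLeft, Nat.testBit_two_pow,
      decide_eq_true_eq]
    simp only [List.mem_cons, exists_eq_or_imp, or_assoc]

theorem testBit_and {f : ℕ → ℕ} : ∀ (l : List ℕ) (F x : ℕ), F.testBit x = true → (∀ a ∈ l, (f a).testBit x = true) →
    (l.foldl (fun F a => F &&& f a) F).testBit x = true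
  | [], _, _, h, _ => h
  | a :: l, F, x, h, h' => testBit_and l _ x
      (by rw [Nat.testBit_land, h, h' a List.mem_cons_self]; rfl) fun b hb => h' b (List.mem_cons_of_mem a hb)

theorem mem_mem128 {A k : ℕ} : k ∈ mem128 A ↔ k < 128 ∧ A.testBit k = true := by simp [mem128]

theorem subs_zero (B : ℕ) (h : B ∈ subs) : B.testBit 0 = true := List.all_eq_true.1 subs_bit B h

theorem lin_lt {k : ℕ} (hk : k < 128) (m : ℕ) : lin (col k) 11 m < 2048 := by
  suffices ∀ n ≤ 11, lin (col k) n m < 2048 from this 11 le_rfl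
  intro n hn
  induction n with
  | zero => simp [lin]
  | succ n ih =>
    rw [lin]
    refine Nat.xor_lt_two_pow (n := 11) (ih (by omega)) ?_
    split_ifs
    · exact decide_eq_true_eq.mp (List.all_eq_true.1 (List.all_eq_true.1 col_lt k (List.mem_range.2 hk)) n
        (List.mem_range.2 (by omega)))
    · norm_num

/-- An elementary abelian subgroup has at most 2^10 elements unless it lies in the span. -/
theorem small {A : Subgroup Cfsg.Spor.Fi23} (hA : A ≤ T 7) (he : Cfsg.IsElementaryAbelian 2 A) (hne : ¬ A ≤ V) :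
    Nat.card A ≤ 1024 := by
  classical
  have hcomm : ∀ x ∈ A, ∀ y ∈ A, x * y = y * x := fun x hx y hy => by
    haveI := he.1
    exact congrArg Subtype.val (mul_comm' (⟨x, hx⟩ : A) ⟨y, hy⟩)
  set K : Finset ℕ := (Finset.range 128).filter fun k => ∃ m, vv m * rep k ∈ A with hK
  have memK : ∀ {k}, k ∈ K ↔ k < 128 ∧ ∃ m, vv m * rep k ∈ A := fun {k} => by simp [hK]
  have formA : ∀ x ∈ A, ∃ m k, k < 128 ∧ x = vv m * rep k := fun x hx => forms 7 le_rfl x (hA hx)
  have h0 : vv 0 * rep 0 = 1 := by rw [vv_zero, rep, bitProd_zero, mul_one]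
  have Ksq : ∀ k ∈ K, sqId k = true := by
    intro k hk
    obtain ⟨hk, m, hm⟩ := memK.1 hk
    refine beq_iff_eq.2 (mul_form (m := m) (n := m) (p := 0) hk hk (by norm_num) ?_).symm
    rw [← sq, he.2 _ hm, h0]
  have Kcl : ∀ a ∈ K, ∀ b ∈ K, mulI a b ∈ K ∧ mulI a b = mulI b a := by
    intro a ha b hb
    obtain ⟨ha, m, hm⟩ := memK.1 ha
    obtain ⟨hb, n, hn⟩ := memK.1 hb
    obtain ⟨p, c, hc, e⟩ := formA _ (mul_mem hm hn)
    have e1 := mul_form ha hb hc e
    rw [hcomm _ hm _ hn] at e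
    have e2 := mul_form hb ha hc e
    refine ⟨e1 ▸ memK.2 ⟨hc, p, ?_⟩, e1.symm.trans e2⟩
    rw [← e]
    exact mul_mem hn hm
  have K0 : 0 ∈ K := memK.2 ⟨by norm_num, 0, by rw [h0]; exact one_mem _⟩
  -- the largest listed subgroup inside
  set L : Finset ℕ := subs.toFinset.filter fun B => ∀ k < 128, B.testBit k = true → k ∈ K with hL
  have memL : ∀ {B}, B ∈ L ↔ B ∈ subs.toFinset ∧ ∀ k < 128, B.testBit k = true → k ∈ K := fun {B} => by
    simp [hL]
  have hL1 : 1 ∈ L := by
    rw [memL]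
    refine ⟨List.mem_toFinset.2 (List.contains_iff_mem.1 subs_one), fun k _ hk => ?_⟩
    rw [← pow_zero 2, Nat.testBit_two_pow, decide_eq_true_eq] at hk
    exact hk ▸ K0
  obtain ⟨B, hB, hmax⟩ := L.exists_max_image (fun B => (mem128 B).toFinset.card) ⟨1, hL1⟩
  obtain ⟨hBs, hBK⟩ : B ∈ subs.toFinset ∧ ∀ k < 128, B.testBit k = true → k ∈ K := memL.1 hB
  have hok := List.all_eq_true.1 subs_ok B (List.mem_toFinset.1 hBs)
  rw [subOK, Bool.and_eq_true] at hok
  have hKB : ∀ k ∈ K, B.testBit k = true := by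
    intro k hk
    by_contra hb
    obtain ⟨hk', -⟩ := memK.1 hk
    have hc : ((mem128 B).all fun a => mulI a k == mulI k a) = true := List.all_eq_true.2 fun a ha =>
      beq_iff_eq.2 (Kcl a (hBK a (mem_mem128.1 ha).1 (mem_mem128.1 ha).2) k hk).2
    have hext := List.all_eq_true.1 hok.1 k (List.mem_range.2 hk')
    simp only [Ksq k hk, hc, Bool.not_true, Bool.or_false, Bool.eq_false_iff.2 hb, Bool.false_or] at hext
    set B' := (mem128 B).foldl (fun B a => B ||| (1 <<< mulI a k)) B with hB'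
    have hB'L : B' ∈ L := by
      rw [memL]
      refine ⟨List.mem_toFinset.2 (List.contains_iff_mem.1 hext), fun j hj h => ?_⟩
      rcases (testBit_fold (f := fun a => mulI a k) _ _ _).1 h with h | ⟨a, ha, rfl⟩
      · exact hBK j hj h
      · exact (Kcl a (hBK a (mem_mem128.1 ha).1 (mem_mem128.1 ha).2) k hk).1
    have hlt : (mem128 B).toFinset.card < (mem128 B').toFinset.card := by
      refine Finset.card_lt_card (Finset.ssubset_iff_of_subset (fun a ha => ?_) |>.2 ⟨k, ?_, ?_⟩)
      · rw [List.mem_toFinset, mem_mem128] at ha ⊢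
        exact ⟨ha.1, (testBit_fold (f := fun a => mulI a k) _ _ _).2 (Or.inl ha.2)⟩
      · rw [List.mem_toFinset, mem_mem128]
        refine ⟨hk', (testBit_fold (f := fun a => mulI a k) _ _ _).2 ?_⟩
        by_cases h0B : B.testBit 0 = true
        · right
          refine ⟨0, mem_mem128.2 ⟨by norm_num, h0B⟩, ?_⟩
          obtain ⟨-, m, hm⟩ := memK.1 hk
          exact (mul_form (m := 0) (n := m) (p := m) (a := 0) (by norm_num) hk' hk' (by rw [h0, one_mul])).symm
        · exfalso
          exact h0B (subs_zero B (List.mem_toFinset.1 hBs))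
      · rw [List.mem_toFinset, mem_mem128]
        exact fun h => hb h.2
    exact absurd (hmax B' hB'L) (not_le.2 hlt)
  have hne1 : B ≠ 1 := by
    rintro rfl
    refine hne fun x hx => ?_
    obtain ⟨m, k, hk, rfl⟩ := formA x hx
    have := hKB k (memK.2 ⟨hk, m, hx⟩)
    rw [← pow_zero 2, Nat.testBit_two_pow, decide_eq_true_eq] at this
    subst this
    rw [rep, bitProd_zero, mul_one]
    exact vv_mem m
  have hbound := hok.2
  rw [Bool.or_eq_true, beq_iff_eq, decide_eq_true_eq] at hbound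
  have hbound := hbound.resolve_left hne1
  -- the part in the span is fixed
  have hfix : ∀ m < 2048, vv m ∈ A → (fixOf B).testBit m = true := by
    intro m hm hmA
    refine testBit_and (f := fun a => fixL.getD a 0) _ _ _ ?_ fun k hk => ?_
    · rw [Nat.testBit_two_pow_sub_one, decide_eq_true_eq]; exact hm
    · obtain ⟨hk, hkB⟩ := mem_mem128.1 hk
      have hkK := hBK k hk hkB
      obtain ⟨-, n, hn⟩ := memK.1 hkK
      have h := fix_ok hk
      rw [fixOK, Ksq k hkK, Bool.not_true, Bool.false_or] at h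
      have h2 := List.all_eq_true.1 h m (List.mem_range.2 hm)
      have hfx : lin (col k) 11 m % 2048 = m := by
        refine vv_inj (Nat.mod_lt _ (by norm_num)) hm ?_
        rw [vv_mod, ← rep_conj hk m]
        have e := hcomm _ hn _ hmA
        have e2 : vv n * vv m = vv m * vv n := by rw [← vv_xor, Nat.xor_comm, vv_xor]
        have e3 : rep k * vv m = vv m * rep k := by
          have : vv n * (rep k * vv m) = vv n * (vv m * rep k) := by
            rw [← mul_assoc, e, ← mul_assoc, ← mul_assoc, e2]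
          exact mul_left_cancel this
        rw [e3, mul_inv_cancel_right]
      rw [lin_lt hk m |> Nat.mod_eq_of_lt] at hfx
      simpa [hfx] using h2
  -- count
  let F : Finset ℕ := (Finset.range 2048).filter fun m => (fixOf B).testBit m
  have hkey : ∀ x : A, ∃ k m, k < 128 ∧ m < 2048 ∧ (x : Cfsg.Spor.Fi23) = vv m * rep k := fun x => by
    obtain ⟨m, k, hk, e⟩ := formA x x.2
    exact ⟨k, m % 2048, hk, Nat.mod_lt _ (by norm_num), by rw [vv_mod, e]⟩
  choose kx mx hk hm hx using hkey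
  have hrep : ∀ k ∈ K, ∃ m, vv m * rep k ∈ A := fun k hk => (memK.1 hk).2
  choose! mk hmk using hrep
  have hkK : ∀ x : A, kx x ∈ K := fun x => memK.2 ⟨hk x, mx x, hx x ▸ x.2⟩
  have hin : ∀ x : A, (mx x ^^^ mk (kx x)) % 2048 ∈ F := fun x => by
    refine Finset.mem_filter.2 ⟨Finset.mem_range.2 (Nat.mod_lt _ (by norm_num)), hfix _ (Nat.mod_lt _ (by norm_num)) ?_⟩
    rw [vv_mod, vv_xor]
    have h := mul_mem x.2 (inv_mem (hmk _ (hkK x)))
    rwa [hx x, show vv (mx x) * rep (kx x) * (vv (mk (kx x)) * rep (kx x))⁻¹ = vv (mx x) * (vv (mk (kx x)))⁻¹ by group,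
      vv_inv] at h
  let f : A → (K ×ˢ F : Finset (ℕ × ℕ)) := fun x => ⟨(kx x, (mx x ^^^ mk (kx x)) % 2048),
    Finset.mem_product.2 ⟨hkK x, hin x⟩⟩
  have hf : Function.Injective f := by
    intro x y h
    have h' := Subtype.ext_iff.1 h
    simp only [f, Prod.mk.injEq] at h'
    obtain ⟨e1, e2⟩ := h'
    apply Subtype.ext
    have e3 := congrArg vv e2
    rw [vv_mod, vv_mod, vv_xor, vv_xor, ← e1, mul_left_inj] at e3
    rw [hx x, hx y, e3, e1]
  calc Nat.card A ≤ Nat.card (K ×ˢ F : Finset (ℕ × ℕ)) := Nat.card_le_card_of_injective f hf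
    _ = K.card * F.card := by rw [Nat.card_eq_fintype_card, Fintype.card_coe, Finset.card_product]
    _ ≤ (mem128 B).length * ((List.range 2048).filter fun m => (fixOf B).testBit m).length := by
      refine Nat.mul_le_mul ?_ ?_
      · exact (Finset.card_le_card fun k hk => List.mem_toFinset.2 (mem_mem128.2 ⟨(memK.1 hk).1, hKB k hk⟩)).trans
          (List.toFinset_card_le _)
      · refine (Finset.card_le_card (t := ((List.range 2048).filter fun m => (fixOf B).testBit m).toFinset) fun m hm => ?_).trans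
          (List.toFinset_card_le _)
        simpa [F] using hm
    _ ≤ 1024 := hbound

end Cfsg.Lib.FiTwenty.SylTwo
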