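import Cfsg.Agent.FiTwenty.SylTwoDefs

/-!
Evaluation of the tests.
-/

set_option autoImplicit false
set_option maxRecDepth 20000
set_option Elab.async false

namespace Cfsg.Lib.FiTwenty.SylTwo

open Cfsg.Lib.CosetCert Cfsg.Lib.PermCert Cfsg.Lib.FiTwenty

theorem t_rel : ((List.range 11).all fun i => sameQ (tW.getD i [] ++ tW.getD i []) [] &&
    ((List.range 11).all fun j => sameQ (tW.getD i [] ++ tW.getD j []) (tW.getD j [] ++ tW.getD i []))) = true := by
  decide +kernel

theorem v_ne0 : allFrom 0 256 (fun m => m == 0 || !sameQ (vW m) []) = true := by decide +kernel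

theorem v_ne1 : allFrom 256 256 (fun m => m == 0 || !sameQ (vW m) []) = true := by decide +kernel

theorem v_ne2 : allFrom 512 256 (fun m => m == 0 || !sameQ (vW m) []) = true := by decide +kernel

theorem v_ne3 : allFrom 768 256 (fun m => m == 0 || !sameQ (vW m) []) = true := by decide +kernel

theorem v_ne4 : allFrom 1024 256 (fun m => m == 0 || !sameQ (vW m) []) = true := by decide +kernel

theorem v_ne5 : allFrom 1280 256 (fun m => m == 0 || !sameQ (vW m) []) = true := by decide +kernel

theorem v_ne6 : allFrom 1536 256 (fun m => m == 0 || !sameQ (vW m) []) = true := by decide +kernel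

theorem v_ne7 : allFrom 1792 256 (fun m => m == 0 || !sameQ (vW m) []) = true := by decide +kernel

theorem v_ne {m : ℕ} (hm : m < 2048) : (m == 0 || !sameQ (vW m) []) = true := by
  have h := allFrom_add (allFrom_add (allFrom_add (allFrom_add (allFrom_add (allFrom_add (allFrom_add
    v_ne0 v_ne1) v_ne2) v_ne3) v_ne4) v_ne5) v_ne6) v_ne7
  exact allFrom_zero h hm

theorem s_conj : ((List.range 7).all fun i => (List.range 11).all fun j =>
    decide ((colS.getD i []).getD j 0 < 2048) &&
    sameQ (sW.getD i [] ++ tW.getD j []) (vW ((colS.getD i []).getD j 0) ++ sW.getD i [])) = true := by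
  decide +kernel

theorem s_sq : ((List.range 7).all fun i => decide ((sqD.getD i (0, 0)).2 < 2 ^ i) &&
    sameQ (sW.getD i [] ++ sW.getD i []) (vW (sqD.getD i (0, 0)).1 ++ repW (sqD.getD i (0, 0)).2)) = true := by
  decide +kernel

theorem s_s : ((List.range 7).all fun i => (List.range i).all fun j =>
    decide (((cjD.getD i []).getD j (0, 0)).2 < 2 ^ i) &&
    sameQ (sW.getD i [] ++ sW.getD j [])
      (vW ((cjD.getD i []).getD j (0, 0)).1 ++ repW ((cjD.getD i []).getD j (0, 0)).2 ++ sW.getD i [])) = true := by
  decide +kernel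

end Cfsg.Lib.FiTwenty.SylTwo
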