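import Cfsg.Agent.FiTwenty.SylTwoDefs

/-!
Evaluation of the tests.
-/

set_option autoImplicit false
set_option maxRecDepth 20000
set_option Elab.async false

namespace Cfsg.Lib.FiTwenty.SylTwo

open Cfsg.Lib.CosetCert Cfsg.Lib.PermCert Cfsg.Lib.FiTwenty

theorem words_lt : ((letW ++ tW ++ sW).all fun w => w.all fun l => decide (l < 11)) = true := by decide +kernel

theorem q_pts : ((List.range 10).all fun l => evalP sigTabs (letW.getD l []) 0 == qPts.getD l 0) = true := by
  decide +kernel

theorem q_len : qPts.length = 10 := by decide +kernel

theorem t_fix : ((List.range 11).all fun i => (List.range 23).all fun j =>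
    evalP sigTabs (tW.getD i []) (clPts.getD j 0) == clPts.getD j 0) = true := by decide +kernel

theorem cl_ok : ((List.range 23).all fun j => decide (clPts.getD j 0 < 31671) &&
    (List.range 23).all fun i => i == j || clPts.getD i 0 != clPts.getD j 0) = true := by decide +kernel

theorem s_perm : ((List.range 7).all fun i => (List.range 23).all fun j =>
    decide ((sigs.getD i []).getD j 0 < 23) &&
    (evalP sigTabs (sW.getD i []) (clPts.getD j 0) == clPts.getD ((sigs.getD i []).getD j 0) 0)) = true := by
  decide +kernel

theorem perm_rec : ((List.range 128).all fun k => (List.range 23).all fun j =>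
    pim k j == (List.range 7).foldr (fun i x => if k.testBit i then (sigs.getD i []).getD x 0 else x) j) = true := by
  decide +kernel

theorem col_lt : ((List.range 128).all fun k => (List.range 11).all fun j => decide (col k j < 2048)) = true := by
  decide +kernel

/-- A row of the product table is right. -/
def mulRow (a : ℕ) : Bool :=
  (List.range 128).all fun b => decide (mulI a b < 128) && (List.range 23).all fun j => pim (mulI a b) j == pim a (pim b j)

theorem mul_perm0 : allFrom 0 32 mulRow = true := by decide +kernel

theorem mul_perm1 : allFrom 32 32 mulRow = true := by decide +kernel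

theorem mul_perm2 : allFrom 64 32 mulRow = true := by decide +kernel

theorem mul_perm3 : allFrom 96 32 mulRow = true := by decide +kernel

attribute [local irreducible] mulRow in
theorem mul_perm : ((List.range 128).all mulRow) = true :=
  all_range_of (n := 128) (allFrom_add (b := 96) (c := 32) (allFrom_add (b := 64) (c := 32)
    (allFrom_add (b := 32) (c := 32) mul_perm0 mul_perm1) mul_perm2) mul_perm3)

theorem perm_inj : ((List.range 128).all fun a => (List.range a).all fun b =>
    (List.range 23).any fun j => pim a j != pim b j) = true := by decide +kernel

theorem col_rec : ((List.range 128).all fun k => (List.range 11).all fun j =>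
    col k j == (List.range 7).foldr (fun i x => if k.testBit i then lin (fun l => (colS.getD i []).getD l 0) 11 x
      else x) (2 ^ j)) = true := by decide +kernel

end Cfsg.Lib.FiTwenty.SylTwo
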