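import Cfsg.Agent.FiTwenty.SylTwoCheckFix
import Cfsg.Agent.FiTwenty.SylTwoCheckSpan
import Cfsg.Agent.FiTwenty.SylTwoCheckTab

/-!
The tests of the Sylow 2-subgroup.
-/
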