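import Cfsg.Agent.FiTwenty.CoverFacts
import Cfsg.Agent.FiTwenty.SylTwoCheck

/-!
Equality of elements from the points of the letters; commuting involutions indexed by bit vectors.
-/

set_option autoImplicit false
set_option maxRecDepth 20000

namespace Cfsg.Lib.FiTwenty

open Cfsg.Lib.CosetCert Cfsg.Lib.PermCert

attribute [local irreducible] sig0 sig1 sig2 sig3 sig4 sig5 sig6 sig7 sig8 sig9 sig10 subPts subIdx subTree1Mask subTree2Mask

/-- A word moves points as its evaluation. -/
theorem smul_word {w : List ℕ} (h : ∀ l ∈ w, l < 11) (p : Fin 31671) :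
    ((wval imZ w • p : Fin 31671) : ℕ) = evalP sigTabs w p := psi_apply h p

/-- The braid relation carries one letter to the other. -/
theorem braid_conj {G : Type*} [Group G] {a b c g : G} (hb : a * b * a = b * a * b) (hg : a = g * c * g⁻¹) :
    b = a * b * g * c * (a * b * g)⁻¹ := by
  have : a * b * g * c * (a * b * g)⁻¹ = a * b * (g * c * g⁻¹) * (a * b)⁻¹ := by group
  rw [this, ← hg, hb]
  group

theorem imZ_braid {x y : ℕ} (hx : x < 10) (hy : y < 10) (h : pairWord x y = rpt 3 [x, y]) :
    imZ x * imZ y * imZ x = imZ y * imZ x * imZ y := by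
  rw [imZ_low hx, imZ_low hy]
  have e := good_im (pairWord x y) (List.mem_append_left _ (List.mem_flatMap.2 ⟨x, List.mem_range.2 hx,
    List.mem_map.2 ⟨y, List.mem_range.2 hy, rfl⟩⟩))
  rw [h, wval_rpt, wval_cons, wval_cons, wval_nil, mul_one, pow_succ, pow_succ, pow_one] at e
  have e' : im x * im y * im x * (im y * im x * im y) = 1 := by simpa only [mul_assoc] using e
  rw [← inv_eq_of_mul_eq_one_left e', mul_inv_rev, mul_inv_rev, inv_eq_of_mul_eq_one_left (good_im.inv hx),
    inv_eq_of_mul_eq_one_left (good_im.inv hy), mul_assoc]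

namespace SylTwo

/-- The last two letters braid. -/
theorem z_braid : imZ 9 * imZ 10 * imZ 9 = imZ 10 * imZ 9 * imZ 10 := by
  haveI := transitive
  obtain ⟨g, hg⟩ := letter_transp (show 9 < 10 by norm_num)
  rw [← imZ_low (show 9 < 10 by norm_num)] at hg
  have h9 : imZ 9 * imZ 9 = 1 := imZ_sq (by norm_num)
  have key := three_transp g
  rw [← hg] at key
  rcases key with h | h
  · exfalso
    rw [sq] at h
    have hc : imZ 9 * imZ 10 = imZ 10 * imZ 9 := by
      rw [← inv_eq_of_mul_eq_one_left h, mul_inv_rev, inv_eq_of_mul_eq_one_left h9,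
        inv_eq_of_mul_eq_one_left z_sq]
    have hm : imZ 9 ∈ lgp imZ lamH := centralizer_z ▸ Subgroup.mem_centralizer_singleton_iff.2 hc
    rw [← stab_eq, MulAction.mem_stabilizer_iff] at hm
    have hv : ((((wval imZ [9])⁻¹ : Cfsg.Spor.Fi23) • p0 : Fin 31671) : ℕ) = subBase2 := by
      rw [smul_eq, map_inv]
      exact (evalW_apply imZ psi sigTabs psi_act [9] (by simp; decide) p0).trans (beq_iff_eq.1 words_ok.2.2.2.2.2.1)
    rw [show wval imZ [9] = imZ 9 by simp [wval], inv_eq_of_mul_eq_one_left h9, hm] at hv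
    exact absurd hv (by decide)
  · rw [pow_succ, pow_succ, pow_one] at h
    have h' : imZ 10 * imZ 9 * imZ 10 * (imZ 9 * imZ 10 * imZ 9) = 1 := by simpa only [mul_assoc] using h
    rw [← inv_eq_of_mul_eq_one_left h', mul_inv_rev, mul_inv_rev, inv_eq_of_mul_eq_one_left h9,
      inv_eq_of_mul_eq_one_left z_sq, mul_assoc]

theorem let_step {x y : ℕ} (hx : x < 10) (hy : y < 10) (h : pairWord x y = rpt 3 [x, y]) {v : List ℕ}
    (hv : imZ x = wval imZ v * imZ 10 * (wval imZ v)⁻¹) :
    imZ y = wval imZ (x :: y :: v) * imZ 10 * (wval imZ (x :: y :: v))⁻¹ := by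
  rw [wval_cons, wval_cons, ← mul_assoc]
  exact braid_conj (imZ_braid hx hy h) hv

theorem adj_ok : ([(9, 6), (6, 5), (5, 4), (4, 3), (3, 2), (2, 1), (1, 0), (3, 7), (7, 8)].all fun p : ℕ × ℕ =>
    (pairWord p.1 p.2 == rpt 3 [p.1, p.2]) && (letW.getD p.2 [] == p.1 :: p.2 :: letW.getD p.1 [])) = true := by
  decide +kernel

theorem let_conj : ∀ l < 10, imZ l = wval imZ (letW.getD l []) * imZ 10 * (wval imZ (letW.getD l []))⁻¹ := by
  have h := adj_ok
  simp only [List.all_cons, List.all_nil, Bool.and_eq_true, beq_iff_eq, Bool.and_true] at h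
  obtain ⟨a9, a6, a5, a4, a3, a2, a1, a7, a8⟩ := h
  have step : ∀ {x y : ℕ}, pairWord x y = rpt 3 [x, y] ∧ letW.getD y [] = x :: y :: letW.getD x [] → x < 10 →
      y < 10 → imZ x = wval imZ (letW.getD x []) * imZ 10 * (wval imZ (letW.getD x []))⁻¹ →
      imZ y = wval imZ (letW.getD y []) * imZ 10 * (wval imZ (letW.getD y []))⁻¹ := fun h hx hy hv => by
    rw [h.2]
    exact let_step hx hy h.1 hv
  have e9 : imZ 9 = wval imZ (letW.getD 9 []) * imZ 10 * (wval imZ (letW.getD 9 []))⁻¹ := by
    rw [show letW.getD 9 [] = [10, 9] from rfl, wval_cons, wval_cons, wval_nil, mul_one]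
    have hz : imZ 10 * imZ 9 * imZ 10 = imZ 9 * imZ 10 * imZ 9 := z_braid.symm
    simpa using braid_conj (c := imZ 10) (g := 1) hz (by group)
  have e6 := step a9 (by norm_num) (by norm_num) e9
  have e5 := step a6 (by norm_num) (by norm_num) e6
  have e4 := step a5 (by norm_num) (by norm_num) e5
  have e3 := step a4 (by norm_num) (by norm_num) e4
  have e2 := step a3 (by norm_num) (by norm_num) e3
  have e1 := step a2 (by norm_num) (by norm_num) e2
  have e0 := step a1 (by norm_num) (by norm_num) e1
  have e7 := step a7 (by norm_num) (by norm_num) e3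
  have e8 := step a8 (by norm_num) (by norm_num) e7
  intro l hl
  interval_cases l <;> assumption

theorem letW_lt {l : ℕ} : ∀ a ∈ letW.getD l [], a < 11 := by
  intro a ha
  rcases lt_or_ge l letW.length with h | h
  · have := List.all_eq_true.1 words_lt (letW.getD l [])
      (List.mem_append_left _ (List.mem_append_left _ (by rw [List.getD_eq_getElem _ _ h]; exact List.getElem_mem h)))
    exact decide_eq_true_eq.mp (List.all_eq_true.1 this a ha)
  · rw [List.getD_eq_default _ _ h] at ha
    simp at ha

theorem center_bot : Subgroup.center Cfsg.Spor.Fi23 = ⊥ := by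
  haveI := simple_fi
  rcases Subgroup.Normal.eq_bot_or_eq_top (inferInstance : (Subgroup.center Cfsg.Spor.Fi23).Normal) with c | c
  · exact c
  · exfalso
    have : lgp imZ lamH = ⊤ := by
      rw [← centralizer_z]
      exact eq_top_iff.2 fun g _ => Subgroup.mem_centralizer_singleton_iff.2
        (Subgroup.mem_center_iff.1 (c ▸ Subgroup.mem_top (imZ 10)) g)
    have h := index_h
    rw [this, Subgroup.index_top] at h
    norm_num at h

/-- An element fixing the points of the letters is trivial. -/
theorem eq_one_of_q {g : Cfsg.Spor.Fi23}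
    (h : ∀ l < 10, g • (wval imZ (letW.getD l []) • p0) = wval imZ (letW.getD l []) • p0) : g = 1 := by
  have hc : ∀ l < 10, g * imZ l = imZ l * g := by
    intro l hl
    have e := let_conj l hl
    set u := wval imZ (letW.getD l [])
    have hmem : u⁻¹ * g * u ∈ lgp imZ lamH := by
      rw [← stab_eq, MulAction.mem_stabilizer_iff, mul_smul, mul_smul, h l hl, inv_smul_smul]
    have hz := z_comm hmem
    rw [e]
    calc g * (u * imZ 10 * u⁻¹) = u * (u⁻¹ * g * u * imZ 10) * u⁻¹ := by group
      _ = u * (imZ 10 * (u⁻¹ * g * u)) * u⁻¹ := by rw [hz]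
      _ = _ := by group
  have : g ∈ Subgroup.center Cfsg.Spor.Fi23 := by
    rw [Subgroup.mem_center_iff]
    intro x
    have hx : x ∈ Subgroup.closure (im '' Set.Iio 10) := closure_im ▸ Subgroup.mem_top x
    induction hx using Subgroup.closure_induction with
    | mem y hy =>
      obtain ⟨k, hk, rfl⟩ := hy
      rw [← imZ_low (show k < 10 from hk)]
      exact (hc k hk).symm
    | one => rw [one_mul, mul_one]
    | mul a b _ _ ha hb => rw [mul_assoc, hb, ← mul_assoc, ha, mul_assoc]
    | inv a _ ha =>
      calc a⁻¹ * g = a⁻¹ * (g * a) * a⁻¹ := by group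
        _ = a⁻¹ * (a * g) * a⁻¹ := by rw [ha]
        _ = g * a⁻¹ := by group
  rw [center_bot] at this
  exact Subgroup.mem_bot.1 this

theorem sameQ_iff {u w : List ℕ} (hu : ∀ l ∈ u, l < 11) (hw : ∀ l ∈ w, l < 11) :
    sameQ u w = true ↔ wval imZ u = wval imZ w := by
  have hq : ∀ l < 10, ((wval imZ (letW.getD l []) • p0 : Fin 31671) : ℕ) = qPts.getD l 0 := fun l hl => by
    rw [smul_word letW_lt]
    exact beq_iff_eq.1 (List.all_eq_true.1 q_pts l (List.mem_range.2 hl))
  constructor
  · intro h
    refine (inv_mul_eq_one.1 (eq_one_of_q (g := (wval imZ w)⁻¹ * wval imZ u) fun l hl => ?_)).symm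
    rw [mul_smul, inv_smul_eq_iff]
    refine Fin.ext ?_
    rw [smul_word hu, smul_word hw, hq l hl]
    have hm : qPts.getD l 0 ∈ qPts := by
      have : l < qPts.length := by rw [q_len]; exact hl
      rw [List.getD_eq_getElem _ _ this]
      exact List.getElem_mem this
    exact beq_iff_eq.1 (List.all_eq_true.1 h _ hm)
  · intro h
    refine List.all_eq_true.2 fun q hq' => beq_iff_eq.2 ?_
    obtain ⟨i, hi, rfl⟩ := List.getElem_of_mem hq'
    have hi' : i < 10 := q_len ▸ hi
    rw [← List.getD_eq_getElem qPts 0 hi, ← hq i hi', ← smul_word hu, ← smul_word hw, h]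

section Span

variable {G : Type*} [Group G] (t : ℕ → G)

/-- The product of the chosen elements below a bound. -/
def bitProd : ℕ → ℕ → G
  | 0, _ => 1
  | n + 1, m => bitProd n m * (if m.testBit n then t n else 1)

theorem bitProd_comm {n j : ℕ} (h : ∀ i < n, t i * t j = t j * t i) (m : ℕ) :
    bitProd t n m * t j = t j * bitProd t n m := by
  induction n with
  | zero => simp [bitProd]
  | succ n ih =>
    rw [bitProd]
    split_ifs
    · rw [mul_assoc, h n n.lt_succ_self, ← mul_assoc, ih fun i hi => h i (hi.trans n.lt_succ_self), mul_assoc]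
    · rw [mul_one, ih fun i hi => h i (hi.trans n.lt_succ_self)]

theorem bitProd_xor {n : ℕ} (hc : ∀ i < n, ∀ j < n, t i * t j = t j * t i) (hs : ∀ i < n, t i * t i = 1) (a b : ℕ) :
    bitProd t n (a ^^^ b) = bitProd t n a * bitProd t n b := by
  induction n with
  | zero => simp [bitProd]
  | succ n ih =>
    have e := bitProd_comm t (j := n) (n := n) (fun i hi => hc i (hi.trans n.lt_succ_self) n n.lt_succ_self) b
    have ih' := ih (fun i hi j hj => hc i (hi.trans n.lt_succ_self) j (hj.trans n.lt_succ_self))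
      fun i hi => hs i (hi.trans n.lt_succ_self)
    simp only [bitProd, Nat.testBit_xor, ih']
    cases a.testBit n <;> cases b.testBit n <;> simp only [Bool.false_xor, Bool.true_xor, Bool.not_false,
      Bool.not_true, ↓reduceIte, Bool.false_eq_true, mul_one]
    · rw [← mul_assoc]
    · rw [mul_assoc, mul_assoc, e]
    · have h2 := hs n n.lt_succ_self
      calc bitProd t n a * bitProd t n b = bitProd t n a * (bitProd t n b * (t n * t n)) := by rw [h2, mul_one]
        _ = bitProd t n a * (bitProd t n b * t n * t n) := by rw [← mul_assoc (bitProd t n b)]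
        _ = bitProd t n a * (t n * bitProd t n b * t n) := by rw [e]
        _ = _ := by simp only [mul_assoc]

theorem bitProd_zero (n : ℕ) : bitProd t n 0 = 1 := by
  induction n with
  | zero => rfl
  | succ n ih => simp [bitProd, ih]

theorem bitProd_mem {H : Subgroup G} {n : ℕ} (h : ∀ i < n, t i ∈ H) (m : ℕ) : bitProd t n m ∈ H := by
  induction n with
  | zero => exact one_mem H
  | succ n ih =>
    rw [bitProd]
    refine mul_mem (ih fun i hi => h i (hi.trans n.lt_succ_self)) ?_
    split_ifs
    exacts [h n n.lt_succ_self, one_mem H]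

theorem bitProd_mod {n : ℕ} (m : ℕ) : bitProd t n (m % 2 ^ n) = bitProd t n m := by
  have : ∀ k ≤ n, bitProd t k (m % 2 ^ n) = bitProd t k m := by
    intro k hk
    induction k with
    | zero => rfl
    | succ k ih => simp only [bitProd, ih (Nat.le_of_succ_le hk), Nat.testBit_mod_two_pow, show k < n from hk,
        decide_true, Bool.true_and]
  exact this n le_rfl

theorem bitProd_pow {n j : ℕ} (hj : j < n) : bitProd t n (2 ^ j) = t j := by
  induction n with
  | zero => omega
  | succ n ih =>
    rw [bitProd, Nat.testBit_two_pow]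
    rcases Nat.lt_succ_iff_lt_or_eq.1 hj with h | h
    · simp [ih h, h.ne]
    · subst h
      have : bitProd t j (2 ^ j) = 1 := by rw [← bitProd_mod, Nat.mod_self, bitProd_zero]
      simp [this]

theorem lin_conj {g : G} {c : ℕ → ℕ} {n : ℕ} (hc : ∀ i < n, ∀ j < n, t i * t j = t j * t i)
    (hs : ∀ i < n, t i * t i = 1) (h : ∀ j < n, g * t j * g⁻¹ = bitProd t n (c j)) :
    ∀ k ≤ n, ∀ m, g * bitProd t k m * g⁻¹ = bitProd t n (lin c k m) := by
  intro k hk
  induction k with
  | zero => intro m; simp [bitProd, lin, bitProd_zero]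
  | succ k ih =>
    intro m
    rw [bitProd, lin, bitProd_xor t hc hs, ← ih (Nat.le_of_succ_le hk) m]
    split_ifs
    · rw [← h k hk]; group
    · rw [bitProd_zero]; group

theorem wval_flatMap {im : ℕ → G} {f : ℕ → List ℕ} (n m : ℕ) :
    wval im ((List.range n).flatMap fun j => if m.testBit j then f j else []) =
      bitProd (fun j => wval im (f j)) n m := by
  induction n with
  | zero => simp [bitProd, wval]
  | succ n ih =>
    rw [List.range_succ, List.flatMap_append, wval_append, ih, bitProd]
    split_ifs with h <;> simp [h, wval]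

end Span

end SylTwo

end Cfsg.Lib.FiTwenty
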