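import Cfsg.Agent.FiTwenty.SylTwoDefs

/-!
Evaluation of the tests.
-/

set_option autoImplicit false
set_option maxRecDepth 20000
set_option Elab.async false

namespace Cfsg.Lib.FiTwenty.SylTwo

open Cfsg.Lib.CosetCert Cfsg.Lib.PermCert Cfsg.Lib.FiTwenty

theorem fix_ok0 : allFrom 0 32 fixOK = true := by decide +kernel

theorem fix_ok1 : allFrom 32 32 fixOK = true := by decide +kernel

theorem fix_ok2 : allFrom 64 32 fixOK = true := by decide +kernel

theorem fix_ok3 : allFrom 96 32 fixOK = true := by decide +kernel

theorem fix_ok {k : ℕ} (hk : k < 128) : fixOK k = true :=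
  allFrom_zero (allFrom_add (allFrom_add (allFrom_add fix_ok0 fix_ok1) fix_ok2) fix_ok3) hk

theorem subs_one : subs.contains 1 = true := by decide +kernel

theorem subs_bit : (subs.all fun B => B.testBit 0) = true := by decide +kernel

theorem subs_ok0 : ((subs.drop 0).take 41).all subOK = true := by decide +kernel

theorem subs_ok1 : ((subs.drop 41).take 41).all subOK = true := by decide +kernel

theorem subs_ok2 : ((subs.drop 82).take 41).all subOK = true := by decide +kernel

theorem subs_ok3 : ((subs.drop 123).take 41).all subOK = true := by decide +kernel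

theorem subs_split : subs = (subs.drop 0).take 41 ++ (subs.drop 41).take 41 ++ (subs.drop 82).take 41 ++
    (subs.drop 123).take 41 := by decide +kernel

theorem subs_ok : (subs.all subOK) = true := by
  rw [subs_split, List.all_append, List.all_append, List.all_append, subs_ok0, subs_ok1, subs_ok2, subs_ok3]
  rfl

end Cfsg.Lib.FiTwenty.SylTwo
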