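import Cfsg.Agent.FiTwenty.SylTwoData
import Cfsg.Agent.FiTwenty.TabData
import Cfsg.Agent.FiTwenty.Range
import Cfsg.Agent.FiTwenty.Relators

/-!
Tests for the Sylow 2-subgroup inside the normaliser of a clique.
-/

set_option autoImplicit false

namespace Cfsg.Lib.FiTwenty.SylTwo

open Cfsg.Lib.CosetCert Cfsg.Lib.PermCert

/-- Two words move the points of the letters alike. -/
def sameQ (u w : List ℕ) : Bool := qPts.all fun q => evalP sigTabs u q == evalP sigTabs w q

/-- A word for an element of the span. -/
def vW (m : ℕ) : List ℕ := (List.range 11).flatMap fun j => if m.testBit j then tW.getD j [] else []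

/-- A word for a coset representative. -/
def repW (k : ℕ) : List ℕ := (List.range 7).flatMap fun i => if k.testBit i then sW.getD i [] else []

/-- The linear map with given columns. -/
def lin (c : ℕ → ℕ) : ℕ → ℕ → ℕ
  | 0, _ => 0
  | n + 1, m => lin c n m ^^^ (if m.testBit n then c n else 0)

/-- A column of the action of a representative. -/
def col (k j : ℕ) : ℕ := (colT >>> (16 * (11 * k + j))) % 65536

/-- The image of a clique point under a representative. -/
def pim (k j : ℕ) : ℕ := (permT >>> (115 * k + 5 * j)) % 32

/-- A product of representatives, modulo the span. -/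
def mulI (a b : ℕ) : ℕ := (mulT >>> (8 * (128 * a + b))) % 256

/-- A representative squares into the span. -/
def sqId (k : ℕ) : Bool := mulI k k == 0

/-- The members of a mask. -/
def mem128 (A : ℕ) : List ℕ := (List.range 128).filter fun k => A.testBit k

/-- The mask of the fixed vectors of a mask. -/
def fixOf (A : ℕ) : ℕ := (mem128 A).foldl (fun F k => F &&& fixL.getD k 0) (2 ^ 2048 - 1)

/-- The extensions of a listed subgroup are listed and it is small. -/
def subOK (A : ℕ) : Bool :=
  ((List.range 128).all fun k => A.testBit k || !sqId k || !((mem128 A).all fun a => mulI a k == mulI k a) ||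
    subs.contains ((mem128 A).foldl (fun B a => B ||| (1 <<< mulI a k)) A)) &&
  (A == 1 || decide ((mem128 A).length * ((List.range 2048).filter fun m => (fixOf A).testBit m).length ≤ 1024))

/-- The fixed vectors of an involution are marked. -/
def fixOK (k : ℕ) : Bool :=
  !sqId k || (List.range 2048).all fun m => (lin (col k) 11 m != m) || (fixL.getD k 0).testBit m

end Cfsg.Lib.FiTwenty.SylTwo
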