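import Cfsg.Agent.FiTwenty.Order
import Cfsg.Agent.FiTwenty.ActComm
import Cfsg.Agent.FiTwenty.ActConj
import Cfsg.Agent.FiTwenty.ActNear
import Cfsg.Agent.FiTwenty.ActFar

/-!
The eleventh letter is a conjugate of a letter, centralised by the point stabiliser; products of two conjugates.
-/

set_option autoImplicit false
set_option maxRecDepth 20000
set_option Elab.async false

namespace Cfsg.Lib.FiTwenty

open Cfsg.Lib.CosetCert Cfsg.Lib.PermCert

theorem words_ok : (conjZ.all fun l => decide (l < 10)) = true ∧ (nearWord.all fun l => decide (l < 10)) = true ∧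
    ((rpt 2 nearProd ++ rpt 3 farProd).all fun l => decide (l < 11)) = true ∧ decide (conjMid < 10) = true ∧
    (evalW sigTabs nearWord 0 == subBase1) = true ∧ (evalW sigTabs [9] 0 == subBase2) = true ∧
    (ap sig10 subBase2 != subBase2) = true := by decide +kernel

theorem psi_apply {w : List ℕ} (h : ∀ l ∈ w, l < 11) (p : Fin 31671) :
    ((psi (wval imZ w) p : Fin 31671) : ℕ) = evalP sigTabs w p := by
  have e : psi (wval imZ w) = wval act w := by
    rw [map_wval, wval, wval]
    exact congrArg List.prod (List.map_congr_left fun l hl => (psi_act l (h l hl)).2)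
  rw [e, wval_act_apply h]

theorem word_eq {u w : List ℕ} (hu : ∀ l ∈ u, l < 11) (hw : ∀ l ∈ w, l < 11)
    (h : ∀ p < 31671, evalP sigTabs u p = evalP sigTabs w p) : wval imZ u = wval imZ w :=
  faithful_all.2 (Equiv.ext fun p => Fin.ext (by rw [psi_apply hu, psi_apply hw]; exact h _ p.isLt))

theorem z_comm {h : Cfsg.Spor.Fi23} (hh : h ∈ lgp imZ lamH) : h * imZ 10 = imZ 10 * h := by
  induction hh using Subgroup.closure_induction with
  | mem x hx =>
    obtain ⟨l, hl, rfl⟩ := hx
    have hl9 : l < 11 := (show ∀ l ∈ lamH, l < 11 by decide) l hl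
    have := word_eq (u := [l, 10]) (w := [10, l]) (by simp; omega) (by simp; omega) fun p hp => by
      have := allFrom_zero comm__all hp
      simp only [commAt, List.all_eq_true, beq_iff_eq, List.mem_range] at this
      exact this l ((show ∀ l ∈ lamH, l < 9 by decide) l hl)
    simpa [wval] using this
  | one => rw [one_mul, mul_one]
  | mul x y _ _ hx hy => rw [mul_assoc, hy, ← mul_assoc, hx, mul_assoc]
  | inv x _ hx =>
    calc x⁻¹ * imZ 10 = x⁻¹ * (imZ 10 * x) * x⁻¹ := by group
      _ = x⁻¹ * (x * imZ 10) * x⁻¹ := by rw [hx]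
      _ = imZ 10 * x⁻¹ := by group

theorem z_sq : imZ 10 * imZ 10 = 1 := tabled.sq 10 (by decide)

attribute [local irreducible] sig0 sig1 sig2 sig3 sig4 sig5 sig6 sig7 sig8 sig9 sig10 subPts subIdx subTree1Mask subTree2Mask
/-- The eleventh letter is conjugate to one of the ten. -/
theorem z_conj : ∃ u : Cfsg.Spor.Fi23, ∃ k < 10, imZ 10 = u * im k * u⁻¹ := by
  obtain ⟨hc, -, -, hm, -⟩ := words_ok
  simp only [List.all_eq_true, decide_eq_true_eq] at hc hm
  have e := word_eq (u := conjZ) (w := [10]) (fun l hl => Nat.lt_succ_of_lt (hc l hl)) (by simp) fun p hp => by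
    have := allFrom_zero conj__all hp
    rw [beq_iff_eq] at this
    rw [this]
    rfl
  have hu : ∀ l ∈ conjWord, l < 10 := fun l hl => hc l (List.mem_append_left _ hl)
  refine ⟨wval im conjWord, conjMid, hm, ?_⟩
  rw [wval_low hc, conjZ, wval_append, wval_cons, wval_reverse im fun l hl => good_im.inv (hu l hl),
    ← mul_assoc] at e
  simpa [wval] using e.symm

theorem z_moves : (evalP sigTabs [10] subBase2 != subBase2) = true := by decide +kernel

theorem z_ne : imZ 10 ≠ 1 := fun h => by
  have hb := cover_sub.2.2.1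
  have e := psi_apply (w := [10]) (by simp) ⟨subBase2, hb⟩
  rw [show wval imZ [10] = imZ 10 by simp [wval], h, map_one, Equiv.Perm.one_apply] at e
  exact bne_iff_ne.1 z_moves e.symm

theorem near_one : wval imZ nearProd ^ 2 = 1 := by
  have hl := words_ok.2.2.1
  simp only [List.all_eq_true, decide_eq_true_eq, List.mem_append] at hl
  rw [← wval_rpt, word_eq (w := []) (fun l h => hl l (Or.inl h)) (by simp) fun p hp => ?_]
  · rfl
  · have := allFrom_zero near__all hp
    rw [beq_iff_eq] at this
    exact this

theorem far_one : wval imZ farProd ^ 3 = 1 := by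
  rw [← wval_rpt, word_eq (w := []) (by decide) (by simp) fun p hp => ?_]
  · rfl
  · have := allFrom_zero far__all hp
    rw [beq_iff_eq] at this
    exact this

end Cfsg.Lib.FiTwenty
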